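import Mathlib
import Cfsg.Agent.Gs.Main
import Cfsg.Agent.H2.Subnormal
import Cfsg.Agent.Core.Cores

/-! A criterion for a strongly closed elementary abelian 2-subgroup to be normal modulo the core. -/

set_option autoImplicit false

namespace Cfsg.Agent.GC

open Subgroup Cfsg.Agent.GW Cfsg.Agent.LocalEven Cfsg.Agent.BG Cfsg.Agent.Gs

universe u

variable {G : Type u} [Group G] [Finite G] {A : Subgroup G}

/-- The trace of a component in the normalizer of `A`. -/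
structure Cfg (A D B X : Subgroup G) : Prop where
  sn : H2.SN 𝐍(A) D
  le : B ≤ A
  cent : D ≤ 𝐂(B)
  four : 4 ≤ B.relIndex A
  Xle : X ≤ D
  odd : Odd (Nat.card X)
  act : ∀ g ∈ D, ∃ x ∈ X, ∀ a ∈ A, g * a * g⁻¹ * (x * a * x⁻¹)⁻¹ ∈ B
  tr : ∀ a ∈ A, ∀ b ∈ A, a ∉ B → b ∉ B → ∃ x ∈ X, x * a * x⁻¹ * b⁻¹ ∈ B

theorem normal_of (hA : SC A) (h : ∀ D B X, ¬ Cfg A D B X) : (A ⊔ oddCore G).Normal := by
  have c : Ctx A ⊤ := ⟨hA, le_top, good_all ⊤⟩
  have h0 : ∀ L, ¬ Cp A ⊤ L := fun L hL => by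
    obtain ⟨X, h1, h2, h3, h4⟩ := c.exists_trans hL
    have hn : ∀ g ∈ 𝐍(A), ∀ a ∈ A, g * a * g⁻¹ ∈ A := fun g hg a ha => conj_mem_of_mem_normalizer hg ha
    refine h (L ⊓ 𝐍(A)) (A ⊓ Cent L) X ⟨?_, inf_le_left, c.norm_le_cent hL, c.four_le hL, h1, h2, ?_, ?_⟩
    · have := (H2.SN.of_subgroupOf hL.pc.1 hL.pc.2.1).inf 𝐍(A)
      rwa [top_inf_eq] at this
    · intro g hg
      obtain ⟨x, hx, e⟩ := h3 g hg
      exact ⟨x, hx, fun a ha => ⟨A.mul_mem (hn g hg.2 a ha) (A.inv_mem (hn x (h1 hx).2 a ha)), e a ha⟩⟩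
    · intro a ha b hb ha' hb'
      obtain ⟨x, hx, e⟩ := h4 a ha b hb (fun e => ha' ⟨ha, e⟩) (fun e => hb' ⟨hb, e⟩)
      exact ⟨x, hx, A.mul_mem (hn x (h1 hx).2 a ha) (A.inv_mem hb), e⟩
  have h1 : KK A ⊤ ≤ A ⊔ oddCore G := c.KK_le_sup.trans (sup_le (sup_le
    ((Core.map_pPrimeCore_subtype_le 2 ⊤).trans le_sup_right) le_sup_left) (iSup_le fun L => (h0 L.1 L.2).elim))
  refine normal_of_cj_le fun g => ?_
  rw [cj_sup, cj_eq_of_normal g (oddCore G)]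
  exact sup_le (cj_le_iff'.2 fun a ha => h1 (conj_mem_KK ha (mem_top g))) le_sup_right

omit [Finite G] in
theorem Cfg.not_cent {D B X : Subgroup G} (h : Cfg A D B X) : ¬ X ≤ 𝐂(A) := fun hc => by
  have h4 := h.four
  obtain ⟨a, ha, ha'⟩ : ∃ a ∈ A, a ∉ B := by
    by_contra hn
    push Not at hn
    rw [relIndex_eq_one.2 hn] at h4
    omega
  have : B.relIndex A = 2 := relIndex_eq_two_iff_exists_notMem_and.2 ⟨a, ha, ha', fun b hb => by
    by_cases hb' : b ∈ B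
    · exact .inr hb'
    · obtain ⟨x, hx, e⟩ := h.tr b hb a⁻¹ (inv_mem ha) hb' (fun e => ha' (inv_mem_iff.1 e))
      rw [← hc hx b hb, mul_inv_cancel_right, inv_inv] at e
      exact .inl e⟩
  omega

theorem card_modEq {p : ℕ} [Fact p.Prime] {R : Subgroup G} (hR : IsPGroup p R) (hn : R ≤ 𝐍(A)) :
    Nat.card A ≡ Nat.card (A ⊓ 𝐂(R) : Subgroup G) [MOD p] := by
  letI : MulAction R A := MulAction.compHom A (A.normalizerMonoidHom.comp (inclusion hn))
  have h := hR.card_modEq_card_fixedPoints A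
  have e : Nat.card (A ⊓ 𝐂(R) : Subgroup G) = Nat.card (MulAction.fixedPoints R A) := by
    refine Nat.card_congr ⟨fun x => ⟨⟨x, x.2.1⟩, fun r => Subtype.ext ?_⟩,
      fun x => ⟨x.1, x.1.2, fun r hr => ?_⟩, fun _ => rfl, fun _ => rfl⟩
    · change (r : G) * x * (r : G)⁻¹ = x
      rw [x.2.2 r r.2, mul_inv_cancel_right]
    · have : r * (x.1 : G) * r⁻¹ = x.1 := congrArg Subtype.val (x.2 ⟨r, hr⟩)
      exact mul_inv_eq_iff_eq_mul.1 this
  rwa [e]

theorem ncard_orb (N : Subgroup G) (a : G) :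
    {b | ∃ n ∈ N, n * a * n⁻¹ = b}.ncard = (cz a).relIndex N := by
  letI : MulAction N G := MulAction.compHom G (MulAut.conj.comp N.subtype)
  have h := MulAction.index_stabilizer N a
  have e1 : MulAction.stabilizer N a = (cz a).subgroupOf N := by
    ext n
    rw [MulAction.mem_stabilizer_iff, mem_subgroupOf, mem_centralizer_singleton_iff]
    exact mul_inv_eq_iff_eq_mul
  have e2 : MulAction.orbit N a = {b | ∃ n ∈ N, n * a * n⁻¹ = b} := by
    ext b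
    exact ⟨fun ⟨n, e⟩ => ⟨n, n.2, e⟩, fun ⟨n, hn, e⟩ => ⟨⟨n, hn⟩, e⟩⟩
  rw [e1, e2] at h
  exact h.symm

theorem card_cls_le {u v : G} (h : ∀ x : G, orderOf x = 2 → IsConj x u ∨ IsConj x v) :
    Nat.card {c : ConjClasses G // ∃ x ∈ c.carrier, orderOf x = 2} ≤ 2 := by
  have : {c : ConjClasses G | ∃ x ∈ c.carrier, orderOf x = 2} ⊆ {ConjClasses.mk u, ConjClasses.mk v} := by
    rintro c ⟨x, hx, h2⟩
    rw [ConjClasses.mem_carrier_iff_mk_eq] at hx
    subst hx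
    rcases h x h2 with e | e
    · exact .inl (ConjClasses.mk_eq_mk_iff_isConj.2 e)
    · exact .inr (ConjClasses.mk_eq_mk_iff_isConj.2 e)
  exact (Set.ncard_le_ncard this).trans ((Set.ncard_insert_le _ _).trans (by rw [Set.ncard_singleton]))

end Cfsg.Agent.GC
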