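import Mathlib
import Cfsg.Agent.FGS.A8

/-! A model of the Sylow 2-subgroup of the alternating group of degree eight. -/

set_option autoImplicit false

namespace Cfsg.Agent.GC

open Subgroup

theorem sylow_equiv {H M : Type*} [Group H] [Finite H] [Group M] {p : ℕ} [Fact p.Prime] (φ : M →* H)
    (hφ : Function.Injective φ) (hc : Nat.card M = p ^ (Nat.card H).factorization p) (P : Sylow p H) :
    Nonempty (P ≃* M) := by
  have h : Nat.card φ.range = p ^ (Nat.card H).factorization p := by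
    rw [← hc]; exact (Nat.card_congr (φ.ofInjective hφ).toEquiv).symm
  exact ⟨(Sylow.equiv P (Sylow.ofCard _ h)).trans (φ.ofInjective hφ).symm⟩

/-- Unitriangular matrices of degree four over the field with two elements. -/
@[ext] structure U4 where
  a : ZMod 2
  b : ZMod 2
  c : ZMod 2
  d : ZMod 2
  e : ZMod 2
  f : ZMod 2
  deriving DecidableEq

namespace U4

instance instFintypeU4 : Fintype U4 := Fintype.ofEquiv (ZMod 2 × ZMod 2 × ZMod 2 × ZMod 2 × ZMod 2 × ZMod 2)
  ⟨fun x => ⟨x.1, x.2.1, x.2.2.1, x.2.2.2.1, x.2.2.2.2.1, x.2.2.2.2.2⟩, fun x => (x.a, x.b, x.c, x.d, x.e, x.f),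
    fun _ => rfl, fun _ => rfl⟩

instance instMulU4 : Mul U4 := ⟨fun x y => ⟨x.a + y.a, x.b + y.b, x.c + y.c, x.d + y.d + x.a * y.b,
  x.e + y.e + x.b * y.c, x.f + y.f + x.a * y.e + x.d * y.c⟩⟩
instance instOneU4 : One U4 := ⟨⟨0, 0, 0, 0, 0, 0⟩⟩
instance instInvU4 : Inv U4 := ⟨fun x => ⟨-x.a, -x.b, -x.c, -x.d + x.a * x.b, -x.e + x.b * x.c,
  -x.f + x.a * x.e + x.d * x.c - x.a * x.b * x.c⟩⟩

theorem mul_def (x y : U4) : x * y = ⟨x.a + y.a, x.b + y.b, x.c + y.c, x.d + y.d + x.a * y.b,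
  x.e + y.e + x.b * y.c, x.f + y.f + x.a * y.e + x.d * y.c⟩ := rfl
theorem one_def : (1 : U4) = ⟨0, 0, 0, 0, 0, 0⟩ := rfl
theorem inv_def (x : U4) : x⁻¹ = ⟨-x.a, -x.b, -x.c, -x.d + x.a * x.b, -x.e + x.b * x.c,
  -x.f + x.a * x.e + x.d * x.c - x.a * x.b * x.c⟩ := rfl

instance instGroupU4 : Group U4 := Group.ofLeftAxioms
  (fun x y z => by ext <;> simp only [mul_def] <;> ring)
  (fun x => by ext <;> simp only [mul_def, one_def] <;> ring)
  (fun x => by ext <;> simp only [mul_def, one_def, inv_def] <;> ring)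

/-- The matrix. -/
def mat : U4 →* Matrix (Fin 4) (Fin 4) (ZMod 2) where
  toFun x := !![1, x.a, x.d, x.f; 0, 1, x.b, x.e; 0, 0, 1, x.c; 0, 0, 0, 1]
  map_one' := by decide
  map_mul' x y := by
    ext i j
    fin_cases i <;> fin_cases j <;> simp [mul_def, Matrix.mul_apply, Fin.sum_univ_four] <;> ring

theorem mat_inj : Function.Injective mat := fun _ _ h =>
  U4.ext (congrFun (congrFun h 0) 1) (congrFun (congrFun h 1) 2) (congrFun (congrFun h 2) 3)
    (congrFun (congrFun h 0) 2) (congrFun (congrFun h 1) 3) (congrFun (congrFun h 0) 3)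

theorem card_U4 : Nat.card U4 = 64 := by rw [Nat.card_eq_fintype_card]; rfl

theorem equiv_A8 (P : Sylow 2 (alternatingGroup (Fin 8))) : Nonempty (P ≃* U4) := by
  obtain ⟨e⟩ := FGS.gl4_equiv (F := ZMod 2) rfl
  refine sylow_equiv (e.toMonoidHom.comp mat.toHomUnits)
    (e.injective.comp fun x y h => mat_inj (congrArg Units.val h)) ?_ P
  rw [card_U4, FGS.card_A8]
  decide +kernel

/-- The elementary abelian subgroup of order sixteen. -/
def In0 (x : U4) : Prop := x.a = 0 ∧ x.c = 0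

instance decIn0 : DecidablePred In0 := fun _ => instDecidableAnd

theorem cen : ∀ x : U4, (∀ y, x * y = y * x) → x = 1 ∨ x = ⟨0, 0, 0, 0, 0, 1⟩ := by decide +kernel

theorem few : ∀ x : U4, x * x = 1 → ¬ In0 x →
    (Finset.univ.filter fun y => y * y = 1 ∧ x * y = y * x).card < 16 := by decide +kernel

theorem card0 : (Finset.univ.filter In0).card = 16 := by decide +kernel

theorem fuse : ∀ x : U4, x * x = 1 → ¬ In0 x → ∀ y, y * y = 1 → In0 (x⁻¹ * y) → ∃ s, s * x * s⁻¹ = y := by
  decide +kernel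

theorem mem_iff {B : Subgroup U4} (h1 : ∀ b ∈ B, b * b = 1) (h2 : ∀ a ∈ B, ∀ b ∈ B, a * b = b * a)
    (h3 : Nat.card B = 16) (x : U4) : x ∈ B ↔ In0 x := by
  classical
  have hc : (Finset.univ.filter fun y => y ∈ B).card = 16 := by
    rw [← h3, Nat.card_eq_fintype_card, Fintype.card_subtype]
  have h4 : ∀ x ∈ B, In0 x := fun x hx => by
    by_contra hn
    have := few x (h1 x hx) hn
    have h5 := Finset.card_le_card (s := Finset.univ.filter fun y => y ∈ B)
      (t := Finset.univ.filter fun y => y * y = 1 ∧ x * y = y * x) fun y hy => by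
        simp only [Finset.mem_filter, Finset.mem_univ, true_and] at hy ⊢
        exact ⟨h1 y hy, h2 x hx y hy⟩
    omega
  have h6 : (Finset.univ.filter fun y => y ∈ B) = Finset.univ.filter In0 :=
    Finset.eq_of_subset_of_card_le (fun y hy => by
      simp only [Finset.mem_filter, Finset.mem_univ, true_and] at hy ⊢
      exact h4 y hy) (by rw [hc, card0])
  simpa using Finset.ext_iff.1 h6 x

end U4

theorem a5_conj : ∀ x : alternatingGroup (Fin 5), x * x = 1 → x ≠ 1 → ∀ y : alternatingGroup (Fin 5),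
    y * y = 1 → y ≠ 1 → ∃ g, g * x * g⁻¹ = y := by
  decide +kernel

theorem card_a5 : Nat.card (alternatingGroup (Fin 5)) = 60 := by
  have := two_mul_nat_card_alternatingGroup (α := Fin 5)
  rw [Nat.card_perm, Nat.card_fin, show (5 : ℕ).factorial = 120 from rfl] at this
  omega

end Cfsg.Agent.GC
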