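import Mathlib
import Cfsg.Agent.GC.Basic
import Cfsg.Agent.GC.U4
import Cfsg.Agent.Core.SylowOf

/-! Extensions of an elementary abelian group of order sixteen by the alternating group of degree five with
Sylow 2-subgroups of the type of the alternating group of degree eight. -/

set_option autoImplicit false

namespace Cfsg.Agent.GC

open Subgroup Cfsg.Agent.GW Cfsg.Agent.LocalEven Cfsg.Agent.BG Cfsg.Agent.Gs

variable {H : Type*} [Group H] [Finite H]

/-- The local data. -/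
structure Dat (A T : Subgroup H) (f : H →* alternatingGroup (Fin 5)) (z : H) : Prop where
  normal : A.Normal
  card : Nat.card A = 16
  le : A ≤ T
  syl : IsSylowIn 2 T ⊤
  surj : Function.Surjective f
  kerC : f.ker ≤ 𝐂(A)
  kerT : T ⊓ f.ker ≤ A
  kerA : A ≤ f.ker
  cen : ∀ x ∈ T, x ∈ 𝐂(T) → x = 1 ∨ x = z
  ab : ∀ s ∈ T, ∀ t ∈ T, s * t * s⁻¹ * t⁻¹ ∈ A
  fuse : ∀ x ∈ T, x * x = 1 → x ∉ A → ∀ y ∈ T, y * y = 1 → x⁻¹ * y ∈ A → IsConj x y

namespace Dat

variable {A T : Subgroup H} {f : H →* alternatingGroup (Fin 5)} {z : H} (h : Dat A T f z)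
include h

theorem top_of {K : Subgroup H} (h1 : K.map f = ⊤) (h2 : f.ker ≤ K) : K = ⊤ := by
  rw [← comap_map_eq_self h2, h1, comap_top]

theorem cent_le : 𝐂(A) ≤ f.ker := by
  haveI := h.normal
  rcases ((inferInstance : (𝐂(A)).Normal).map f h.surj).eq_bot_or_eq_top with e | e
  · exact (Subgroup.map_eq_bot_iff _).1 e
  · have e1 := h.top_of e h.kerC
    have : (A : Set H) ⊆ {1, z} := fun a ha => h.cen a (h.le ha) fun t _ =>
      ((e1 ▸ mem_top t : t ∈ 𝐂(A)) a ha).symm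
    have h1 := (Set.ncard_le_ncard this).trans ((Set.ncard_insert_le _ _).trans (by rw [Set.ncard_singleton]))
    have h2 : (A : Set H).ncard = 16 := h.card
    omega

theorem five {a : H} (ha : a ∈ A) (h1 : a ≠ 1) : 5 ∣ (cz a).index := by
  haveI : Fact (Nat.Prime 5) := ⟨by norm_num⟩
  haveI := h.normal
  by_contra hn
  obtain ⟨R, hR⟩ := exists_isSylowIn 5 (cz a)
  have hR' : IsSylowIn 5 R ⊤ := hR.of_not_dvd_relIndex le_top (by rwa [relIndex_top_right])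
  have h2 := card_modEq (A := A) hR.pgrp (by rw [normalizer_eq_top]; exact le_top)
  have h3 : Nat.card (A ⊓ 𝐂(R) : Subgroup H) ∣ 2 ^ 4 := by
    have := card_dvd_of_le (inf_le_left : A ⊓ 𝐂(R) ≤ A)
    rwa [h.card] at this
  have h4 : Nat.card (A ⊓ 𝐂(R) : Subgroup H) ≠ 1 := fun e =>
    h1 (mem_bot.1 (card_eq_one.1 e ▸ (⟨ha, fun r hr => (hR.le hr a rfl).symm⟩ : a ∈ A ⊓ 𝐂(R))))
  obtain ⟨k, hk, e⟩ := (Nat.dvd_prime_pow Nat.prime_two).1 h3
  rw [h.card, e] at h2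
  rw [e] at h4
  have h5 : A ⊓ 𝐂(R) = A := eq_of_le_of_card_ge inf_le_left (by
    rw [e, h.card]
    interval_cases k <;> first | rfl | exact absurd rfl h4 | exact absurd h2 (by decide))
  have h6 : R.map f = ⊥ := (Subgroup.map_eq_bot_iff _).2 ((le_cent_comm.1 (h5.ge.trans inf_le_right)).trans h.cent_le)
  have h7 := (hR'.map f).not_dvd
  rw [h6, relIndex_bot_left, map_top_of_surjective f h.surj, card_top, card_a5] at h7
  exact h7 (by norm_num)

theorem two {a : H} (h1 : a ≠ 1) (hk : a * a = 1) (ho : ¬ 2 ∣ (cz a).index) : IsConj a z := by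
  obtain ⟨R, hR, hle⟩ := exists_isSylowIn_le (isPGroup_zpowers (p := 2) (x := a) (k := 1) (by simpa [sq] using hk))
    (zpowers_le.2 (mem_centralizer_singleton_iff.2 rfl) : zpowers a ≤ cz a)
  have hR' : IsSylowIn 2 R ⊤ := hR.of_not_dvd_relIndex le_top (by rwa [relIndex_top_right])
  obtain ⟨g, -, e⟩ := hR'.conj h.syl
  have h2 : g * a * g⁻¹ ∈ T := e ▸ conj_mem_cj (hle (mem_zpowers a))
  rcases h.cen _ h2 (fun t ht => by
    rw [← e] at ht
    obtain ⟨y, hy, rfl⟩ := mem_cj'.1 ht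
    have := mem_centralizer_singleton_iff.1 (hR.le hy)
    calc g * y * g⁻¹ * (g * a * g⁻¹) = g * (y * a) * g⁻¹ := by group
      _ = _ := by rw [this]; group) with e1 | e1
  · exact absurd e1 (conj_ne_one h1 g)
  · exact isConj_iff.2 ⟨g, e1⟩

theorem inner (hs : ∀ a ∈ A, a * a = 1) : ∃ v, ∀ a ∈ A, a ≠ 1 → IsConj a z ∨ IsConj a v := by
  haveI := h.normal
  by_cases hv : ∃ v ∈ A, v ≠ 1 ∧ ¬ IsConj v z
  swap
  · exact ⟨z, fun a ha h1 => .inl (by_contra fun e => hv ⟨a, ha, h1, e⟩)⟩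
  obtain ⟨v, hv, v1, vz⟩ := hv
  refine ⟨v, fun a ha h1 => ?_⟩
  by_contra hn
  push Not at hn
  have key : ∀ b ∈ A, b ≠ 1 → ¬ IsConj b z → 10 ≤ {c | ∃ n ∈ (⊤ : Subgroup H), n * b * n⁻¹ = c}.ncard :=
    fun b hb b1 bz => by
      rw [ncard_orb, relIndex_top_right]
      have e2 : 2 ∣ (cz b).index := by_contra fun e => bz (h.two b1 (hs b hb) e)
      have e5 := h.five hb b1
      have e0 : (cz b).index ≠ 0 := index_ne_zero_of_finite
      omega
  have hd : Disjoint {c | ∃ n ∈ (⊤ : Subgroup H), n * a * n⁻¹ = c} {c | ∃ n ∈ (⊤ : Subgroup H), n * v * n⁻¹ = c} := by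
    rw [Set.disjoint_left]
    rintro _ ⟨n, -, rfl⟩ ⟨m, -, e⟩
    exact hn.2 ((isConj_iff.2 ⟨n, rfl⟩).trans (isConj_iff.2 ⟨m, e⟩).symm)
  have h2 := Set.ncard_union_eq hd
  have h3 := Set.ncard_le_ncard (t := (A : Set H)) (Set.union_subset
    (s := {c | ∃ n ∈ (⊤ : Subgroup H), n * a * n⁻¹ = c}) (t := {c | ∃ n ∈ (⊤ : Subgroup H), n * v * n⁻¹ = c})
    (by rintro _ ⟨n, -, rfl⟩; exact h.normal.conj_mem a ha n) (by rintro _ ⟨n, -, rfl⟩; exact h.normal.conj_mem v hv n))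
  have h4 : (A : Set H).ncard = 16 := h.card
  have h5 := key a ha h1 hn.1
  have h6 := key v hv v1 vz
  omega

theorem outer {x y : H} (hx : x ∈ T) (x2 : x * x = 1) (xA : x ∉ A) (hy : y ∈ T) (y2 : y * y = 1) (yA : y ∉ A) :
    IsConj x y := by
  have y1 : f y ≠ 1 := fun e => yA (h.kerT ⟨hy, e⟩)
  obtain ⟨g, e⟩ := a5_conj (f x) (by rw [← map_mul, x2, map_one]) (fun e => xA (h.kerT ⟨hx, e⟩)) (f y)
    (by rw [← map_mul, y2, map_one]) y1
  obtain ⟨g, rfl⟩ := h.surj g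
  rw [← map_inv, ← map_mul, ← map_mul] at e
  set R := (zpowers (f y)).comap f
  have hn : T ≤ 𝐍(R) := le_normalizer_of_cj_le fun t ht => cj_le_iff'.2 fun r hr => by
    obtain ⟨k, hk⟩ := mem_zpowers_iff.1 (mem_comap.1 hr)
    have h1 : f (t * y * t⁻¹ * y⁻¹) = 1 := h.kerA (h.ab t ht y hy)
    simp only [map_mul, map_inv, mul_inv_eq_one] at h1
    refine mem_comap.2 (mem_zpowers_iff.2 ⟨k, ?_⟩)
    rw [map_mul, map_mul, map_inv, ← hk, ← conj_zpow, h1]
  have hS : IsSylowIn 2 (T ⊓ R) R := (h.syl.mono le_sup_left (le_top (a := T ⊔ R))).inf_of_le_normalizer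
    le_sup_right (sup_le hn le_normalizer)
  obtain ⟨r, hr, e1⟩ := hS.exists_conj_mem (x := g * x * g⁻¹) (k := 1) (mem_comap.2 (e ▸ mem_zpowers _))
    (by rw [pow_one, sq]; exact conj_sq x2 g)
  have e2 : f (r * (g * x * g⁻¹) * r⁻¹) = f y := by
    obtain ⟨k, hk⟩ := mem_zpowers_iff.1 (mem_comap.1 hr)
    rw [map_mul, map_mul, map_inv, e, ← hk, ← zpow_add_one, add_comm, zpow_one_add, mul_inv_cancel_right]
  refine ((isConj_iff.2 ⟨g, rfl⟩).trans (isConj_iff.2 ⟨r, rfl⟩)).trans (h.fuse _ e1.1 (conj_sq (conj_sq x2 g) r)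
    (fun e3 => y1 (e2 ▸ h.kerA e3)) y hy y2 (h.kerT (mem_inf.2 ⟨T.mul_mem (T.inv_mem e1.1) hy, ?_⟩)))
  rw [MonoidHom.mem_ker, map_mul, map_inv, e2, inv_mul_cancel]

theorem bot_of {D B : Subgroup H} (hD : D.IsSubnormal) (hB : B ≤ A) (hc : D ≤ 𝐂(B)) (hn : ¬ D ≤ 𝐂(A)) : B = ⊥ := by
  rcases (hD.map h.surj).eq_bot_or_top_of_isSimpleGroup inferInstance with e | e
  · exact (hn (((Subgroup.map_eq_bot_iff _).1 e).trans h.kerC)).elim
  · have e1 : 𝐂(B) = ⊤ := h.top_of (top_le_iff.1 (e.ge.trans (map_mono hc))) (h.kerC.trans (cent_anti hB))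
    refine eq_bot_iff.2 fun b hb => mem_bot.2 (by_contra fun b1 => ?_)
    have := h.five (hB hb) b1
    rw [top_le_iff.1 (e1.ge.trans (cent_le_cz hb)), index_top] at this
    omega

end Dat

section
variable {A T : Subgroup H} {f : H →* alternatingGroup (Fin 5)} [hA : A.Normal] (hs : ∀ a ∈ A, a * a = 1)
  (hk : f.ker = A ⊔ oddCore H) (hT : IsSylowIn 2 T ⊤) (hle : A ≤ T)
include hk hT hle

theorem ker_inf : T ⊓ f.ker ≤ A := fun x hx => by
  obtain ⟨a, ha, o, ho, rfl⟩ := (mem_sup_iff_of_le_normalizer (le_normalizer_of_normal)).1 (hk ▸ hx.2)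
  have h1 : o ∈ T := (T.mul_mem_cancel_left (hle ha)).1 hx.1
  rw [mem_bot.1 ((Core.disjoint_pPrimeCore_of_isPGroup hT.pgrp).le_bot ⟨h1, ho⟩), mul_one]
  exact ha

theorem card_T (hc : Nat.card A = 16) (hf : Function.Surjective f) : Nat.card T = 64 := by
  have h1 := card_inf_mul_relIndex f.ker T
  have h2 : f.ker ⊓ T = A := le_antisymm (inf_comm T _ ▸ ker_inf hk hT hle) (le_inf (hk ▸ le_sup_left) hle)
  have h3 := (hT.map f).card_eq
  rw [map_top_of_surjective f hf, card_top, card_a5] at h3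
  rw [h2, hc, relIndex_ker, h3] at h1
  rw [← h1]
  decide +kernel

include hs in
theorem exists_dat (hc : Nat.card A = 16) (hf : Function.Surjective f) (ε : T ≃* U4) : ∃ z, Dat A T f z := by
  have hcomm : ∀ a ∈ A, ∀ b ∈ A, a * b = b * a := fun a ha b hb => Gs.comm_of_sq hs ha hb
  have h0 : ∀ x : T, (x : H) ∈ A ↔ U4.In0 (ε x) := fun x => by
    rw [← U4.mem_iff (B := (A.subgroupOf T).map ε.toMonoidHom) ?_ ?_ ?_, ← mem_subgroupOf]
    · exact (mem_map_iff_mem (f := ε.toMonoidHom) ε.injective).symm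
    · rintro _ ⟨b, hb, rfl⟩
      rw [← map_mul, show b * b = 1 from Subtype.ext (hs b hb), map_one]
    · rintro _ ⟨a, ha, rfl⟩ _ ⟨b, hb, rfl⟩
      rw [← map_mul, ← map_mul, show a * b = b * a from Subtype.ext (hcomm a ha b hb)]
    · rw [Subgroup.card_map_of_injective ε.injective, card_subgroupOf hle, hc]
  refine ⟨ε.symm ⟨0, 0, 0, 0, 0, 1⟩, hA, hc, hle, hT, hf, ?_, ker_inf hk hT hle, hk ▸ le_sup_left, ?_, ?_, ?_⟩
  · rw [hk]
    exact sup_le (le_cent_of_sq hs) ((Core.pPrimeCore_le_centralizer_pCore 2).trans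
      (cent_anti (Core.le_pCore hA (pgroup_of_sq hs))))
  · intro x hx hc
    rcases U4.cen (ε ⟨x, hx⟩) (fun y => by
      obtain ⟨y, rfl⟩ := ε.surjective y
      rw [← map_mul, ← map_mul]
      exact congrArg ε (Subtype.ext (hc y y.2).symm)) with e | e
    · exact .inl (congrArg Subtype.val ((map_eq_one_iff ε ε.injective).1 e))
    · exact .inr (by rw [← e, ε.symm_apply_apply])
  · intro s hs t ht
    refine (h0 (⟨s, hs⟩ * ⟨t, ht⟩ * ⟨s, hs⟩⁻¹ * ⟨t, ht⟩⁻¹)).2 ?_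
    simp only [map_mul, map_inv]
    constructor <;> simp only [U4.mul_def, U4.inv_def] <;> ring
  · intro x hx x2 xA y hy y2 e
    obtain ⟨s, e1⟩ := U4.fuse (ε ⟨x, hx⟩) (by rw [← map_mul, ← map_one ε]; exact congrArg ε (Subtype.ext x2))
      (fun e => xA ((h0 ⟨x, hx⟩).2 e)) (ε ⟨y, hy⟩) (by rw [← map_mul, ← map_one ε]; exact congrArg ε (Subtype.ext y2))
      (by rw [← map_inv, ← map_mul]; exact (h0 _).1 e)
    obtain ⟨s, rfl⟩ := ε.surjective s
    rw [← map_inv, ← map_mul, ← map_mul] at e1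
    exact isConj_iff.2 ⟨s, congrArg Subtype.val (ε.injective e1)⟩

end

end Cfsg.Agent.GC
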