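import Mathlib
import Cfsg.Agent.Ab2.Main
import Cfsg.Agent.FGS.Radical
import Cfsg.Agent.Comp2.Sig1

set_option autoImplicit false

/-! Non-solvable groups all of whose proper subgroups have abelian centralizers of non-central elements: the radical. -/

namespace Cfsg.Agent.GC.CA

open Subgroup

variable {G : Type*} [Group G]

/-- Commutativity of a subgroup, elementwise. -/
def Ab (H : Subgroup G) : Prop := ∀ a ∈ H, ∀ b ∈ H, a * b = b * a

/-- The centralizer of an element. -/
abbrev cz (x : G) : Subgroup G := centralizer ({x} : Set G)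

theorem mem_cz {x y : G} : y ∈ cz x ↔ y * x = x * y := mem_centralizer_singleton_iff

theorem Ab.mono {H K : Subgroup G} (h : Ab K) (e : H ≤ K) : Ab H := fun a ha b hb => h a (e ha) b (e hb)

theorem ab_iff {H : Subgroup G} : Ab H ↔ IsMulCommutative H :=
  ⟨fun h => ⟨⟨fun a b => Subtype.ext (h a a.2 b b.2)⟩⟩, fun h a ha b hb =>
    congrArg Subtype.val (h.is_comm.comm (⟨a, ha⟩ : H) ⟨b, hb⟩)⟩

theorem Ab.solv {H : Subgroup G} (h : Ab H) : Group.IsSolvable H :=
  Group.isSolvable_of_comm (ab_iff.1 h).is_comm.comm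

theorem ab_map {G' : Type*} [Group G'] {f : G →* G'} (hf : Function.Injective f) {H : Subgroup G} :
    Ab (H.map f) ↔ Ab H := by
  refine ⟨fun h a ha b hb => hf ?_, ?_⟩
  · rw [map_mul, map_mul]; exact h _ ⟨a, ha, rfl⟩ _ ⟨b, hb, rfl⟩
  · rintro h _ ⟨a, ha, rfl⟩ _ ⟨b, hb, rfl⟩
    rw [← map_mul, ← map_mul, h a ha b hb]

theorem solv_of_comm {C M : Subgroup G} (hM : Group.IsSolvable M) (h : ⁅C, C⁆ ≤ M) : Group.IsSolvable C := by
  haveI : Group.IsSolvable (_root_.commutator C) := by
    have h1 : Group.IsSolvable ((_root_.commutator C).map C.subtype) :=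
      Core.solvable_of_le (by rwa [map_subtype_commutator]) hM
    exact Core.solvable_of_mulEquiv (equivMapOfInjective _ _ C.subtype_injective).symm h1
  haveI : Group.IsSolvable (Abelianization C) := Group.isSolvable_of_comm mul_comm
  exact Group.isSolvable_of_ker_le_range (_root_.commutator C).subtype Abelianization.of
    (by rw [Abelianization.ker_of, range_subtype])

theorem solv_of_quot {N : Subgroup G} [N.Normal] (h : Group.IsSolvable N) (h' : Group.IsSolvable (G ⧸ N)) :
    Group.IsSolvable G :=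
  Group.isSolvable_of_ker_le_range N.subtype (QuotientGroup.mk' N) (by rw [QuotientGroup.ker_mk', range_subtype])

theorem solv_top (h : Group.IsSolvable (⊤ : Subgroup G)) : Group.IsSolvable G :=
  Core.solvable_of_mulEquiv topEquiv h

theorem solv_two {a b : G} (ha : a * a = 1) (hb : b * b = 1) :
    ∃ K : Subgroup G, Group.IsSolvable K ∧ a ∈ K ∧ b ∈ K := by
  have z : ∀ c : G, Group.IsSolvable (zpowers c) := fun c => Core.solvable_of_isMulCommutative
  have ia : a⁻¹ = a := inv_eq_of_mul_eq_one_left ha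
  have ib : b⁻¹ = b := inv_eq_of_mul_eq_one_left hb
  have e : a * (a * b) * a⁻¹ = (a * b)⁻¹ := by rw [mul_inv_rev, ib, ← mul_assoc, ha, one_mul]
  have k : ∀ y ∈ zpowers (a * b), a * y * a⁻¹ ∈ zpowers (a * b) := by
    rintro _ ⟨n, rfl⟩
    simp only
    rw [← conj_zpow, e]
    exact zpow_mem (inv_mem (mem_zpowers _)) n
  refine ⟨zpowers (a * b) ⊔ zpowers a, Comp2.solvable_sup_of_le_normalizer (z _) (z _) (zpowers_le.2 ?_),
    mem_sup_right (mem_zpowers a), ?_⟩
  · refine mem_normalizer_iff.2 fun y => ⟨k y, fun hy => ?_⟩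
    have := k _ hy
    rwa [ia, ← mul_assoc, ← mul_assoc, ha, one_mul, mul_assoc, ha, mul_one] at this
  · have := mul_mem (mem_sup_right (S := zpowers (a * b)) (mem_zpowers a)) (mem_sup_left (mem_zpowers (a * b)))
    rwa [← mul_assoc, ha, one_mul] at this

variable [Finite G]

theorem solv_of_two (h : HasNormalPComplement 2 G) : Group.IsSolvable G := by
  haveI := Fact.mk Nat.prime_two
  obtain ⟨N, hN, h1, h2⟩ := Transfer.hasNormalPComplement_iff_exists_normal.1 h
  exact solv_of_quot (S0205.result (Nat.not_even_iff_odd.1 fun e => h1 (even_iff_two_dvd.1 e)))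
    (Core.solvable_of_isPGroup h2)

theorem solv_norm (S : Sylow 2 G) : Group.IsSolvable (normalizer ((S : Subgroup G) : Set G)) := by
  haveI := Fact.mk Nat.prime_two
  refine Ab2.solv_of_index (N := (S : Subgroup G).subgroupOf _)
    (Core.solvable_subgroupOf (Core.solvable_of_isPGroup S.isPGroup')) (Nat.not_even_iff_odd.1 fun e => ?_)
  exact S.not_dvd_index ((even_iff_two_dvd.1 e).trans (relIndex_dvd_index_of_le le_normalizer))

theorem not_ab_norm (hs : ¬ Group.IsSolvable G) (S : Sylow 2 G) : ¬ Ab (normalizer ((S : Subgroup G) : Set G)) := by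
  haveI := Fact.mk Nat.prime_two
  intro h
  exact hs (solv_of_two (Transfer.hasNormalPComplement_of_normalizer_le_centralizer S fun g hg s hs =>
    h s (le_normalizer hs) g hg))

theorem exists_solv {H : Subgroup G} (h : ¬ Ab H) : ∃ B ≤ H, Group.IsSolvable B ∧ ¬ Ab B ∧
    ∀ z ∈ H, H ≤ cz z → z ∈ B := by
  haveI := Fact.mk Nat.prime_two
  by_cases hs : Group.IsSolvable H
  · exact ⟨H, le_rfl, hs, h, fun z hz _ => hz⟩
  obtain ⟨S⟩ : Nonempty (Sylow 2 H) := inferInstance
  refine ⟨(normalizer ((S : Subgroup H) : Set H)).map H.subtype, map_subtype_le _,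
    Core.solvable_map (solv_norm S) _, fun e => not_ab_norm hs S ((ab_map H.subtype_injective).1 e),
    fun z hz e => ⟨⟨z, hz⟩, centralizer_le_normalizer _ fun s _ => Subtype.ext (mem_cz.1 (e s.2)), rfl⟩⟩

/-- The standing hypothesis. -/
structure Hyp (G : Type*) [Group G] : Prop where
  ns : ¬ Group.IsSolvable G
  K : ∀ H : Subgroup G, H ≠ ⊤ → ∀ x ∈ H, ¬ Ab (H ⊓ cz x) → H ≤ cz x
  nca : ∃ x, x ∉ center G ∧ ¬ Ab (cz x)

variable (h : Hyp G)
include h

omit [Finite G] in
theorem Hyp.ne_top {H : Subgroup G} (hH : Group.IsSolvable H) : H ≠ ⊤ := fun e => h.ns (solv_top (e ▸ hH))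

theorem Hyp.cent {N : Subgroup G} [N.Normal] (hN : ¬ Group.IsSolvable N) : centralizer (N : Set G) ≤ center G := by
  haveI := Fact.mk Nat.prime_two
  obtain ⟨S⟩ : Nonempty (Sylow 2 N) := inferInstance
  intro x hx
  have h1 := S.normalizer_sup_eq_top
  have h2 : normalizer ((S : Subgroup N).map N.subtype : Set G) ≠ ⊤ := fun e => by
    refine hN (solv_top (Core.solvable_of_le (fun g _ => mem_normalizer_iff.2 fun y => ?_) (solv_norm S)))
    have := mem_normalizer_iff.1 (e.ge (mem_top (g : G))) y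
    rwa [← mem_map_iff_mem N.subtype_injective, ← mem_map_iff_mem N.subtype_injective]
  have h3 : N ≤ cz x := fun n hn => mem_cz.2 (hx n hn)
  have h4 := h.K _ h2 x (centralizer_le_normalizer _ (centralizer_le (map_subtype_le _) hx)) fun e =>
    not_ab_norm hN S ((ab_map N.subtype_injective).1 (e.mono (le_inf (le_normalizer_map _)
      ((map_subtype_le _).trans h3))))
  exact mem_center_iff.2 fun g => mem_cz.1 ((sup_le h4 h3) (h1.ge (mem_top g)))

theorem Hyp.rad : solvableRadical G ≤ center G := by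
  obtain ⟨R, hR', _, hR, hb⟩ : ∃ R, solvableRadical G = R ∧ ∃ _ : R.Normal, Group.IsSolvable R ∧
      solvableRadical (G ⧸ R) = ⊥ :=
    ⟨_, rfl, FGS.solvableRadical_normal, FGS.solvableRadical_solvable, FGS.solvableRadical_quotient⟩
  rw [hR']
  have hle : ∀ N : Subgroup G, N.Normal → Group.IsSolvable N → N ≤ R := fun N _ k => hR' ▸ FGS.le_solvableRadical k
  have hq : ¬ Group.IsSolvable (G ⧸ R) := fun e => h.ns (solv_of_quot hR e)
  have hbot : ∀ N : Subgroup (G ⧸ R), N.Normal → Group.IsSolvable N → N = ⊥ := fun N _ k =>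
    le_bot_iff.1 (hb ▸ FGS.le_solvableRadical k)
  obtain ⟨x, hx, hx'⟩ := h.nca
  obtain ⟨B, hB, B1, B2, B3⟩ := exists_solv hx'
  have h1 : R ≤ cz x := le_sup_left.trans (h.K _ (h.ne_top (FGS.solvable_sup_of_normal hR B1)) x
    (mem_sup_right (B3 x (mem_cz.2 rfl) le_rfl)) fun e => B2 (e.mono (le_inf le_sup_right hB)))
  by_cases h2 : Group.IsSolvable (centralizer (R : Set G))
  swap
  · exact (le_centralizer_iff.1 le_rfl).trans (h.cent h2)
  exfalso
  have hxA : x ∈ centralizer (R : Set G) := fun r hr => mem_cz.1 (h1 hr)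
  have h3 := hle _ inferInstance h2
  have hRA : R ≤ centralizer (centralizer (R : Set G) : Set G) := le_centralizer_iff.1 le_rfl
  haveI hAn : (centralizer (R : Set G)).Normal := inferInstance
  generalize centralizer (R : Set G) = A at *
  have h4 : centralizer (A : Set G) ≤ R := by
    by_contra e
    exact hx (h.cent (fun k => e (hle _ inferInstance k)) (le_centralizer_iff.1 le_rfl hxA))
  have hA : Ab A := fun a ha b hb => hRA (h3 hb) a ha
  have E : ∀ t ∉ R, t * t ∈ R → ∀ a ∈ A, a * (t * a * t⁻¹) ∈ center G := by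
    intro t ht ht2 a0 ha0
    have hc := hAn.conj_mem a0 ha0 t
    have ha : a0 * (t * a0 * t⁻¹) ∈ A := mul_mem ha0 hc
    have hta : t * (a0 * (t * a0 * t⁻¹)) = a0 * (t * a0 * t⁻¹) * t := by
      have e1 := hRA ht2 a0 ha0
      have e2 := hA _ ha0 _ hc
      calc t * (a0 * (t * a0 * t⁻¹)) = t * (t * a0 * t⁻¹ * a0) := by rw [e2]
        _ = (t * t * a0) * t⁻¹ * a0 := by group
        _ = a0 * (t * t) * t⁻¹ * a0 := by rw [e1]
        _ = _ := by group
    generalize a0 * (t * a0 * t⁻¹) = a at ha hta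
    refine h.cent (N := normalClosure {t}) (fun k => ht (hle _ inferInstance k (subset_normalClosure rfl)))
      fun y hy => mem_cz.1 ((show normalClosure {t} ≤ cz a from ?_) hy)
    refine (closure_le _).2 fun y hy => ?_
    obtain ⟨t', ht', hy'⟩ := Group.mem_conjugatesOfSet_iff.1 hy
    obtain ⟨g, rfl⟩ := isConj_iff.1 ((show t' = t from ht') ▸ hy')
    have q : (t : G ⧸ R) * t = 1 := (QuotientGroup.eq_one_iff _).2 ht2
    obtain ⟨K, K1, K2, K3⟩ := solv_two q (b := ((g * t * g⁻¹ : G) : G ⧸ R)) (by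
      rw [← QuotientGroup.mk_mul, QuotientGroup.eq_one_iff]
      simpa [mul_assoc] using (inferInstance : R.Normal).conj_mem _ ht2 g)
    have hK : K.comap (QuotientGroup.mk' R) ≠ ⊤ := fun e => hq (solv_top (Core.solvable_of_le (fun y _ => by
      obtain ⟨y, rfl⟩ := QuotientGroup.mk_surjective y
      exact e.ge (mem_top y)) K1))
    have hAK : A ≤ K.comap (QuotientGroup.mk' R) := fun b hb => by
      rw [mem_comap, QuotientGroup.mk'_apply, (QuotientGroup.eq_one_iff b).2 (h3 hb)]; exact K.one_mem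
    refine h.K _ hK a (hAK ha) (fun e => ht (h4 fun b hb => ?_)) K3
    exact e b ⟨hAK hb, mem_cz.2 (hA _ hb _ ha)⟩ t ⟨K2, mem_cz.2 hta⟩
  obtain ⟨t', ht'⟩ := exists_prime_orderOf_dvd_card' (G := G ⧸ R) (hp := ⟨Nat.prime_two⟩) 2 (by
    by_contra e
    exact hq (S0205.result (Nat.not_even_iff_odd.1 fun k => e (even_iff_two_dvd.1 k))))
  obtain ⟨t, rfl⟩ := QuotientGroup.mk_surjective t'
  have t1 : (t : G ⧸ R) ≠ 1 := fun e => by rw [e, orderOf_one] at ht'; omega
  have t2 : (t : G ⧸ R) * t = 1 := by rw [← sq, ← ht', pow_orderOf_eq_one]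
  let K : Subgroup G := (centralizer (A.map (QuotientGroup.mk' (center G)) : Set (G ⧸ center G))).comap
    (QuotientGroup.mk' (center G))
  haveI : (A.map (QuotientGroup.mk' (center G))).Normal := hAn.map _ (QuotientGroup.mk'_surjective _)
  have hK : ∀ k, k ∈ K ↔ ∀ a ∈ A, (a * k)⁻¹ * (k * a) ∈ center G := fun k =>
    ⟨fun e a ha => QuotientGroup.eq.1 (e _ ⟨a, ha, rfl⟩), by
      rintro e _ ⟨a, ha, rfl⟩; exact QuotientGroup.eq.2 (e a ha)⟩
  have hKR : K ≤ R := hle K inferInstance (solv_of_comm hR (commutator_le.2 fun k hk l hl => h4 fun a ha => by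
    have e1 := mem_center_iff.1 ((hK k).1 hk a ha)
    have e2 := mem_center_iff.1 ((hK l).1 hl a ha)
    have f1 : k * a = a * k * ((a * k)⁻¹ * (k * a)) := by group
    have f2 : l * a = a * l * ((a * l)⁻¹ * (l * a)) := by group
    generalize (a * k)⁻¹ * (k * a) = c at e1 f1
    generalize (a * l)⁻¹ * (l * a) = d at e2 f2
    have g1 : k * l * a = a * (k * l) * (c * d) := by
      rw [mul_assoc, f2, ← mul_assoc, ← mul_assoc, f1, mul_assoc _ c, ← e1 l]; group
    have g2 : l * k * a = a * (l * k) * (c * d) := by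
      rw [mul_assoc, f1, ← mul_assoc, ← mul_assoc, f2, mul_assoc _ d, ← e2 k, e2 c]; group
    have g3 := mem_center_iff.1 (mul_mem (mem_center_iff.2 e1) (mem_center_iff.2 e2))
    generalize c * d = z at g1 g2 g3
    have g4 : (l * k)⁻¹ * a = a * z⁻¹ * (l * k)⁻¹ := by
      have : a * (l * k) = l * k * a * z⁻¹ := by rw [g2]; group
      calc (l * k)⁻¹ * a = (l * k)⁻¹ * (a * (l * k)) * (l * k)⁻¹ := by group
        _ = _ := by rw [this]; group
    rw [commutatorElement_def]
    calc a * (k * l * k⁻¹ * l⁻¹) = a * (k * l) * z * z⁻¹ * (l * k)⁻¹ := by group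
      _ = k * l * (a * z⁻¹ * (l * k)⁻¹) := by rw [← g1]; group
      _ = _ := by rw [← g4]; group))
  refine t1 (mem_bot.1 (hbot (center _) inferInstance Core.solvable_of_isMulCommutative ▸
    mem_center_iff.2 fun g => ?_))
  obtain ⟨g, rfl⟩ := QuotientGroup.mk_surjective g
  have s1 : t ∉ R := fun e => t1 ((QuotientGroup.eq_one_iff _).2 e)
  have s2 : t * t ∈ R := (QuotientGroup.eq_one_iff _).1 t2
  have s3 : g * t * g⁻¹ ∉ R := fun e => s1 (by simpa [mul_assoc] using (inferInstance : R.Normal).conj_mem _ e g⁻¹)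
  have s4 : g * t * g⁻¹ * (g * t * g⁻¹) ∈ R := by
    simpa [mul_assoc] using (inferInstance : R.Normal).conj_mem _ s2 g
  have s5 : t⁻¹ * (g * t * g⁻¹) ∈ K := (hK _).2 fun a ha => by
    generalize g * t * g⁻¹ = u at s3 s4
    have := (inferInstance : (center G).Normal).conj_mem _
      (mul_mem (inv_mem (E t s1 s2 a ha)) (E u s3 s4 a ha)) u⁻¹
    convert this using 1
    group
  have := QuotientGroup.eq.2 (hKR s5)
  rw [QuotientGroup.mk_mul, QuotientGroup.mk_mul, QuotientGroup.mk_inv] at this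
  exact (eq_mul_inv_iff_mul_eq.1 this).symm ▸ rfl

end Cfsg.Agent.GC.CA
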