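import Mathlib
import Cfsg.Agent.GC.CA1

set_option autoImplicit false
set_option linter.style.haveILetI false
set_option linter.unusedSectionVars false

/-! Non-solvable groups all of whose proper subgroups have abelian centralizers of non-central elements: 2-elements. -/

namespace Cfsg.Agent.GC.CA

open Subgroup
open scoped commutatorElement

variable {G : Type*} [Group G]

theorem cz_conj {g x y : G} : g * y * g⁻¹ ∈ cz (g * x * g⁻¹) ↔ y ∈ cz x := by
  rw [mem_cz, mem_cz, ← MulAut.conj_apply, ← MulAut.conj_apply, ← map_mul, ← map_mul,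
    (MulAut.conj g).apply_eq_iff_eq]

theorem card_cz_conj (g x : G) : Nat.card (cz (g * x * g⁻¹)) = Nat.card (cz x) :=
  (Nat.card_congr ((MulAut.conj g).toEquiv.subtypeEquiv fun _ => cz_conj.symm)).symm

theorem cz_mul {x z : G} (hz : z ∈ center G) : cz (x * z) = cz x := by
  ext y
  rw [mem_cz, mem_cz, mul_assoc, ← mem_center_iff.1 hz y, ← mul_assoc, ← mul_assoc, mul_left_inj]

theorem cz_of_mk {x y : G} (e : (x : G ⧸ center G) = y) : cz x = cz y := by
  rw [← cz_mul (QuotientGroup.eq.1 e), mul_inv_cancel_left]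

theorem cz_ne_top {x : G} (hx : x ∉ center G) : cz x ≠ ⊤ := fun e =>
  hx (mem_center_iff.2 fun g => mem_cz.1 (e.ge (mem_top g)))

theorem le_cz {x : G} : center G ≤ cz x := fun z hz => mem_cz.2 (mem_center_iff.1 hz x).symm

theorem mem_of_sq {H : Subgroup G} {g : G} {m : ℕ} (hm : Odd m) (h1 : g ^ m ∈ H) (h2 : g * g ∈ H) : g ∈ H := by
  obtain ⟨k, rfl⟩ := hm
  rw [pow_succ, pow_mul, sq] at h1
  exact (mul_mem_cancel_left (pow_mem h2 k)).1 h1

/-- An element commuting with `t` modulo the centre has its square in the centralizer of `t`. -/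
theorem sq_mem_cz {t g : G} (ht : (t : G ⧸ center G) * t = 1) (hg : (g : G ⧸ center G) * t = t * g) :
    g * g ∈ cz t := by
  have h1 := mem_center_iff.1 ((QuotientGroup.eq_one_iff (t * t)).1 ht)
  have h2 := mem_center_iff.1 (QuotientGroup.eq.1 (show ((t * g : G) : G ⧸ center G) = (g * t : G) from hg.symm))
  have h3 : g * t = t * g * ((t * g)⁻¹ * (g * t)) := by group
  generalize (t * g)⁻¹ * (g * t) = c at h2 h3
  have h4 : g * (t * t) = t * t * g * (c * c) := by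
    rw [← mul_assoc, h3, mul_assoc _ c, ← h2 t, mul_assoc t, ← mul_assoc g, h3]; group
  have h5 : c * c = 1 := by rwa [h1 g, left_eq_mul] at h4
  rw [mem_cz, mul_assoc, h3, ← mul_assoc, ← mul_assoc, h3, mul_assoc _ c, ← h2 g]
  calc t * g * (g * c) * c = t * (g * g) * (c * c) := by group
    _ = _ := by rw [h5, mul_one]

theorem comm_mem_cz {t a b : G} (ha : (a : G ⧸ center G) * t = t * a) (hb : (b : G ⧸ center G) * t = t * b) :
    ⁅a, b⁆ ∈ cz t := by
  have e1 := mem_center_iff.1 (QuotientGroup.eq.1 (show ((t * a : G) : G ⧸ center G) = (a * t : G) from ha.symm))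
  have e2 := mem_center_iff.1 (QuotientGroup.eq.1 (show ((t * b : G) : G ⧸ center G) = (b * t : G) from hb.symm))
  have f1 : a * t = t * a * ((t * a)⁻¹ * (a * t)) := by group
  have f2 : b * t = t * b * ((t * b)⁻¹ * (b * t)) := by group
  generalize (t * a)⁻¹ * (a * t) = c at e1 f1
  generalize (t * b)⁻¹ * (b * t) = d at e2 f2
  have g1 : a * b * t = t * (a * b) * (c * d) := by
    rw [mul_assoc, f2, ← mul_assoc, ← mul_assoc, f1, mul_assoc _ c, ← e1 b]; group
  have g2 : b * a * t = t * (b * a) * (c * d) := by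
    rw [mul_assoc, f1, ← mul_assoc, ← mul_assoc, f2, mul_assoc _ d, ← e2 a, e2 c]; group
  have g3 := mem_center_iff.1 (inv_mem (mul_mem (mem_center_iff.2 e1) (mem_center_iff.2 e2)))
  generalize c * d = z at g1 g2 g3
  have g4 : (b * a)⁻¹ * t = t * z⁻¹ * (b * a)⁻¹ := by
    have : t * (b * a) = b * a * t * z⁻¹ := by rw [g2]; group
    calc (b * a)⁻¹ * t = (b * a)⁻¹ * (t * (b * a)) * (b * a)⁻¹ := by group
      _ = _ := by rw [this]; group
  rw [mem_cz, commutatorElement_def]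
  calc a * b * a⁻¹ * b⁻¹ * t = a * b * ((b * a)⁻¹ * t) := by group
    _ = a * b * t * z⁻¹ * (b * a)⁻¹ := by rw [g4]; group
    _ = _ := by rw [g1]; group

variable [Finite G]

theorem grow {T M : Subgroup G} (hT : T ≤ M) {n : ℕ} (hn : Nat.card T = 2 ^ n) (h : 2 ^ (n + 1) ∣ Nat.card M) :
    ∃ K ≤ M, T ≤ K ∧ Nat.card K = 2 ^ (n + 1) ∧ ∃ s ∈ K, s ∉ T ∧ s ∈ normalizer (T : Set G) ∧ s * s ∈ T ∧
      ∀ k ∈ K, k ∈ T ∨ s * k ∈ T := by
  haveI := Fact.mk Nat.prime_two
  obtain ⟨K, h1, h2⟩ := Sylow.exists_subgroup_card_pow_succ h (H := T.subgroupOf M)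
    ((Nat.card_congr (subgroupOfEquivOfLe hT).toEquiv).trans hn)
  have h3 : T ≤ K.map M.subtype := fun t ht => ⟨⟨t, hT ht⟩, h2 ht, rfl⟩
  have h4 : Nat.card (K.map M.subtype) = 2 ^ (n + 1) := by rw [Core.card_map_subtype, h1]
  refine ⟨_, map_subtype_le _, h3, h4, ?_⟩
  generalize K.map M.subtype = L at h3 h4
  have h5 : (T.subgroupOf L).index = 2 := by
    have := Core.card_mul_relIndex h3
    rw [hn, h4, pow_succ] at this
    exact Nat.eq_of_mul_eq_mul_left (by positivity) this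
  obtain ⟨s, hs⟩ : ∃ s : L, s ∉ T.subgroupOf L := by
    by_contra! e
    rw [(eq_top_iff' _).2 e, index_top] at h5; omega
  refine ⟨s, s.2, hs, (normal_subgroupOf_iff_le_normalizer h3).1 (normal_of_index_eq_two h5) s.2,
    mul_self_mem_of_index_two h5 s, fun k hk => ?_⟩
  by_cases e : k ∈ T
  · exact .inl e
  · exact .inr ((mul_mem_iff_of_index_two h5 (a := s) (b := ⟨k, hk⟩)).2 (iff_of_false hs e))

theorem two_elt {T : Subgroup G} {n : ℕ} (hn : Nat.card T = 2 ^ n) {t : G} (ht : t ∈ T) : t ^ 2 ^ n = 1 := by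
  have := pow_card_eq_one' (x := (⟨t, ht⟩ : T))
  rw [hn] at this
  exact congrArg Subtype.val this

theorem lift_two {y : G ⧸ center G} {k : ℕ} (hy : y ^ 2 ^ k = 1) : ∃ x : G, (x : G ⧸ center G) = y ∧ ∃ j, x ^ 2 ^ j = 1 := by
  obtain ⟨x, rfl⟩ := QuotientGroup.mk_surjective y
  obtain ⟨j, m, hm, e⟩ := Nat.exists_eq_two_pow_mul_odd (orderOf_pos x).ne'
  obtain ⟨a, ha⟩ := exists_pow_eq_self_of_coprime (x := (x : G ⧸ center G)) (n := m)
    (Nat.Coprime.coprime_dvd_right (orderOf_dvd_of_pow_eq_one hy) ((Nat.coprime_two_right.2 hm).pow_right k))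
  refine ⟨(x ^ m) ^ a, by rw [QuotientGroup.mk_pow, QuotientGroup.mk_pow, ha], j, ?_⟩
  rw [← pow_mul, mul_comm a, pow_mul, ← pow_mul x, mul_comm m, ← e, pow_orderOf_eq_one, one_pow]

theorem ab_of_two {S : Sylow 2 G} (hS : Ab (S : Subgroup G)) {T : Subgroup G} (hT : IsPGroup 2 T) : Ab T :=
  ab_iff.2 (Ab2.two_comm S (ab_iff.1 hS) hT)

theorem exists_T {M : Subgroup G} {P : Subgroup G} (hP : IsPGroup 2 P) (hM : P ≤ M) :
    ∃ T ≤ M, P ≤ T ∧ Nat.card T = 2 ^ (Nat.card M).factorization 2 := by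
  haveI := Fact.mk Nat.prime_two
  obtain ⟨T, hT⟩ := (hP.comap_subtype (K := M)).exists_le_sylow
  exact ⟨(T : Subgroup M).map M.subtype, map_subtype_le _, fun p hp => ⟨⟨p, hM hp⟩, hT hp, rfl⟩,
    by rw [Core.card_map_subtype, T.card_eq_multiplicity]⟩

theorem two_zp {t : G} {k : ℕ} (ht : t ^ 2 ^ k = 1) : IsPGroup 2 (zpowers t) := by
  rintro ⟨_, n, rfl⟩
  exact ⟨k, Subtype.ext (by simp only [SubmonoidClass.coe_pow, OneMemClass.coe_one]; rw [← zpow_natCast, ← zpow_mul,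
    mul_comm, zpow_mul, zpow_natCast, ht, one_zpow])⟩

variable (h : Hyp G)
include h

theorem Hyp.le_center {N : Subgroup G} [N.Normal] (hN : Group.IsSolvable N) : N ≤ center G :=
  (FGS.le_solvableRadical hN).trans h.rad

theorem Hyp.bot {N : Subgroup (G ⧸ center G)} [N.Normal] (hN : Group.IsSolvable N) : N = ⊥ := by
  refine eq_bot_iff.2 fun y hy => ?_
  obtain ⟨y, rfl⟩ := QuotientGroup.mk_surjective y
  exact (QuotientGroup.eq_one_iff y).2 (h.rad (FGS.comap_solvableRadical_le (center G)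
    Core.solvable_of_isMulCommutative (FGS.le_solvableRadical hN hy)))

theorem Hyp.cq {x g : G} (hx : x ∉ center G) (hn : ¬ Ab (cz x)) (e : cz (g * x * g⁻¹) = cz x) : g ∈ cz x := by
  refine h.K (normalizer (cz x : Set G)) (fun e => hx ?_) x (le_normalizer (mem_cz.2 rfl))
    (fun k => hn (k.mono (le_inf le_normalizer le_rfl))) (mem_normalizer_iff.2 fun y => by rw [← cz_conj (g := g), e])
  haveI := normalizer_eq_top_iff.1 e
  exact h.le_center (N := centralizer (cz x : Set G)) (Ab.solv fun a ha b hb =>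
    hb a (mem_cz.2 (ha x (mem_cz.2 rfl)).symm)) fun y hy => mem_cz.1 hy

theorem Hyp.wk {S : Sylow 2 G} {w : G} (hw : Inv.WkCl (S : Subgroup G) w) : w ∈ center G := by
  refine (QuotientGroup.eq_one_iff w).1 (mem_bot.1 (h.bot (N := center _) Core.solvable_of_isMulCommutative ▸
    mem_center_iff.2 fun g => ?_))
  obtain ⟨g, rfl⟩ := QuotientGroup.mk_surjective g
  have := (QuotientGroup.eq_one_iff _).2 (h.le_center (N := oddCore G) (S0205.result Inv.odd_card_oddCore)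
    (Inv.zstar_elem hw g))
  simp only [QuotientGroup.mk_mul, QuotientGroup.mk_inv] at this
  exact (mul_inv_eq_iff_eq_mul.1 (mul_inv_eq_one.1 this)).symm

theorem Hyp.center_sylow {S : Sylow 2 G} (hS : ¬ Ab (S : Subgroup G)) {z : G} (hz : z ∈ (S : Subgroup G))
    (hc : (S : Subgroup G) ≤ cz z) : z ∈ center G := by
  haveI := Fact.mk Nat.prime_two
  by_contra h1
  refine h1 (h.wk (S := S) ⟨hz, fun g hg => ?_⟩)
  have hn : ¬ Ab (cz z) := fun e => hS (e.mono hc)
  by_cases hA : Ab (cz z ⊓ cz (g * z * g⁻¹))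
  swap
  · have := h.cq h1 hn (eq_of_le_of_card_ge (h.K _ (cz_ne_top h1) _ (hc hg) hA) (card_cz_conj g z).le).symm
    rw [mem_cz.1 this, mul_inv_cancel_right]
  exfalso
  have hcard := card_cz_conj g z
  generalize g * z * g⁻¹ = y at *
  have hP : (S : Subgroup G) ⊓ cz y ≤ cz z ⊓ cz y := inf_le_inf_right _ hc
  obtain ⟨T, T1, T2, T3⟩ := exists_T (S.isPGroup'.to_le inf_le_left) hP
  have hzT : z ∈ T := T2 ⟨hz, mem_cz.2 (mem_cz.1 (hc hg)).symm⟩
  have hyT : y ∈ T := T2 ⟨hg, mem_cz.2 rfl⟩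
  have T4 : ¬ 2 ^ ((Nat.card (cz z ⊓ cz y : Subgroup G)).factorization 2 + 1) ∣ Nat.card (cz z ⊓ cz y : Subgroup G) :=
    Nat.pow_succ_factorization_not_dvd Nat.card_pos.ne' Nat.prime_two
  generalize (Nat.card (cz z ⊓ cz y : Subgroup G)).factorization 2 = n at T3 T4
  have h2 : 2 ^ (n + 1) ∣ Nat.card (cz z) := by
    refine dvd_trans ?_ (card_dvd_of_le hc)
    rw [S.card_eq_multiplicity]
    have h3 : n ≤ (Nat.card G).factorization 2 :=
      (Nat.prime_two.pow_dvd_iff_le_factorization Nat.card_pos.ne').1 (T3 ▸ card_subgroup_dvd_card T)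
    refine pow_dvd_pow 2 (lt_of_le_of_ne h3 fun e => hS ?_)
    exact ab_of_two (S := Sylow.ofCard T (e ▸ T3)) (hA.mono T1) S.isPGroup'
  have hN : normalizer (T : Set G) ≠ ⊤ := fun e => by
    haveI := normalizer_eq_top_iff.1 e
    exact h1 (h.le_center (hA.mono T1).solv hzT)
  have key : ∀ a b : G, a ∈ T → b ∈ T → cz a ⊓ cz b = cz z ⊓ cz y → 2 ^ (n + 1) ∣ Nat.card (cz a) →
      normalizer (T : Set G) ≤ cz a ∧ ¬ normalizer (T : Set G) ≤ cz b := by
    intro a b ha hb e hd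
    obtain ⟨K, K1, K2, K3, s, s1, s2, s3, -, s5⟩ := grow (T1.trans (e.ge.trans inf_le_left)) T3 hd
    have hs : s ∉ cz b := fun k => T4 (K3 ▸ e ▸ card_dvd_of_le (le_inf K1 fun c hc => by
      rcases s5 c hc with r | r
      · exact (e.ge (T1 r)).2
      · exact (mul_mem_cancel_left k).1 (e.ge (T1 r)).2))
    exact ⟨h.K _ hN a (le_normalizer ha) fun k => hs (mem_cz.2 (k s ⟨s3, K1 s1⟩ b
      ⟨le_normalizer hb, (e.ge (T1 hb)).1⟩)), fun k => hs (k s3)⟩
  exact (key z y hzT hyT rfl h2).2 (key y z hyT hzT (inf_comm _ _) (hcard ▸ h2)).1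

theorem Hyp.ab_two {S : Sylow 2 G} (hS : ¬ Ab (S : Subgroup G)) {t : G} {k : ℕ} (ht : t ^ 2 ^ k = 1)
    (h1 : t ∉ center G) : Ab (cz t) := by
  haveI := Fact.mk Nat.prime_two
  by_contra h2
  obtain ⟨t, ⟨⟨k, ht⟩, h1, h2⟩, hm⟩ := Set.exists_max_image {t : G | (∃ k, t ^ 2 ^ k = 1) ∧ t ∉ center G ∧ ¬ Ab (cz t)}
    (fun t => (Nat.card (cz t)).factorization 2) (Set.toFinite _) ⟨t, ⟨k, ht⟩, h1, h2⟩
  obtain ⟨T, T1, T2, T3⟩ := exists_T (two_zp ht) (zpowers_le.2 (mem_cz.2 rfl : t ∈ cz t))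
  have htT := T2 (mem_zpowers t)
  have T4 : ¬ 2 ^ ((Nat.card (cz t)).factorization 2 + 1) ∣ Nat.card (cz t) :=
    Nat.pow_succ_factorization_not_dvd Nat.card_pos.ne' Nat.prime_two
  generalize (Nat.card (cz t)).factorization 2 = n at T3 T4 hm
  by_cases h3 : 2 ^ (n + 1) ∣ Nat.card (⊤ : Subgroup G)
  swap
  · have e : n = (Nat.card G).factorization 2 := by
      have := (Nat.prime_two.pow_dvd_iff_le_factorization Nat.card_pos.ne').1 (T3 ▸ card_subgroup_dvd_card T)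
      rw [card_top, Nat.prime_two.pow_dvd_iff_le_factorization Nat.card_pos.ne'] at h3
      omega
    exact h1 (h.center_sylow (S := Sylow.ofCard T (e ▸ T3)) (fun k => hS (ab_of_two k S.isPGroup')) htT T1)
  obtain ⟨K, -, K2, K3, s, s1, s2, s3, s4, s5⟩ := grow le_top T3 h3
  have hK : ∀ u, T ≤ cz u → s ∈ cz u → 2 ^ (n + 1) ∣ Nat.card (cz u) := fun u k1 k2 =>
    K3 ▸ card_dvd_of_le fun c hc => (s5 c hc).elim (fun r => k1 r) fun r => (mul_mem_cancel_left k2).1 (k1 r)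
  have hs : s ∉ cz t := fun k => T4 (hK t T1 k)
  have h4 : s * t * s⁻¹ ∈ T := (mem_normalizer_iff.1 s3 t).1 htT
  have h5 : T ≤ cz (s * t * s⁻¹) := fun c hc => by
    have := cz_conj (g := s).2 (T1 ((mem_normalizer_iff.1 (inv_mem s3) c).1 hc))
    simpa [mul_assoc] using this
  by_cases h6 : t * (s * t * s⁻¹) ∈ center G
  · refine hs (h.cq h1 h2 ?_)
    rw [← inv_mul_cancel_left t (s * t * s⁻¹), cz_mul h6]
    ext c
    rw [mem_cz, mem_cz, eq_comm, inv_mul_eq_iff_eq_mul, ← mul_assoc, eq_mul_inv_iff_mul_eq]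
  have h7 : T ≤ cz (t * (s * t * s⁻¹)) := fun c hc => by
    rw [mem_cz, ← mul_assoc, mem_cz.1 (T1 hc), mul_assoc, mem_cz.1 (h5 hc), mul_assoc t]
  have h8 : s ∈ cz (t * (s * t * s⁻¹)) := by
    have e1 := mem_cz.1 (T1 s4)
    rw [mem_cz, ← mem_cz.1 (T1 h4)]
    calc s * (s * t * s⁻¹ * t) = s * s * t * s⁻¹ * t := by group
      _ = t * (s * s) * s⁻¹ * t := by rw [e1]
      _ = t * (s * t * s⁻¹) * s := by group
      _ = _ := by rw [mem_cz.1 (T1 h4)]
  have := hm _ ⟨⟨n, two_elt T3 (mul_mem htT h4)⟩, h6, fun k => hs (mem_cz.2 (k s h8 t (h7 htT)))⟩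
  have := (Nat.prime_two.pow_dvd_iff_le_factorization Nat.card_pos.ne').1 (hK _ h7 h8)
  omega

/-- The commuting criterion in the central quotient. -/
def Good {X : Type*} [Group X] (a : X) : Prop := (a ^ 4 = 1 ∧ a * a ≠ 1) ∨ Odd (orderOf a)

/-- Good elements centralizing an involution commute. -/
def Crit (X : Type*) [Group X] : Prop :=
  ∀ t a b : X, t * t = 1 → t ≠ 1 → a * t = t * a → b * t = t * b → Good a → Good b → a * b = b * a

theorem Hyp.crit {S : Sylow 2 G} (hS : ¬ Ab (S : Subgroup G)) : Crit (G ⧸ center G) := by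
  intro t a b t2 t1 ha hb ga gb
  obtain ⟨t, rfl, k, ht⟩ := lift_two (y := t) (k := 1) (by rwa [pow_one, sq])
  have h1 : t ∉ center G := fun e => t1 ((QuotientGroup.eq_one_iff t).2 e)
  have key : ∀ a : G ⧸ center G, a * t = t * a → Good a → ∃ g ∈ cz t, (g : G ⧸ center G) = a := by
    rintro a ha (⟨a4, a2⟩ | a1)
    · obtain ⟨g, rfl, j, hg⟩ := lift_two (y := a) (k := 2) a4
      have h2 := sq_mem_cz t2 ha
      refine ⟨g, mem_cz.2 (h.ab_two hS (t := g * g) (k := j) (by rw [← sq, ← pow_mul, mul_comm, pow_mul, hg, one_pow])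
        (fun e => a2 ((QuotientGroup.eq_one_iff _).2 e)) g (mem_cz.2 (mul_assoc g g g).symm) t
        (mem_cz.2 (mem_cz.1 h2).symm)), rfl⟩
    · obtain ⟨g, rfl⟩ := QuotientGroup.mk_surjective a
      exact ⟨g, mem_of_sq a1 (le_cz ((QuotientGroup.eq_one_iff _).1
        (by rw [QuotientGroup.mk_pow, pow_orderOf_eq_one]))) (sq_mem_cz t2 ha), rfl⟩
  obtain ⟨a, a1, rfl⟩ := key a ha ga
  obtain ⟨b, b1, rfl⟩ := key b hb gb
  rw [← QuotientGroup.mk_mul, h.ab_two hS ht h1 a a1 b b1, QuotientGroup.mk_mul]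

theorem Hyp.of_norm {S : Sylow 2 G} (hS : Ab (S : Subgroup G)) {t : G} (ht : t ∈ (S : Subgroup G))
    (hn : normalizer ((S : Subgroup G) : Set G) ≤ cz t) : t ∈ center G := by
  haveI := Fact.mk Nat.prime_two
  haveI := ab_iff.1 hS
  refine h.wk (S := S) ⟨ht, fun g hg => ?_⟩
  obtain ⟨v, hv, e⟩ := Transfer.control_normalizer_of_abelian S ht hg
  rw [← e, mem_cz.1 (hn hv), mul_inv_cancel_right]

theorem Hyp.solv_cz (t : G ⧸ center G) (ht : orderOf t = 2) : Group.IsSolvable (cz t) := by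
  haveI := Fact.mk Nat.prime_two
  obtain ⟨t, rfl, k, hk⟩ := lift_two (y := t) (k := 1) (by rw [pow_one, ← ht, pow_orderOf_eq_one])
  have h1 : t ∉ center G := fun e => by rw [(QuotientGroup.eq_one_iff t).2 e, orderOf_one] at ht; omega
  refine solv_of_comm (M := (cz t).map (QuotientGroup.mk' _)) (Core.solvable_map ?_ _) (commutator_le.2 fun a ha b hb => ?_)
  swap
  · obtain ⟨a, rfl⟩ := QuotientGroup.mk_surjective a
    obtain ⟨b, rfl⟩ := QuotientGroup.mk_surjective b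
    exact ⟨_, comm_mem_cz (mem_cz.1 ha) (mem_cz.1 hb), map_commutatorElement _ a b⟩
  obtain ⟨S, hS⟩ := (two_zp hk).exists_le_sylow
  have htS := hS (mem_zpowers t)
  by_cases hA : Ab (S : Subgroup G)
  swap
  · exact (h.ab_two hA hk h1).solv
  by_contra h2
  have h3 : (S : Subgroup G) ≤ cz t := fun s hs => mem_cz.2 (hA s hs t htS)
  refine h1 (h.of_norm hA htS (h.K _ (h.ne_top (solv_norm S)) t (le_normalizer htS) fun e => ?_))
  refine not_ab_norm h2 (S.subtype h3) ((ab_map (cz t).subtype_injective).1 (e.mono (le_inf ?_ (map_subtype_le _))))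
  refine (le_normalizer_map _).trans ?_
  rw [Sylow.coe_subtype, subgroupOf_map_subtype, inf_of_le_left h3]

theorem Hyp.top_of_ab {S : Sylow 2 G} (hS : Ab (S : Subgroup G)) {K : Subgroup G} [K.Normal] (hZ : center G ≤ K)
    (hK : IsPGroup 2 (G ⧸ K)) : K = ⊤ := by
  haveI := Fact.mk Nat.prime_two
  haveI := ab_iff.1 hS
  have h1 : (S : Subgroup G) ≤ K := (Transfer.fitting_decomposition_sylow S).2.ge.trans (sup_le
    (inf_le_right.trans ((Transfer.pResidual_le_ker hK (QuotientGroup.mk' K)).trans (QuotientGroup.ker_mk' K).le)) fun t ht => hZ (h.of_norm hS ht.1 fun g hg => mem_cz.2 (ht.2 g hg)))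
  obtain ⟨n, hn⟩ := hK.exists_card_eq
  rcases n with _ | n
  · exact index_eq_one.1 hn
  · exact absurd ((Dvd.intro_left _ hn.symm).trans (index_dvd_of_le h1)) S.not_dvd_index

end Cfsg.Agent.GC.CA
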