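import Mathlib
import Cfsg.Agent.GC.CA2
import Cfsg.Agent.Max.L2f

set_option autoImplicit false
set_option linter.style.haveILetI false
set_option linter.unusedSectionVars false

/-! Centralizers in `PSL(2, q)`. -/

namespace Cfsg.Agent.GC.CA

open Subgroup Matrix Cfsg.Agent.Classical Cfsg.Agent.Classical.SL2Basic
open scoped MatrixGroups Pointwise

variable {F : Type*} [Field F]

theorem comm_iff {a b : SL(2, F)} : a * b = b * a ↔ (a 0 0 - a 1 1) * b 0 1 = a 0 1 * (b 0 0 - b 1 1) ∧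
    (a 0 0 - a 1 1) * b 1 0 = a 1 0 * (b 0 0 - b 1 1) ∧ a 0 1 * b 1 0 = a 1 0 * b 0 1 := by
  constructor
  · intro h
    have h1 := congrArg (fun g : SL(2, F) => g 0 0) h
    have h2 := congrArg (fun g : SL(2, F) => g 0 1) h
    have h3 := congrArg (fun g : SL(2, F) => g 1 0) h
    simp only [SL2Basic.mul_apply] at h1 h2 h3
    exact ⟨by linear_combination h2, by linear_combination -h3, by linear_combination h1⟩
  · rintro ⟨h1, h2, h3⟩
    refine sl2_ext ?_ ?_ ?_ ?_ <;> simp only [SL2Basic.mul_apply]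
    · linear_combination h3
    · linear_combination h1
    · linear_combination -h2
    · linear_combination -h3

theorem sl_comm {g a b : SL(2, F)} (hg : (g : PSL(2, F)) ≠ 1) (ha : a * g = g * a) (hb : b * g = g * b) :
    a * b = b * a := by
  rw [comm_iff] at *
  obtain ⟨a1, a2, a3⟩ := ha
  obtain ⟨b1, b2, b3⟩ := hb
  have : g 0 0 - g 1 1 ≠ 0 ∨ g 0 1 ≠ 0 ∨ g 1 0 ≠ 0 := by
    by_contra! e
    exact hg (mk_eq_one_iff.2 (eq_of_scalar e.2.1 e.2.2 (sub_eq_zero.1 e.1)))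
  generalize g 0 0 - g 1 1 = w at *
  generalize a 0 0 - a 1 1 = x at *
  generalize b 0 0 - b 1 1 = y at *
  rcases this with e | e | e <;> refine ⟨?_, ?_, ?_⟩ <;> apply mul_left_cancel₀ e <;> grind

theorem neg_sq {g a : SL(2, F)} (h : a * g = -(g * a)) (h' : a * g ≠ g * a) :
    (a : PSL(2, F)) * a = 1 ∧ (g : PSL(2, F)) * g = 1 := by
  have h2 : (2 : F) ≠ 0 := fun e => h' (by rw [h, neg_eq_self e])
  have k : ∀ {a g : SL(2, F)}, a * g = -(g * a) → (g : PSL(2, F)) * g = 1 := fun {a g} h => by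
    have h1 := tr_conj a g
    rw [h, neg_mul, mul_inv_cancel_right, tr_neg] at h1
    exact mk_eq_one_iff.2 (.inr ((mul_self_eq_neg_one_iff h2).2
      ((mul_eq_zero.1 (show 2 * tr g = 0 by linear_combination -h1)).resolve_left h2)))
  exact ⟨k (a := g) (by rw [h, neg_neg]), k h⟩

/-- The image of the centralizer in the special linear group. -/
theorem exists_tor (x : PSL(2, F)) (hx : x ≠ 1) : ∃ T : Subgroup PSL(2, F), Ab T ∧ x ∈ T ∧
    (∀ y ∈ cz x, y ∈ T ∨ (y * y = 1 ∧ x * x = 1 ∧ (2 : F) ≠ 0)) ∧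
    (x * x = 1 → (∀ a b : F, a ^ 2 + b ^ 2 = 1 → a = 0 ∨ b = 0) → (2 : F) ≠ 0 → ∀ y ∈ T, y * y = 1) := by
  obtain ⟨g, rfl⟩ := QuotientGroup.mk_surjective x
  refine ⟨(cz g).map (QuotientGroup.mk' _), ?_, ⟨g, mem_cz.2 rfl, rfl⟩, fun y hy => ?_, ?_⟩
  · rintro _ ⟨a, ha, rfl⟩ _ ⟨b, hb, rfl⟩
    rw [← map_mul, sl_comm hx (mem_cz.1 ha) (mem_cz.1 hb), map_mul]
  · obtain ⟨a, rfl⟩ := QuotientGroup.mk_surjective y
    by_cases e : a * g = g * a
    · exact .inl ⟨a, mem_cz.2 e, rfl⟩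
    · have h : a * g = -(g * a) := (mk_eq_mk_iff.1 (mem_cz.1 hy)).resolve_left e
      exact .inr ⟨(neg_sq h e).1, (neg_sq h e).2, fun k => e (by rw [h, neg_eq_self k])⟩
  · rintro h1 h3 h2 _ ⟨a, ha, rfl⟩
    have t0 : g 0 0 + g 1 1 = 0 := (mul_self_eq_neg_one_iff h2).1 ((mk_eq_one_iff.1 h1).resolve_left
      fun e => hx (mk_eq_one_iff.2 (eq_of_mul_self_eq_one h2 e)))
    obtain ⟨a1, a2, a3⟩ := comm_iff.1 (mem_cz.1 ha)
    have d1 := det_eq g
    have d2 := det_eq a
    by_cases e : a 0 0 + a 1 1 = 0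
    · exact mk_eq_one_iff.2 (.inr ((mul_self_eq_neg_one_iff h2).2 e))
    have h4 : ((a 0 0 - a 1 1) * g 0 0 + a 0 1 * g 1 0 + a 1 0 * g 0 1) / 2 = 0 :=
      (h3 ((a 0 0 + a 1 1) / 2) _ (by field_simp; grind)).resolve_left (div_ne_zero e h2)
    rw [div_eq_zero_iff, or_iff_left h2] at h4
    have : ((a : SL(2, F)) : PSL(2, F)) = 1 := mk_eq_one_iff.2 (eq_of_scalar (by grind) (by grind)
      (mul_left_cancel₀ h2 (by grind)))
    change ((a : SL(2, F)) : PSL(2, F)) * a = 1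
    rw [this, one_mul]

theorem ab_cz {x : PSL(2, F)} (h : x * x ≠ 1) : Ab (cz x) := by
  obtain ⟨T, h1, -, h2, -⟩ := exists_tor x fun e => h (by rw [e, one_mul])
  exact h1.mono fun y hy => (h2 y hy).resolve_right fun e => h e.2.1

theorem ab_of_sq {X : Type*} [Group X] {H : Subgroup X} (h : ∀ y ∈ H, y * y = 1) : Ab H := fun a ha b hb => by
  rw [← inv_eq_of_mul_eq_one_left (h _ (mul_mem ha hb)), _root_.mul_inv_rev,
    inv_eq_of_mul_eq_one_left (h a ha), inv_eq_of_mul_eq_one_left (h b hb)]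

theorem ab_small [Finite F] (h : (2 : F) = 0 ∨ Nat.card F = 3 ∨ Nat.card F = 5) {x : PSL(2, F)} (hx : x ≠ 1) :
    Ab (cz x) := by
  obtain ⟨T, h1, -, h2, h3⟩ := exists_tor x hx
  by_cases e : (2 : F) = 0
  · exact h1.mono fun y hy => (h2 y hy).resolve_right fun k => k.2.2 e
  by_cases e' : x * x = 1
  swap
  · exact ab_cz e'
  refine ab_of_sq fun y hy => (h2 y hy).elim (h3 e' (fun a b hab => ?_) e y) (·.1)
  by_contra! k
  cases nonempty_fintype F
  have h4 := FiniteField.pow_card_sub_one_eq_one a k.1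
  have h5 := FiniteField.pow_card_sub_one_eq_one b k.2
  have h6 := FiniteField.cast_card_eq_zero F
  rw [← Nat.card_eq_fintype_card] at h4 h5 h6
  rcases h.resolve_left e with h | h <;> rw [h] at h4 h5 h6 <;> norm_num at h4 h5 h6 <;> grind

theorem exists_nca [Finite F] (h2 : (2 : F) ≠ 0) (h5 : 5 < Nat.card F) : ∃ t a b c : SL(2, F),
    a * t = t * a ∧ b * t = -(t * b) ∧ a * b ≠ b * a ∧ a * b ≠ -(b * a) ∧ c * t ≠ t * c ∧ c * t ≠ -(t * c) := by
  classical
  cases nonempty_fintype F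
  obtain ⟨s, hs⟩ : ∃ s : F, s ∉ (Polynomial.X ^ 5 - Polynomial.X : Polynomial F).roots.toFinset := by
    by_contra! e
    have h1 := (Finset.card_le_card (fun s _ => e s : Finset.univ ⊆ _)).trans ((Multiset.toFinset_card_le _).trans
      (Polynomial.card_roots' _))
    rw [FiniteField.X_pow_card_sub_X_natDegree_eq F (by norm_num), Finset.card_univ, ← Nat.card_eq_fintype_card] at h1
    omega
  rw [Multiset.mem_toFinset, Polynomial.mem_roots (FiniteField.X_pow_card_sub_X_ne_zero F (by norm_num))] at hs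
  simp only [Polynomial.IsRoot.def, Polynomial.eval_sub, Polynomial.eval_pow, Polynomial.eval_X] at hs
  have h1 : 1 + s ^ 2 ≠ 0 := fun e => hs (by grind)
  obtain ⟨α, β, h3, h4⟩ : ∃ α β : F, α ^ 2 + β ^ 2 = 1 ∧ α * β ≠ 0 :=
    ⟨(1 - s ^ 2) / (1 + s ^ 2), 2 * s / (1 + s ^ 2), by field_simp; ring, mul_ne_zero
      (div_ne_zero (fun e => hs (by grind)) h1) (div_ne_zero (mul_ne_zero h2 fun e => hs (by simp [e])) h1)⟩
  have h6 := Max.L2.qxy (F := F)
  generalize Max.L2.qx F = γ at h6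
  generalize Max.L2.qy F = δ at h6
  have k : ∀ (i j : Fin 2) {a b : SL(2, F)}, a = b → a i j = b i j := fun i j _ _ e => e ▸ rfl
  refine ⟨mkSL 0 (-1) 1 0 (by ring), mkSL α (-β) β α (by grind), mkSL γ δ δ (-γ) (by grind),
    mkSL 1 1 0 1 (by ring), comm_iff.2 (by simp), sl2_ext ?_ ?_ ?_ ?_, fun e => ?_, fun e => ?_, fun e => ?_, fun e => ?_⟩
  iterate 4 simp [SL2Basic.mul_apply]
  · have := comm_iff.1 e
    simp at this
    grind
  · have e1 := k 0 0 e
    have e2 := k 0 1 e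
    simp [SL2Basic.mul_apply] at e1 e2
    grind
  · simpa using comm_iff.1 e
  · have e1 := k 0 1 e
    simp [SL2Basic.mul_apply] at e1
    grind

/-- Data of a Sylow subgroup in the defining characteristic. -/
structure UD {X : Type*} [Group X] {p : ℕ} (P : Sylow p X) (q : ℕ) : Prop where
  card : Nat.card (P : Subgroup X) = q
  ab : Ab (P : Subgroup X)
  cent : ∀ u ∈ (P : Subgroup X), u ≠ 1 → cz u ≤ P
  num : Nat.card (Sylow p X) = q + 1

theorem card_sylow [Finite F] (p : ℕ) [Fact p.Prime] [CharP F p] : Nat.card (Sylow p PSL(2, F)) = Nat.card F + 1 := by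
  obtain ⟨P, hP⟩ := PSL2Basic.exists_sylow_normalizer_eq (p := p) (P1.inf : P1.PL F)
  rw [P.card_eq_index_normalizer, ← P.coe_coe, hP, MulAction.index_stabilizer_of_transitive, P1.card_PL]

theorem exists_ud [Finite F] (p : ℕ) [hp : Fact p.Prime] [CharP F p] : ∃ P : Sylow p PSL(2, F), UD P (Nat.card F) := by
  let U := (Max.L2.UU (1 : PGL(2, F))).comap PSL2Basic.toP
  have h0 : U.map PSL2Basic.toP = Max.L2.UU 1 := Max.L2.map_comap_toP (Max.L2.UU_le_LL 1)
  have h1 : Nat.card U = Nat.card F := by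
    rw [← Max.L2.card_UU (1 : PGL(2, F)), ← h0, card_map_of_injective PSL2Basic.toP_injective]
  have h2 : IsPGroup p U := fun u => ⟨1, Subtype.ext (PSL2Basic.toP_injective (by
    simpa using ((Max.L2.mem_UU_iff (p := p)).1 u.2).2))⟩
  have h3 : ¬ p ∣ U.index := fun e => by
    have h4 := SLBasic.card_PSL_two (F := F)
    have h5 := SLBasic.one_lt_card (F := F)
    rw [← U.card_mul_index, h1, mul_left_comm] at h4
    have h6 := Nat.eq_of_mul_eq_mul_left (by omega) h4 ▸ e.mul_left (Nat.gcd 2 (Nat.card F - 1))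
    have h7 := (Nat.dvd_sub_iff_right (Nat.one_le_pow 2 _ (by omega))
      (dvd_pow (GLBasic.char_dvd_card F p) two_ne_zero)).1 h6
    exact hp.out.one_lt.ne' (Nat.dvd_one.1 h7)
  refine ⟨h2.toSylow h3, h1, fun a ha b hb => PSL2Basic.toP_injective ?_, fun u hu hne y hy => ?_, card_sylow p⟩
  · rw [map_mul, map_mul]; exact Max.L2.UU_comm ha hb
  · change PSL2Basic.toP y ∈ Max.L2.UU 1
    rw [← Max.L2.centralizer_UU hu fun e => hne (PSL2Basic.toP_injective (e.trans (map_one _).symm)),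
      mem_centralizer_singleton_iff, ← map_mul, ← map_mul, mem_cz.1 hy]

section
variable {X : Type*} [Group X] [Finite X] [IsSimpleGroup X] {p q : ℕ} [hp : Fact p.Prime] {P : Sylow p X}

theorem burn (hX : ¬ Group.IsSolvable X) (h1 : (P : Subgroup X) ≠ ⊥)
    (h : normalizer ((P : Subgroup X) : Set X) ≤ centralizer (P : Set X)) : False := by
  obtain ⟨N, hN, h2, h3⟩ := Transfer.hasNormalPComplement_iff_exists_normal.1
    (Transfer.hasNormalPComplement_of_normalizer_le_centralizer P h)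
  rcases hN.eq_bot_or_eq_top with rfl | rfl
  · exact hX (solv_of_quot inferInstance (Core.solvable_of_isPGroup h3))
  · obtain ⟨n, hn⟩ := P.isPGroup'.exists_card_eq
    rcases n with _ | n
    · exact h1 (card_eq_one.1 hn)
    · exact h2 ((Dvd.intro_left _ hn.symm).trans (card_dvd_of_le le_top))

theorem UD.inner (h : UD P q) (hq : 1 < q) {σ : MulAut X} (hσ : ∀ v ∈ (P : Subgroup X), σ v = v) :
    ∃ v ∈ (P : Subgroup X), σ = MulAut.conj v := by
  classical
  have ti : ∀ v ∈ (P : Subgroup X), ∀ Q : Sylow p X, v • Q = Q → Q ≠ P → v = 1 := fun v hv Q e hQ => by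
    by_contra k
    have h1 : v ∈ (Q : Subgroup X) := ((P.isPGroup'.inf_normalizer_sylow Q).le
      ⟨hv, Sylow.smul_eq_iff_mem_normalizer.1 e⟩).2
    have h2 : Ab (Q : Subgroup X) := ab_iff.2 ⟨⟨fun a b => (Q.equiv P).injective (by
      rw [map_mul, map_mul]; exact (ab_iff.1 h.ab).is_comm.comm _ _)⟩⟩
    exact hQ (Sylow.ext (Q.is_maximal' P.isPGroup' fun y hy => h.cent v hv k (mem_cz.2 (h2 y hy v h1))).symm)
  have fix : ∀ τ : MulAut X, (∀ v ∈ (P : Subgroup X), τ v = v) → τ • P = P := fun τ hτ =>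
    Sylow.ext (P.is_maximal' (τ • P).isPGroup' fun v hv => ⟨v, hv, hτ v hv⟩)
  haveI : Nontrivial (Sylow p X) := Finite.one_lt_card_iff_nontrivial.1 (by rw [h.num]; omega)
  obtain ⟨Q, hQ⟩ := exists_ne P
  have tr : ∀ R : Sylow p X, R ≠ P → ∃ v ∈ (P : Subgroup X), v • Q = R := by
    let f : ↥(P : Subgroup X) → {R : Sylow p X // R ≠ P} := fun v => ⟨(v.1 : X) • Q, fun e => hQ (by
      rw [smul_eq_iff_eq_inv_smul] at e
      rw [e, Sylow.smul_eq_iff_mem_normalizer.2 (le_normalizer (inv_mem v.2))])⟩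
    have hf : Function.Injective f := fun a b e => by
      have e' : (a : X) • Q = (b : X) • Q := congrArg Subtype.val e
      exact Subtype.ext (inv_mul_eq_one.1 (ti _ (mul_mem (inv_mem b.2) a.2) Q
        (by rw [mul_smul, e', inv_smul_smul]) hQ)).symm
    intro R hR
    cases nonempty_fintype (Sylow p X)
    obtain ⟨v, e⟩ := (hf.bijective_of_nat_card_le (by
      rw [h.card, Nat.card_eq_fintype_card, Fintype.card_subtype_compl, Fintype.card_subtype_eq,
        ← Nat.card_eq_fintype_card, h.num]; omega)).2 ⟨R, hR⟩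
    exact ⟨v, v.2, congrArg Subtype.val e⟩
  have sw : ∀ (τ : MulAut X) (x : X) (R : Sylow p X), τ • x • R = τ x • τ • R := fun τ x R => by
    rw [Sylow.smul_def, Sylow.smul_def, smul_smul, smul_smul]
    congr 1; ext y; simp
  obtain ⟨v, hv, e⟩ := tr (σ • Q) fun e => hQ (by rw [← fix σ hσ] at e; exact smul_left_cancel _ e)
  refine ⟨v, hv, ?_⟩
  have h1 : ∀ w ∈ (P : Subgroup X), ((MulAut.conj v)⁻¹ * σ) w = w := fun w hw => by
    rw [MulAut.mul_apply, hσ w hw, MulAut.conj_inv_apply, mul_assoc, h.ab w hw v hv, inv_mul_cancel_left]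
  have h2 : ((MulAut.conj v)⁻¹ * σ) • Q = Q := by rw [mul_smul, ← e, Sylow.smul_def, inv_smul_smul]
  rw [eq_comm, ← inv_mul_eq_one]
  generalize (MulAut.conj v)⁻¹ * σ = τ at h1 h2
  have h3 : ∀ R : Sylow p X, τ • R = R := fun R => by
    by_cases hR : R = P
    · rw [hR, fix τ h1]
    · obtain ⟨w, hw, rfl⟩ := tr R hR
      rw [sw, h1 w hw, h2]
  rcases (MulAction.toPermHom X (Sylow p X)).normal_ker.eq_bot_or_eq_top with k | k
  · ext x
    have : x⁻¹ * τ x ∈ (MulAction.toPermHom X (Sylow p X)).ker := by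
      rw [MonoidHom.mem_ker]; ext R : 1
      change (x⁻¹ * τ x) • R = R
      rw [mul_smul, ← h3 R, ← sw, h3, h3, inv_smul_smul]
    exact (inv_mul_eq_one.1 (mem_bot.1 (k ▸ this))).symm
  · obtain ⟨x, rfl⟩ := MulAction.exists_smul_eq X P Q
    exact absurd (congrArg (fun σ : Equiv.Perm _ => σ P) (MonoidHom.mem_ker.1 (k.ge (mem_top x)))) hQ

theorem UD.bound (h : UD P q) (hq : 1 < q) (A : Subgroup (MulAut X))
    (hA : ∀ σ ∈ A, ∀ u ∈ (P : Subgroup X), u ≠ 1 → σ u = u → ∀ v ∈ (P : Subgroup X), σ v = v) :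
    Nat.card A ≤ q * (q ^ 2 - 1) := by
  haveI : Nontrivial (P : Subgroup X) := Finite.one_lt_card_iff_nontrivial.1 (h.card ▸ hq)
  obtain ⟨u, hu⟩ := exists_ne (1 : (P : Subgroup X))
  have hu' : (u : X) ≠ 1 := fun e => hu (Subtype.ext e)
  let B := MulAction.stabilizer A P
  let C := MulAction.stabilizer B (u : X)
  have h1 : B.index ≤ q + 1 := by
    rw [MulAction.index_stabilizer, ← h.num]; exact Set.ncard_le_card _
  have h2 : C.index ≤ q - 1 := by
    rw [MulAction.index_stabilizer, ← h.card, ← SetLike.coe_sort_coe (P : Subgroup X), Nat.card_coe_set_eq,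
      ← Set.ncard_sdiff_singleton_of_mem (one_mem (P : Subgroup X))]
    refine Set.ncard_le_ncard ?_
    rintro _ ⟨b, rfl⟩
    refine ⟨?_, fun e => hu' ((b.1.1).map_eq_one_iff.1 e)⟩
    have : (((b : A) : MulAut X) • P : Sylow p X) = P := b.2
    exact (congrArg (fun R : Sylow p X => (R : Subgroup X)) this).le ⟨u, u.2, rfl⟩
  have h3 : Nat.card C ≤ q := by
    choose f hf e using fun c : C => h.inner hq (hA _ c.1.1.2 u u.2 hu' c.2)
    exact h.card ▸ Nat.card_le_card_of_injective (fun c => (⟨f c, hf c⟩ : (P : Subgroup X))) fun a b k =>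
      Subtype.ext (Subtype.ext (Subtype.ext (by rw [e, e, show f a = f b from congrArg Subtype.val k])))
  rw [← B.card_mul_index, ← C.card_mul_index, Nat.sq_sub_sq q 1, mul_comm (q + 1), ← mul_assoc]
  exact Nat.mul_le_mul (Nat.mul_le_mul h3 h2) h1

end

end Cfsg.Agent.GC.CA
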