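import Mathlib
import Cfsg.Agent.GC.CA3
import Cfsg.Agent.CIT.F13
import Cfsg.Agent.S3214
import Cfsg.Agent.S2086
import Cfsg.Agent.S2602
import Cfsg.Agent.H2.Schur6

set_option autoImplicit false
set_option linter.style.haveILetI false
set_option linter.unusedSectionVars false

/-! Identification of the non-solvable groups all of whose proper subgroups have abelian centralizers. -/

namespace Cfsg.Agent.GC.CA

open Subgroup Cfsg.Agent.Classical
open scoped MatrixGroups commutatorElement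

variable {G : Type*} [Group G]

theorem Crit.inj {Y : Type*} [Group Y] (h : Crit G) (f : Y →* G) (hf : Function.Injective f) : Crit Y := by
  have g : ∀ a, Good a → Good (f a) := fun a ha => ha.imp (fun e => ⟨by rw [← map_pow, e.1, map_one],
    fun k => e.2 (hf (by rw [map_mul, k, map_one]))⟩) fun e => by rwa [orderOf_injective f hf]
  intro t a b t2 t1 ha hb ga gb
  refine hf ?_
  rw [map_mul, map_mul]
  exact h (f t) _ _ (by rw [← map_mul, t2, map_one]) (fun e => t1 (hf (e.trans (map_one f).symm)))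
    (by rw [← map_mul, ha, map_mul]) (by rw [← map_mul, hb, map_mul]) (g a ga) (g b gb)

theorem not_crit_A7 : ¬ Crit (alternatingGroup (Fin 7)) := fun h => by
  let v : alternatingGroup (Fin 7) := ⟨c[4, 5, 6], Equiv.Perm.mem_alternatingGroup.2 (by decide)⟩
  let t : alternatingGroup (Fin 7) := ⟨c[0, 1] * c[2, 3], Equiv.Perm.mem_alternatingGroup.2 (by decide)⟩
  let g : alternatingGroup (Fin 7) := ⟨c[0, 2, 1, 3] * c[4, 5], Equiv.Perm.mem_alternatingGroup.2 (by decide)⟩
  haveI : Fact (Nat.Prime 3) := ⟨Nat.prime_three⟩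
  have hv : orderOf v = 3 := orderOf_eq_prime (by decide) (by decide)
  exact absurd (h t v g (by decide) (by decide) (by decide) (by decide) (.inr (by rw [hv]; decide))
    (.inl (by decide))) (by decide)

theorem not_crit_sz (h1 : Lie.IsoSuzuki G) : ¬ Crit G := fun h => by
  obtain ⟨F, _, _, m, hm, hF, ⟨e⟩⟩ := h1
  obtain ⟨_, ⟨Z⟩⟩ := RankOne.Sz.exists_model_of_equiv_lie hF hm e
  obtain ⟨y, hy⟩ := Z.exists_θ_ne_self
  have g : ∀ u : F, u ≠ 0 → Good (Z.S u 0) := fun u hu => .inl ⟨Z.pow_four_of_mem_Q (Z.S_mem _ _), fun k => by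
    have := orderOf_dvd_of_pow_eq_one (x := Z.S u 0) (n := 2) (by rwa [sq])
    rw [Z.orderOf_S hu] at this; omega⟩
  have := h (Z.S 0 1) (Z.S 1 0) (Z.S y 0) (by rw [Z.S_sq]; simp [Z.S_eq_one_iff]) (by simp [Z.S_eq_one_iff])
    (Z.S_zero_comm _ _ _).symm (Z.S_zero_comm _ _ _).symm (g 1 one_ne_zero) (g y fun k => hy (by simp [k]))
  rw [Z.S_mul, Z.S_mul] at this
  exact hy (by simpa using (Z.S_inj this).2.symm)

open CIT.F in
theorem not_crit_l34 {F : Type*} [Field F] [Fintype F] (hF : Fintype.card F = 4) : ¬ Crit PSL(3, F) := fun h => by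
  haveI : CharP F 2 := ringChar_of_card (p := 2) (k := 2) Nat.prime_two hF ▸ ringChar.charP F
  have h2 : ∀ a : F, a + a = 0 := CharTwo.add_self_eq_zero
  obtain ⟨a, ha, ha'⟩ := exists_ne_zero_one (F := F) (by omega)
  let π := QuotientGroup.mk' (center (Matrix.SpecialLinearGroup (Fin 3) F))
  have k : ∀ d : F, d ≠ 0 → π (ut 0 0 d) ≠ 1 := fun d hd e => hd (ut_inj (e.trans (congrArg π ut_zero).symm)).2.2
  have s : ∀ d : F, π (ut 1 d 0) * π (ut 1 d 0) = π (ut 0 0 d) := fun d => by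
    rw [← map_mul, ut_mul]; simp [h2]
  have s' : ∀ d : F, π (ut 0 0 d) * π (ut 0 0 d) = 1 := fun d => by
    rw [← map_mul, ut_mul]; simp [h2, ut_zero]
  have g : ∀ d : F, d ≠ 0 → Good (π (ut 1 d 0)) := fun d hd =>
    .inl ⟨by rw [show 4 = 2 * 2 from rfl, pow_mul, sq, sq, s, s'], s d ▸ k d hd⟩
  have c : ∀ d : F, π (ut 1 d 0) * π (ut 0 0 1) = π (ut 0 0 1) * π (ut 1 d 0) := fun d => by
    rw [← map_mul, ← map_mul, ut_mul, ut_mul]; simp
  have := h _ _ _ (s' 1) (k 1 one_ne_zero) (c 1) (c a) (g 1 one_ne_zero) (g a ha)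
  rw [← map_mul, ← map_mul, ut_mul, ut_mul] at this
  exact ha' (by simpa using (ut_inj this).2.2)

variable [Finite G]

theorem Crit.nil (h : Crit G) (t : G) (ht : orderOf t = 2) : HasNormalPComplement 2 (cz t) := by
  haveI := Fact.mk Nat.prime_two
  refine Transfer.hasNormalPComplement_iff_mul.2 fun x y hx hy => Nat.Coprime.coprime_dvd_left
    (Commute.orderOf_mul_dvd_mul_orderOf (Subtype.ext ?_)) (Nat.Coprime.mul_left hx hy)
  exact h t x y (by rw [← sq, ← ht, pow_orderOf_eq_one]) (Inv.ne_one_of_two ht) (mem_cz.1 x.2) (mem_cz.1 y.2)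
    (.inr (by rwa [orderOf_coe, ← Nat.coprime_two_right])) (.inr (by rwa [orderOf_coe, ← Nat.coprime_two_right]))

theorem exists_simple (hs : ¬ Group.IsSolvable G) (hb : ∀ N : Subgroup G, N.Normal → Group.IsSolvable N → N = ⊥)
    (hC : ∀ t : G, orderOf t = 2 → Group.IsSolvable (cz t)) :
    ∃ N : Subgroup G, N.Normal ∧ IsSimpleGroup N ∧ ¬ IsMulCommutative N ∧ centralizer (N : Set G) = ⊥ := by
  haveI : Fact (Nat.Prime 2) := ⟨Nat.prime_two⟩
  have solv : ∀ {M K : Subgroup G}, ¬ Odd (Nat.card M) → K ≤ centralizer (M : Set G) → Group.IsSolvable K :=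
    fun {M K} h hK => by
      obtain ⟨t, ht⟩ := exists_prime_orderOf_dvd_card' (G := M) 2 (even_iff_two_dvd.1 (Nat.not_odd_iff_even.1 h))
      exact Core.solvable_of_le (hK.trans (centralizer_le (Set.singleton_subset_iff.2 t.2)))
        (hC t (by rw [Subgroup.orderOf_coe, ht]))
  obtain ⟨N, hN, h0, -, hmin⟩ := Core.exists_minimal_normal_le (⊤ : Subgroup G) fun h => hs (solv_top (by
    rw [h]; infer_instance))
  have hns : ∀ M : Subgroup N, M.Normal → M ≠ ⊥ → ¬ Group.IsSolvable M := fun M _ h k =>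
    h (eq_bot_iff.2 fun y hy => Subtype.ext (mem_bot.1 (hb _ FGS.solvableRadical_normal FGS.solvableRadical_solvable ▸
      FGS.map_solvableRadical_normal_le N ⟨y, FGS.le_solvableRadical k hy, rfl⟩)))
  haveI : Nontrivial N := (nontrivial_iff_ne_bot N).2 h0
  have hN' : ¬ Group.IsSolvable N := fun k => h0 (hb N hN k)
  refine ⟨N, hN, ⟨fun K hK => ?_⟩, fun h => hN' (Group.isSolvable_of_comm h.is_comm.comm), ?_⟩
  · by_contra! hne
    obtain ⟨M, hM, h1, hMK, hm⟩ := Core.exists_minimal_normal_le K hne.1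
    have hn : (M.map N.subtype).Normal := ⟨fun x ⟨y, hy, e⟩ g => by
      let φ : MulAut N := MulAut.conjNormal g
      haveI : (M.map φ.toMonoidHom).Normal := hM.map _ φ.surjective
      rcases hm (M ⊓ M.map φ.toMonoidHom) inferInstance inf_le_left with k | k
      · exfalso
        have e1 : M ≃* M.map N.subtype := M.equivMapOfInjective _ N.subtype_injective
        have e2 : M ≃* (M.map φ.toMonoidHom).map N.subtype :=
          (M.equivMapOfInjective _ φ.injective).trans (equivMapOfInjective _ _ N.subtype_injective)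
        haveI := solv (M := (M.map φ.toMonoidHom).map N.subtype) (K := M.map N.subtype)
          (fun h => hns M hM h1 (S0205.result (Nat.card_congr e2.toEquiv ▸ h))) (by
            rintro _ ⟨a, ha, rfl⟩ _ ⟨b, hb, rfl⟩
            exact congrArg Subtype.val (Core.le_centralizer_of_disjoint (disjoint_iff.2 k) ha b hb))
        exact hns M hM h1 (Group.isSolvable_of_isSolvable_injective (f := e1.toMonoidHom) e1.injective)
      · have k' : M = M.map φ.toMonoidHom := eq_of_le_of_card_ge (inf_eq_left.1 k)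
          (card_map_of_injective φ.injective).le
        exact ⟨φ y, k' ▸ ⟨y, hy, rfl⟩, by rw [← e]; rfl⟩⟩
    rcases hmin _ hn (map_subtype_le M) with k | k
    · exact h1 ((map_eq_bot_iff_of_injective _ N.subtype_injective).1 k)
    · refine hne.2 (eq_top_iff.2 fun a _ => hMK ?_)
      obtain ⟨b, hb, e⟩ : (a : G) ∈ M.map N.subtype := k.symm ▸ a.2
      exact (Subtype.ext e : b = a) ▸ hb
  · by_contra h
    exact hN' (solv (M := centralizer (N : Set G)) (fun k => h (hb _ inferInstance (S0205.result k)))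
      (le_centralizer_iff.1 le_rfl))

theorem Hyp.ident (h : Hyp G) (S : Sylow 2 G) : ∃ (F : Type) (_ : Field F) (_ : Fintype F)
    (j : PSL(2, F) →* G ⧸ center G), Function.Injective j ∧ j.range.Normal ∧
      centralizer (j.range : Set (G ⧸ center G)) = ⊥ ∧ 5 ≤ Fintype.card F ∧ (Ab (S : Subgroup G) →
        Fintype.card F % 8 = 3 ∨ Fintype.card F % 8 = 5 ∨ Fintype.card F % 2 = 0) := by
  haveI := Fact.mk Nat.prime_two
  obtain ⟨N, hN, h1, h2, h3⟩ := exists_simple (fun e => h.ns (solv_of_quot Core.solvable_of_isMulCommutative e))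
    (fun N _ k => h.bot k) h.solv_cz
  obtain ⟨F, _, _, h4, h5, ⟨e⟩⟩ : ∃ (F : Type) (_ : Field F) (_ : Fintype F), 3 < Fintype.card F ∧ (Ab (S : Subgroup G) →
      Fintype.card F % 8 = 3 ∨ Fintype.card F % 8 = 5 ∨ Fintype.card F % 2 = 0) ∧ Nonempty (N ≃* PSL(2, F)) := by
    by_cases hS : Ab (S : Subgroup G)
    · obtain ⟨T⟩ : Nonempty (Sylow 2 N) := inferInstance
      have hS' : Ab (S.mapSurjective (QuotientGroup.mk'_surjective (center G)) : Subgroup (G ⧸ center G)) := by
        rintro _ ⟨a, ha, rfl⟩ _ ⟨b, hb, rfl⟩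
        rw [← map_mul, hS a ha b hb, map_mul]
      obtain ⟨F, _, _, h4, h5⟩ := Ab2.simple_case h2 T (ab_iff.1 ((ab_map N.subtype_injective).1
        (ab_of_two hS' (T.isPGroup'.map _)))) fun t ht => Core.solvable_of_mulEquiv
          (equivMapOfInjective _ _ N.subtype_injective).symm (Core.solvable_of_le (by
            rintro _ ⟨y, hy, rfl⟩
            exact mem_cz.2 (congrArg Subtype.val (mem_cz.1 hy))) (h.solv_cz t (by rw [orderOf_coe, ht])))
      refine ⟨F, inferInstance, inferInstance, ?_, fun _ => ?_, h5⟩ <;> rcases h4 with h4 | ⟨n, hn, h4⟩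
      · omega
      · exact h4 ▸ lt_of_lt_of_le (by norm_num) (Nat.pow_le_pow_right two_pos hn)
      · omega
      · exact .inr (.inr (by rw [h4]; exact Nat.mod_eq_zero_of_dvd (dvd_pow_self 2 (by omega))))
    have hc := (h.crit hS).inj N.subtype N.subtype_injective
    rcases S3214.result h2 hc.nil with ⟨F, _, _, h4, h5⟩ | h4 | ⟨⟨e⟩⟩ | ⟨F, _, _, h4, ⟨e⟩⟩
    · exact ⟨F, inferInstance, inferInstance, h4, fun k => absurd k hS, h5⟩
    · exact absurd hc (not_crit_sz h4)
    · exact absurd (hc.inj e.symm.toMonoidHom e.symm.injective) not_crit_A7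
    · exact absurd (hc.inj e.symm.toMonoidHom e.symm.injective) (not_crit_l34 h4)
  have key : ∀ {X : Type} [Group X] (e : N ≃* X), ∃ j : X →* G ⧸ center G, Function.Injective j ∧ j.range.Normal ∧
      centralizer (j.range : Set (G ⧸ center G)) = ⊥ := fun e => by
    have : (N.subtype.comp e.symm.toMonoidHom).range = N := by
      rw [MonoidHom.range_comp, MonoidHom.range_eq_top.2 e.symm.surjective, ← MonoidHom.range_eq_map, range_subtype]
    exact ⟨N.subtype.comp e.symm.toMonoidHom, N.subtype_injective.comp e.symm.injective, this.symm ▸ hN,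
      this.symm ▸ h3⟩
  by_cases h6 : Fintype.card F = 4
  · haveI : Fact (Nat.Prime 5) := ⟨Nat.prime_five⟩
    obtain ⟨e1⟩ := PSL2Basic.psl_equiv_A5 (F := F) (.inl (Nat.card_eq_fintype_card.trans h6))
    obtain ⟨e2⟩ := PSL2Basic.psl_equiv_A5 (F := ZMod 5) (.inr (Nat.card_zmod 5))
    obtain ⟨j, j1, j2, j3⟩ := key ((e.trans e1).trans e2.symm)
    exact ⟨ZMod 5, inferInstance, inferInstance, j, j1, j2, j3, by simp, fun _ => by simp⟩
  · obtain ⟨j, j1, j2, j3⟩ := key e
    exact ⟨F, inferInstance, inferInstance, j, j1, j2, j3, by omega, h5⟩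

section
variable {N : Subgroup (G ⧸ center G)}

theorem pow_mult {c : G} (h1 : c ∈ ⁅N.comap (QuotientGroup.mk' (center G)), N.comap (QuotientGroup.mk' (center G))⁆)
    (h2 : c ∈ center G) : c ^ Nat.card (H2.Schur.Mult N) = 1 := by
  have h3 := H2.Schur.card_skr_dvd_mult (H2.Schur.cext_comap (σ := QuotientGroup.mk' (center G))
    ⟨QuotientGroup.mk'_surjective _, (QuotientGroup.ker_mk' _).le⟩ N)
  rw [← map_subtype_commutator] at h1
  obtain ⟨c, hc, rfl⟩ := h1
  have h4 : c ∈ H2.Schur.skr ((QuotientGroup.mk' (center G)).subgroupComap N) :=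
    ⟨Subtype.ext ((QuotientGroup.eq_one_iff _).2 h2), hc⟩
  exact orderOf_dvd_iff_pow_eq_one.1 ((orderOf_coe c).symm ▸ (Subgroup.orderOf_dvd_natCard _ h4).trans h3)

theorem exists_LZ (hN : ⁅N, N⁆ = N) {u : G} (hu : (u : G ⧸ center G) ∈ N) :
    ∃ l ∈ ⁅N.comap (QuotientGroup.mk' (center G)), N.comap (QuotientGroup.mk' (center G))⁆, ∃ z ∈ center G,
      u = l * z := by
  rw [← hN, ← map_comap_eq_self_of_surjective (QuotientGroup.mk'_surjective (center G)) N, ← map_commutator] at hu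
  obtain ⟨l, hl, e⟩ := hu
  exact ⟨l, hl, l⁻¹ * u, QuotientGroup.eq.1 e, by group⟩

theorem comm_lift [N.Normal] (hN : ⁅N, N⁆ = N) {u g : G} (hu : (u : G ⧸ center G) ∈ N) {m : ℕ}
    (hm : (u : G ⧸ center G) ^ m = 1) (hc : m.Coprime (Nat.card (H2.Schur.Mult N)))
    (hg : (g : G ⧸ center G) * u = u * g) : g ∈ cz u := by
  obtain ⟨l, hl, z, hz, e⟩ := exists_LZ hN hu
  have h1 : u⁻¹ * (g * u * g⁻¹) ∈ center G := QuotientGroup.eq.1 (by
    rw [QuotientGroup.mk_mul, QuotientGroup.mk_mul, hg, QuotientGroup.mk_inv, mul_inv_cancel_right])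
  have h2 := pow_mult (c := u⁻¹ * (g * u * g⁻¹)) (N := N) (by
    have : u⁻¹ * (g * u * g⁻¹) = l⁻¹ * (g * l * g⁻¹) := by
      have k := mem_center_iff.1 hz
      rw [e, ← mul_assoc g, mul_assoc _ z, ← k g⁻¹, ← mul_assoc _ _ z, k (g * l * g⁻¹), k l]; group
    rw [this]
    exact mul_mem (inv_mem hl) ((inferInstance : Normal _).conj_mem l hl g)) h1
  have h3 : (u⁻¹ * (g * u * g⁻¹)) ^ m = 1 := by
    have k1 := mem_center_iff.1 ((QuotientGroup.eq_one_iff (u ^ m)).1 hm) g
    have k2 : (u * (u⁻¹ * (g * u * g⁻¹))) ^ m = u ^ m := by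
      rw [mul_inv_cancel_left, conj_pow, k1, mul_inv_cancel_right]
    rwa [Commute.mul_pow (mem_center_iff.1 h1 u), mul_eq_left] at k2
  have h4 := pow_gcd_eq_one.2 ⟨h3, h2⟩
  rw [hc, pow_one, inv_mul_eq_one, eq_mul_inv_iff_mul_eq] at h4
  exact mem_cz.2 h4.symm

end

theorem card_mult {F : Type*} [Field F] [Fintype F] (h5 : 5 ≤ Fintype.card F) (h9 : Fintype.card F ≠ 9) :
    Nat.card (H2.Schur.Mult PSL(2, F)) = Nat.gcd 2 (Fintype.card F - 1) := by
  rw [H2.Schur.card_mult_of_has (S2086.result rfl 2 le_rfl (fun _ => by omega) (by simp; omega)),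
    Nat.card_congr Multiplicative.toAdd, Nat.card_zmod]

section
variable (h : Hyp G) {X : Type*} [Group X] [Finite X] [IsSimpleGroup X] {j : X →* G ⧸ center G}
  (hj : Function.Injective j) [hn : j.range.Normal] (hX : ¬ Group.IsSolvable X)
include h hj hX

theorem Hyp.ab_lift {p : ℕ} [Fact p.Prime] {P : Sylow p X} (hP : Ab (P : Subgroup X)) {a : X}
    (ha : a ∈ (P : Subgroup X)) (h1 : a ≠ 1) (h2 : Ab (cz a)) {u : G} (hu : (u : G ⧸ center G) = j a) : Ab (cz u) := by
  by_contra h3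
  have hm : ∀ y, y ∈ (cz a).map j ↔ y ∈ j.range ∧ y ∈ cz (j a) := fun y => ⟨by
    rintro ⟨y, hy, rfl⟩
    exact ⟨⟨y, rfl⟩, mem_cz.2 (by rw [← map_mul, mem_cz.1 hy, map_mul])⟩, by
    rintro ⟨⟨y, rfl⟩, hy⟩
    exact ⟨y, mem_cz.2 (hj (by rw [map_mul, mem_cz.1 hy, map_mul])), rfl⟩⟩
  have h4 : cz u ≤ (normalizer ((cz a).map j : Set (G ⧸ center G))).comap (QuotientGroup.mk' _) := fun g hg => by
    have e : (g : G ⧸ center G) * j a * (g : G ⧸ center G)⁻¹ = j a := by
      rw [← hu, ← QuotientGroup.mk_mul, mem_cz.1 hg, QuotientGroup.mk_mul, mul_inv_cancel_right]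
    refine mem_normalizer_iff.2 fun y => ?_
    rw [hm, hm, ← cz_conj (g := (g : G ⧸ center G)), e]
    exact and_congr_left' ⟨fun k => hn.conj_mem y k _, fun k => by simpa [mul_assoc] using hn.conj_mem _ k (↑g)⁻¹⟩
  have h5 := h.K _ (fun e => h1 ((map_eq_one_iff j hj).1 ?_)) u (h4 (mem_cz.2 rfl))
    fun k => h3 (k.mono (le_inf h4 le_rfl))
  swap
  · haveI : ((cz a).map j).Normal := normalizer_eq_top_iff.1 (eq_top_iff.2 fun y _ => by
      obtain ⟨y, rfl⟩ := QuotientGroup.mk_surjective y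
      exact e.ge (mem_top y))
    exact mem_bot.1 (h.bot ((ab_map hj).2 h2).solv ▸ (⟨a, mem_cz.2 rfl, rfl⟩ : j a ∈ (cz a).map j))
  have h6 : centralizer ((P : Subgroup X) : Set X) = cz a := le_antisymm
    (centralizer_le (Set.singleton_subset_iff.2 ha)) fun y hy v hv => h2 v (mem_cz.2 (hP v hv a ha)) y hy
  refine burn hX (P := P) (fun e => h1 (mem_bot.1 (e ▸ ha))) fun g hg => ?_
  have h7 := Core.normalizer_le_normalizer_centralizer _ hg
  rw [h6] at h7
  obtain ⟨g', hg'⟩ := QuotientGroup.mk_surjective (j g)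
  have h8 := mem_cz.1 (h5 (show g' ∈ comap _ _ from by
    rw [mem_comap, QuotientGroup.mk'_apply, hg']; exact le_normalizer_map j ⟨g, h7, rfl⟩))
  refine h6.ge (mem_cz.2 (hj ?_))
  rw [map_mul, map_mul, ← hg', ← hu, ← QuotientGroup.mk_mul, h8, QuotientGroup.mk_mul]

end

end Cfsg.Agent.GC.CA
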