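import Mathlib
import Cfsg.Agent.GC.CA4

set_option autoImplicit false
set_option linter.style.haveILetI false
set_option linter.unusedSectionVars false

/-! The non-solvable groups all of whose proper subgroups have abelian centralizers are linear groups. -/

namespace Cfsg.Agent.GC.CA

open Subgroup Cfsg.Agent.Classical
open scoped MatrixGroups commutatorElement

variable {G : Type*} [Group G] [Finite G]

theorem perfect_range {Q X : Type*} [Group Q] [Group X] [IsSimpleGroup X] (hX : ¬ Group.IsSolvable X) (j : X →* Q) :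
    ⁅j.range, j.range⁆ = j.range := by
  rw [MonoidHom.range_eq_map, ← map_commutator]
  rcases (inferInstance : (⁅(⊤ : Subgroup X), (⊤ : Subgroup X)⁆).Normal).eq_bot_or_eq_top with e | e
  · exact absurd (solv_top (solv_of_comm (M := ⊥) inferInstance e.le)) hX
  · rw [e]

theorem Hyp.index (h : Hyp G) {F : Type} [Field F] [Fintype F] (h5 : 5 ≤ Fintype.card F)
    {j : PSL(2, F) →* G ⧸ center G} (hj : Function.Injective j) [hn : j.range.Normal]
    (hC : centralizer (j.range : Set (G ⧸ center G)) = ⊥) : j.range.index ∣ 4 := by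
  have h4 : 4 ≤ Nat.card F := by rw [Nat.card_eq_fintype_card]; omega
  haveI := Matrix.ProjectiveSpecialLinearGroup.rank_two_simple (F := F) h4
  have hX := Max.L2.not_solvable_PSL h4
  obtain ⟨φ, hφ⟩ : ∃ φ : G ⧸ center G →* MulAut PSL(2, F), ∀ γ x, j (φ γ x) = γ * j x * γ⁻¹ :=
    ⟨(MulAut.congr (MonoidHom.ofInjective hj).symm).toMonoidHom.comp MulAut.conjNormal, fun γ x =>
      congrArg Subtype.val ((MonoidHom.ofInjective hj).apply_symm_apply
        (MulAut.conjNormal γ (MonoidHom.ofInjective hj x)))⟩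
  have hφ' : Function.Injective φ := (injective_iff_map_eq_one φ).2 fun γ e => mem_bot.1 (hC ▸ by
    rintro _ ⟨x, rfl⟩
    have := hφ γ x
    rw [e, MulAut.one_apply, eq_mul_inv_iff_mul_eq] at this
    exact this)
  by_cases h9 : Fintype.card F = 9
  · haveI : Fact (Nat.Prime 3) := ⟨Nat.prime_three⟩
    obtain ⟨ψ, k1, -, k2⟩ := S2602.result (F := F) (p := 3) (f := 2) (by norm_num) h9 (by norm_num)
    have k3 : Nat.card (Out PSL(2, F)) = 4 := by
      rw [← ψ.ker.card_mul_index, k2, index_ker, MonoidHom.range_eq_top.2 k1, card_top,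
        Nat.card_congr Multiplicative.toAdd, Nat.card_zmod]; rfl
    have k4 : ((QuotientGroup.mk' (Inn PSL(2, F))).comp φ).ker ≤ j.range := fun γ hγ => by
      obtain ⟨x, hx⟩ := (QuotientGroup.eq_one_iff _).1 hγ
      refine ⟨x, hφ' (hx ▸ MulEquiv.ext fun y => hj ?_)⟩
      rw [hφ, MulAut.conj_apply, map_mul, map_mul, map_inv]
    refine (index_dvd_of_le k4).trans ?_
    rw [index_ker, ← k3]
    exact card_subgroup_dvd_card _
  obtain ⟨p, hp⟩ := CharP.exists F
  haveI hp' : Fact p.Prime := ⟨CharP.char_is_prime F p⟩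
  obtain ⟨P, hP⟩ := exists_ud (F := F) p
  have hm : (Nat.card F).Coprime (Nat.card (H2.Schur.Mult j.range)) := by
    rw [← H2.Schur.card_mult_congr (MonoidHom.ofInjective hj), card_mult h5 h9, ← Nat.card_eq_fintype_card]
    exact Nat.Coprime.coprime_dvd_right (Nat.gcd_dvd_right _ _) (by
      rw [Nat.coprime_self_sub_right (by omega)]; exact Nat.coprime_one_right _)
  have hl : ∀ {u g : G} {v : PSL(2, F)}, v ∈ (P : Subgroup _) → (u : G ⧸ center G) = j v →
      (g : G ⧸ center G) * u = u * g → g ∈ cz u := fun {u g v} hv e k =>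
    comm_lift (perfect_range hX j) ⟨v, e.symm⟩ (by
      rw [e, ← map_pow, ← hP.card, orderOf_dvd_iff_pow_eq_one.1 (Subgroup.orderOf_dvd_natCard _ hv), map_one]) hm k
  have hb := hP.bound (by omega) φ.range (by
    rintro _ ⟨γ, rfl⟩ u0 hu0 h1 e v0 hv0
    obtain ⟨g, rfl⟩ := QuotientGroup.mk_surjective γ
    obtain ⟨u, hu⟩ := QuotientGroup.mk_surjective (j u0)
    obtain ⟨v, hv⟩ := QuotientGroup.mk_surjective (j v0)
    have k1 := h.ab_lift hj hX hP.ab hu0 h1 (hP.ab.mono (hP.cent u0 hu0 h1)) hu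
    have k2 := k1 g (hl hu0 hu (by rw [hu, ← mul_inv_eq_iff_eq_mul, ← hφ, e])) v
      (hl hu0 hu (by rw [hu, hv, ← map_mul, ← map_mul, hP.ab _ hv0 _ hu0]))
    refine hj ?_
    rw [hφ, ← hv, ← QuotientGroup.mk_mul, k2, QuotientGroup.mk_mul, mul_inv_cancel_right])
  rw [← Nat.card_congr (MonoidHom.ofInjective hφ').toEquiv, ← j.range.card_mul_index,
    ← Nat.card_congr (MonoidHom.ofInjective hj).toEquiv, ← SLBasic.card_PSL_two, mul_comm] at hb
  have h1 := (Nat.le_of_mul_le_mul_right hb Nat.card_pos).trans (Nat.gcd_le_left _ two_pos)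
  have h2 := j.range.index_ne_zero_of_finite
  generalize j.range.index = i at h1 h2
  interval_cases i <;> simp at h2 ⊢

theorem Hyp.psl (h : Hyp G) : ∃ (F : Type) (_ : Field F) (_ : Fintype F), Nonempty (G ≃* PSL(2, F)) ∧
    5 ≤ Fintype.card F ∧ (Fintype.card F % 8 = 3 ∨ Fintype.card F % 8 = 5 ∨ Fintype.card F % 2 = 0) := by
  haveI := Fact.mk Nat.prime_two
  obtain ⟨S⟩ : Nonempty (Sylow 2 G) := inferInstance
  obtain ⟨F, _, _, j, hj, hn, hC, h5, h8⟩ := h.ident S
  have h4 : 4 ≤ Nat.card F := by rw [Nat.card_eq_fintype_card]; omega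
  haveI := Matrix.ProjectiveSpecialLinearGroup.rank_two_simple (F := F) h4
  have hX := Max.L2.not_solvable_PSL h4
  have hi := h.index h5 hj hC
  obtain ⟨x, hx, hx', l, hl, ho⟩ : ∃ x ∉ center G, ¬ Ab (cz x) ∧ ∃ l : ℕ, l.Prime ∧ orderOf (x : G ⧸ center G) = l := by
    obtain ⟨x, hx, hx'⟩ := h.nca
    obtain ⟨l, hl, k⟩ := Nat.exists_prime_and_dvd (n := orderOf (x : G ⧸ center G)) fun e =>
      hx ((QuotientGroup.eq_one_iff x).1 (orderOf_eq_one_iff.1 e))
    have e := orderOf_pow_orderOf_div (orderOf_pos _).ne' k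
    rw [← QuotientGroup.mk_pow] at e
    refine ⟨_, fun k => hl.ne_one ?_, fun k => hx' (k.mono fun y hy => mem_cz.2 (Commute.pow_right (mem_cz.1 hy) _)),
      l, hl, e⟩
    rw [← e, (QuotientGroup.eq_one_iff _).2 k, orderOf_one]
  have hS : Ab (S : Subgroup G) := by
    by_contra hS
    rcases hl.eq_two_or_odd' with rfl | h2
    · obtain ⟨t, e, k, ht⟩ := lift_two (y := (x : G ⧸ center G)) (k := 1) (by rw [pow_one, ← ho, pow_orderOf_eq_one])
      exact hx' (cz_of_mk e ▸ h.ab_two hS ht fun k => hx ((QuotientGroup.eq_one_iff x).1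
        (e ▸ (QuotientGroup.eq_one_iff t).2 k)))
    haveI := Fact.mk hl
    have h1 : (x : G ⧸ center G) ^ 4 ∈ j.range := by
      obtain ⟨c, hc⟩ := hi
      rw [hc, pow_mul]; exact pow_mem (pow_index_mem _ _) c
    obtain ⟨a, ha⟩ : (x : G ⧸ center G) ∈ j.range := Transfer.mem_of_pow_mem_of_coprime
      (by rw [ho]; exact (Nat.coprime_two_left.2 h2).pow_left 2) h1
    have h3 : orderOf a = l := by rw [← ho, ← ha, orderOf_injective j hj]
    obtain ⟨P, hP⟩ := (IsPGroup.of_card (n := 1) (G := zpowers a) (by rw [Nat.card_zpowers, h3, pow_one])).exists_le_sylow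
    have h6 : ∀ y ∈ (P : Subgroup PSL(2, F)), orderOf y = l → Ab (cz y) := fun y _ e => ab_cz fun k => by
      have := (Nat.prime_dvd_prime_iff_eq hl Nat.prime_two).1 (e ▸ orderOf_dvd_of_pow_eq_one (x := y) (by rwa [sq]))
      rw [this] at h2; exact absurd h2 (by decide)
    have h7 : a ≠ 1 := fun e => hl.ne_one (by rw [← h3, e, orderOf_one])
    have h9 := hP (mem_zpowers a)
    obtain ⟨z, z1, z2, z3⟩ := Inv.exists_central_prime P.isPGroup' fun e => h7 (mem_bot.1 (e ▸ h9))
    exact hx' (h.ab_lift hj hX ((h6 z z1 z2).mono fun y hy => mem_cz.2 (z3 y hy)) h9 h7 (h6 a h9 h3) ha.symm)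
  replace h8 := h8 hS
  have hK := h.top_of_ab hS (K := j.range.comap (QuotientGroup.mk' _)) (fun z hz => by
    rw [mem_comap, QuotientGroup.mk'_apply, (QuotientGroup.eq_one_iff z).2 hz]; exact one_mem _) (by
    obtain ⟨n, -, e⟩ := (Nat.dvd_prime_pow (m := 2) Nat.prime_two).1 hi
    exact IsPGroup.of_card ((index_comap_of_surjective _ (QuotientGroup.mk'_surjective _)).trans e))
  have hr : ∀ u : G, (u : G ⧸ center G) ∈ j.range := fun u => hK.ge (mem_top u)
  have hL : commutator G = ⊤ := by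
    by_contra e
    obtain ⟨l, hl, z, hz, rfl⟩ := exists_LZ (perfect_range hX j) (hr x)
    rw [hK] at hl
    rw [cz_mul hz] at hx'
    have k : ∀ g ∈ cz l, ∃ a ∈ commutator G ⊓ cz l, ∃ c ∈ center G, g = a * c := fun g hg => by
      obtain ⟨a, ha, c, hc, rfl⟩ := exists_LZ (perfect_range hX j) (hr g)
      rw [hK] at ha
      exact ⟨a, ⟨ha, (mul_mem_cancel_right (le_cz hc)).1 hg⟩, c, hc, rfl⟩
    by_cases k' : Ab (commutator G ⊓ cz l)
    · refine hx' fun a ha b hb => ?_
      obtain ⟨a, ha', c, hc, rfl⟩ := k a ha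
      obtain ⟨b, hb', d, hd, rfl⟩ := k b hb
      have e1 := mem_center_iff.1 hc
      have e2 := mem_center_iff.1 hd
      rw [mul_assoc, ← e1 (b * d), mul_assoc b d, mul_assoc b d, ← e2 (a * c), ← mul_assoc a, k' a ha' b hb', ← e2 c]
      group
    · refine hx (mul_mem (mem_center_iff.2 fun g => ?_) hz)
      obtain ⟨a, ha, c, hc, rfl⟩ := exists_LZ (perfect_range hX j) (hr g)
      rw [hK] at ha
      exact mem_cz.1 (mul_mem (h.K _ e l hl k' ha) (le_cz hc))
  have hZ : center G = ⊥ := eq_bot_iff.2 fun c hc => by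
    have h1 := pow_mult (N := j.range) (c := c) (by rw [hK]; exact hL.ge (mem_top c)) hc
    rw [← H2.Schur.card_mult_congr (MonoidHom.ofInjective hj), card_mult h5 (by omega)] at h1
    obtain ⟨d, hd⟩ := Nat.gcd_dvd_left 2 (Fintype.card F - 1)
    have h2 : c ^ 2 ^ 1 = 1 := by rw [pow_one, hd, pow_mul, h1, one_pow]
    haveI := ab_iff.1 hS
    haveI : (zpowers c).Normal := ⟨fun y hy g => by
      rwa [mem_center_iff.1 (zpowers_le.2 hc hy) g, mul_inv_cancel_right]⟩
    exact (Transfer.inf_commutator_inf_center_eq_bot S.card_coprime_index).le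
      ⟨⟨(two_zp h2).le_sylow_of_normal S (mem_zpowers c), hL.ge (mem_top c)⟩, hc⟩
  refine ⟨F, inferInstance, inferInstance, ⟨(MulEquiv.ofBijective (QuotientGroup.mk' (center G))
    ⟨?_, QuotientGroup.mk'_surjective _⟩).trans (MulEquiv.ofBijective j ⟨hj, fun y => ?_⟩).symm⟩, h5, h8⟩
  · rw [← MonoidHom.ker_eq_bot_iff, QuotientGroup.ker_mk', hZ]
  · obtain ⟨y, rfl⟩ := QuotientGroup.mk_surjective y
    exact hr y

end Cfsg.Agent.GC.CA
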