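import Mathlib
import Cfsg.Agent.GC.Basic
import Cfsg.Agent.GC.M9
import Cfsg.Agent.PGrp.Basic

/-! Groups whose Sylow 2-subgroup is the central quotient of the unitriangular group of degree five: the abelian
subgroup of order 64 is strongly closed. -/

set_option autoImplicit false
set_option linter.unusedSectionVars false

namespace Cfsg.Agent.GC

open Subgroup Cfsg.Agent.GW Cfsg.Agent.LocalEven Cfsg.Agent.BG Cfsg.Agent.Gs
open scoped commutatorElement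

variable {G : Type*} [Group G] [Finite G]

theorem pow_four {X K L : Subgroup G} (hX : ∀ x ∈ X, x * x = 1) (hK : K ≤ X) {g : G} (h1 : g ∈ centMod X K)
    (h2 : g ∈ centMod K L) (h3 : g ∈ 𝐂(L)) : g ^ 2 ^ 2 ∈ 𝐂(X) := fun v hv => by
  have e : ∀ y : G, g * y * g⁻¹ = ⁅y, g⁆⁻¹ * y := fun y => by simp only [commutatorElement_def]; group
  have m1 : ⁅v, g⁆⁻¹ ∈ K := inv_mem (h1.2 v hv)
  have m2 : ⁅⁅v, g⁆⁻¹, g⁆⁻¹ ∈ L := inv_mem (h2.2 _ m1)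
  have m3 : ⁅⁅v, g⁆⁻¹, g⁆⁻¹ ∈ K := by
    have := mul_mem (conj_mem_of_mem_normalizer h1.1 m1) (inv_mem m1)
    rwa [e, mul_inv_cancel_right] at this
  have e1 := e v
  have e2 := e ⁅v, g⁆⁻¹
  generalize ⁅⁅v, g⁆⁻¹, g⁆⁻¹ = d at *
  generalize ⁅v, g⁆⁻¹ = c at *
  have e3 := Gs.conj_eq_of_cent h3 m2
  have e4 : g * g * v * (g * g)⁻¹ = d * v := by
    calc _ = g * (g * v * g⁻¹) * g⁻¹ := by group
      _ = g * (c * v) * g⁻¹ := by rw [e1]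
      _ = (g * c * g⁻¹) * (g * v * g⁻¹) := by group
      _ = d * (c * c) * v := by rw [e2, e1]; group
      _ = _ := by rw [hX c (hK m1), mul_one]
  have e5 : g * g * (g * g) * v * (g * g * (g * g))⁻¹ = v := by
    calc _ = g * g * (g * g * v * (g * g)⁻¹) * (g * g)⁻¹ := by group
      _ = g * g * (d * v) * (g * g)⁻¹ := by rw [e4]
      _ = g * (g * d * g⁻¹) * g⁻¹ * (g * g * v * (g * g)⁻¹) := by group
      _ = d * d * v := by rw [e3, e3, e4, mul_assoc]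
      _ = v := by rw [hX d (hK m3), one_mul]
  rw [show g ^ 2 ^ 2 = g * g * (g * g) by rw [show 2 ^ 2 = 2 * 2 from rfl, pow_mul, sq, sq]]
  exact (mul_inv_eq_iff_eq_mul.1 e5).symm

/-- The setting. -/
structure TZ (S A : Subgroup G) (j : M9 →* G) : Prop where
  syl : IsSylowIn 2 S ⊤
  inj : Function.Injective j
  range : j.range = S
  eq : M9.A0.map j = A

namespace TZ

variable {S A : Subgroup G} {j : M9 →* G} (h : TZ S A j) {a g s t v w x y : G}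
include h

theorem mem {m : M9} : j m ∈ A ↔ m ∈ M9.A0 := h.eq ▸ mem_map_iff_mem h.inj
theorem exS (hs : s ∈ S) : ∃ m, j m = s := (h.range.symm ▸ hs : s ∈ j.range)
theorem exA (ha : a ∈ A) : ∃ m ∈ M9.A0, j m = a := (h.eq.symm ▸ ha : a ∈ M9.A0.map j)
theorem mS (m : M9) : j m ∈ S := h.range ▸ ⟨m, rfl⟩
theorem le : A ≤ S := fun a ha => by obtain ⟨m, -, rfl⟩ := h.exA ha; exact h.mS m
theorem sq : ∀ a ∈ A, a * a = 1 := fun a ha => by
  obtain ⟨m, hm, rfl⟩ := h.exA ha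
  rw [← map_mul, M9.sq_A0 hm, map_one]
theorem card : Nat.card A = 64 := by rw [← h.eq, Subgroup.card_map_of_injective h.inj, M9.card_A0]
theorem ab0 : A ≤ 𝐂(A) := le_cent_of_sq h.sq
theorem pg : IsPGroup 2 A := pgroup_of_sq h.sq

theorem uniq {B : Subgroup G} (h1 : B ≤ S) (h2 : B ≤ 𝐂(B)) (h3 : Nat.card B = 64) : B = A := by
  have e : (B.comap j).map j = B := map_comap_eq_self (h.range ▸ h1)
  rw [← e, ← h.eq, M9.uniq (B := B.comap j) (fun x hx y hy => h.inj (by rw [map_mul, map_mul]; exact h2 hy _ hx))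
    (by rw [← Subgroup.card_map_of_injective h.inj, e, h3])]

theorem cent (hs : s ∈ S) (hc : s ∈ 𝐂(A)) : s ∈ A := by
  obtain ⟨m, rfl⟩ := h.exS hs
  exact h.mem.2 (M9.cent fun a ha => h.inj (by rw [map_mul, map_mul]; exact hc _ (h.mem.2 ha)))

theorem quad (hx : x ∈ S) (hy : y ∈ S) (h1 : x * x ∈ A) (h2 : y * y ∈ A) (h3 : ⁅x, y⁆ ∈ A) (ha : a ∈ A) :
    ⁅⁅a, y⁆, x⁆ = 1 := by
  obtain ⟨x, rfl⟩ := h.exS hx
  obtain ⟨y, rfl⟩ := h.exS hy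
  obtain ⟨a, ha, rfl⟩ := h.exA ha
  simp only [← map_mul, ← map_commutatorElement, h.mem] at *
  rw [M9.quad h1 h2 h3 ha, map_one]

theorem c16 (hx : x ∈ S) (h1 : x ∉ A) (h2 : x * x ∈ A) : Nat.card (A ⊓ cz x : Subgroup G) = 16 := by
  obtain ⟨x, rfl⟩ := h.exS hx
  simp only [← map_mul, h.mem] at h1 h2
  rw [← M9.c16 h1 h2, ← Subgroup.card_map_of_injective h.inj]
  congr 2
  ext y
  refine ⟨fun ⟨y1, y2⟩ => ?_, ?_⟩
  · obtain ⟨y, hy, rfl⟩ := h.exA y1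
    exact ⟨y, ⟨hy, mem_centralizer_singleton_iff.2 (h.inj (by
      rw [map_mul, map_mul]; exact mem_centralizer_singleton_iff.1 y2))⟩, rfl⟩
  · rintro ⟨y, ⟨y1, y2⟩, rfl⟩
    exact ⟨h.mem.2 y1, mem_centralizer_singleton_iff.2 (by
      rw [← map_mul, ← map_mul, mem_centralizer_singleton_iff.1 y2])⟩

theorem two (hx : x ∈ S) (h1 : x ∉ A) : ∃ a ∈ A, ∃ b ∈ A, ⁅a, x⁆ ≠ 1 ∧ ⁅b, x⁆ ≠ 1 ∧ ⁅a * b, x⁆ ≠ 1 := by
  obtain ⟨x, rfl⟩ := h.exS hx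
  obtain ⟨a, ha, b, hb, e⟩ := M9.two (mt h.mem.2 h1)
  refine ⟨j a, h.mem.2 ha, j b, h.mem.2 hb, ?_⟩
  simpa only [← map_mul, ← map_commutatorElement, ne_eq, map_eq_one_iff j h.inj] using e

theorem ab (hx : x ∈ S) (h1 : x ∉ A) (h2 : x * x = 1) (hs : s ∈ S) (ht : t ∈ S) (h3 : ⁅s, x⁆ ∈ A) (h4 : ⁅t, x⁆ ∈ A) :
    ⁅s, t⁆ ∈ 𝐂(A ⊓ cz x ⊔ zpowers x) := by
  obtain ⟨x, rfl⟩ := h.exS hx
  obtain ⟨s, rfl⟩ := h.exS hs
  obtain ⟨t, rfl⟩ := h.exS ht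
  simp only [← map_mul, ← map_commutatorElement, h.mem, map_eq_one_iff j h.inj] at *
  obtain ⟨e1, e2⟩ := M9.ab h1 h2 h3 h4
  refine Gs.le_cent_comm.1 (sup_le (fun a ha => ?_) (zpowers_le.2 ?_)) (mem_zpowers _) <;> rw [cent_zpowers]
  · obtain ⟨a, ha', rfl⟩ := h.exA ha.1
    rw [mem_centralizer_singleton_iff, ← map_mul, ← map_mul, e2 a ha' (h.inj (by
      rw [map_mul, map_mul]; exact mem_centralizer_singleton_iff.1 ha.2))]
  · rw [mem_centralizer_singleton_iff, ← map_mul, ← map_mul, e1]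

theorem inj' (hs : s ∈ S) (ht : t ∈ S) (h1 : s * s ∈ A) (h2 : t * t ∈ A) (h3 : ∀ a ∈ A, ∃ b ∈ A, ⁅a, s⁆ = ⁅b, t⁆)
    (h4 : ∀ a ∈ A, ∃ b ∈ A, ⁅a, t⁆ = ⁅b, s⁆) : s * t⁻¹ ∈ A := by
  obtain ⟨s, rfl⟩ := h.exS hs
  obtain ⟨t, rfl⟩ := h.exS ht
  have key : ∀ {s t : M9}, (∀ a ∈ A, ∃ b ∈ A, ⁅a, j s⁆ = ⁅b, j t⁆) → ∀ a ∈ M9.A0, ∃ b ∈ M9.A0, ⁅a, s⁆ = ⁅b, t⁆ :=
    fun e a ha => by
      obtain ⟨b, hb, e1⟩ := e _ (h.mem.2 ha)
      obtain ⟨b, hb', rfl⟩ := h.exA hb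
      exact ⟨b, hb', h.inj (by simpa only [map_commutatorElement] using e1)⟩
  simp only [← map_mul, ← map_inv, h.mem] at h1 h2 ⊢
  exact M9.inj h1 h2 (key h3) (key h4)

theorem mid (hv : v ∈ S) (hw : w ∈ S) (h1 : v * v ∈ A) (h2 : v ∉ A) (h3 : w * w ∈ A) (h4 : ⁅v, w⁆ ∈ A) (ha : a ∈ A)
    (e : a * v = v * a) : ∃ b ∈ A, ⁅a, w⁆ = ⁅b, v⁆ := by
  obtain ⟨v, rfl⟩ := h.exS hv
  obtain ⟨w, rfl⟩ := h.exS hw
  obtain ⟨a, ha, rfl⟩ := h.exA ha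
  simp only [← map_mul, ← map_commutatorElement, h.mem] at *
  obtain ⟨b, hb, e1⟩ := M9.mid h1 h2 h3 h4 ha (h.inj e)
  exact ⟨j b, h.mem.2 hb, by rw [e1, map_commutatorElement]⟩

theorem fin (hy : y ∈ 𝐍(A)) (hc : ∀ s ∈ S, ⁅y, s⁆ ∈ 𝐂(A)) : y ^ 2 ^ 2 ∈ 𝐂(A) := by
  classical
  have ex : ∀ m : M9, ∃ n, m ∈ M9.A0 → n ∈ M9.A0 ∧ j n = y * j m * y⁻¹ := fun m => by
    by_cases hm : m ∈ M9.A0
    · obtain ⟨n, h1, h2⟩ := h.exA (conj_mem_of_mem_normalizer hy (h.mem.2 hm))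
      exact ⟨n, fun _ => ⟨h1, h2⟩⟩
    · exact ⟨1, fun e => (hm e).elim⟩
  choose σ hσ using ex
  have key := M9.fin σ (fun m hm => (hσ m hm).1) (fun m hm n hn => h.inj (by
      rw [map_mul, (hσ _ hm).2, (hσ _ hn).2, (hσ _ (mul_mem hm hn)).2, map_mul]; group))
    (fun m hm e => by
      have := (hσ m hm).2
      rw [e, map_one] at this
      exact (map_eq_one_iff j h.inj).1 (by_contra fun e1 => conj_ne_one e1 y this.symm))
    (fun m hm s => h.inj (by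
      have e1 := hc _ (h.mS s) _ (h.mem.2 (hσ m hm).1)
      have e2 := hc _ (h.mS s) _ (h.mem.2 ((inferInstance : M9.A0.Normal).conj_mem _ (inv_mem (hσ m hm).1) s))
      rw [(hσ _ (M9.comm_mem_A0 hm s)).2, map_commutatorElement, map_commutatorElement]
      rw [map_mul, map_mul, map_inv, map_inv] at e2
      rw [(hσ m hm).2] at e1 e2 ⊢
      calc _ = y * j m * y⁻¹ * (⁅y, j s⁆ * (j s * (y * j m * y⁻¹)⁻¹ * (j s)⁻¹)) * ⁅y, j s⁆⁻¹ := by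
            simp only [commutatorElement_def]; group
        _ = _ := by rw [← e2]; simp only [commutatorElement_def]; group))
  intro a ha
  obtain ⟨m, hm, rfl⟩ := h.exA ha
  have e := congrArg j (key m hm)
  have m1 := (hσ m hm).1
  have m2 := (hσ _ m1).1
  rw [(hσ _ (hσ _ m2).1).2, (hσ _ m2).2, (hσ _ m1).2, (hσ _ hm).2] at e
  rw [show y ^ 2 ^ 2 = y * y * y * y by rw [show 2 ^ 2 = 4 from rfl]; simp only [pow_succ, pow_zero, one_mul]]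
  conv_lhs => rw [← e]
  group

theorem wc {R : Subgroup G} (hR : IsPGroup 2 R) (h1 : A ≤ R) (h2 : cj g A ≤ R) : cj g A = A := by
  obtain ⟨m, -, e⟩ := h.syl.exists_cj_le hR le_top
  have key : ∀ k, cj k A ≤ S → cj k A = A := fun k hk =>
    h.uniq hk (by rw [← cj_centralizer]; exact cj_mono k h.ab0) (by rw [card_cj, h.card])
  have e1 := key m ((cj_mono m h1).trans e)
  have e2 := key (m * g) (cj_mul m g A ▸ (cj_mono m h2).trans e)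
  rw [cj_mul] at e2
  exact cj_inj.1 (e2.trans e1.symm)

theorem wc2 {H : Subgroup G} (h1 : A ≤ H) (h2 : cj g A ≤ H) : ∃ k ∈ H, cj k (cj g A) = A := by
  obtain ⟨R, hR, hle⟩ := exists_isSylowIn_le h.pg h1
  obtain ⟨k, hk, e⟩ := hR.exists_cj_le (isPGroup_cj g h.pg) h2
  rw [cj_cj] at e
  exact ⟨k, hk, by rw [cj_cj, h.wc hR.pgrp hle e]⟩

theorem nA : S ≤ 𝐍(A) := fun _ hs => cj_eq_self_iff.1 (h.wc h.syl.pgrp h.le (cj_le_of_mem hs h.le))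

theorem comm_mem (ha : a ∈ A) (hs : s ∈ 𝐍(A)) : ⁅a, s⁆ ∈ A := by
  rw [commutatorElement_def, mul_assoc, mul_assoc, ← mul_assoc s]
  exact mul_mem ha (conj_mem_of_mem_normalizer hs (inv_mem ha))

theorem e32 {E : Subgroup G} (h1 : E ≤ S) (h2 : ∀ e ∈ E, e * e = 1) (h3 : Nat.card E = 32) : A ≤ 𝐍(E) := by
  refine le_normalizer_of_cj_le fun a ha => cj_le_iff'.2 fun e he => ?_
  have hc : ⁅a, e⁆ ∈ A := h.comm_mem ha (h.nA (h1 he))
  have hE : ⁅a, e⁆ ∈ 𝐂(E) := fun x hx => (commutatorElement_eq_one_iff_mul_comm.1 (h.quad (h1 hx) (h1 he)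
    (h2 x hx ▸ one_mem _) (h2 e he ▸ one_mem _) (by
      rw [commutatorElement_eq_one_iff_mul_comm.2 (Gs.comm_of_sq h2 hx he)]; exact one_mem _) ha)).symm
  have key : ⁅a, e⁆ ∈ E := by
    by_contra hn
    have e1 : E ⊔ zpowers ⁅a, e⁆ = A := h.uniq (sup_le h1 (zpowers_le.2 (h.le hc)))
      (sup_le (Gs.le_cent_comm.1 (sup_le (le_cent_of_sq h2) (zpowers_le.2 hE))) (Gs.le_cent_comm.1 (sup_le
        (Gs.le_cent_comm.1 (zpowers_le.2 hE)) (by rw [cent_zpowers, zpowers_le]; exact mem_centralizer_singleton_iff.2 rfl))))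
      (by rw [PGrp.card_sup_zpowers Nat.prime_two (cent_le_norm' E hE) (by rw [pow_two, h.sq _ hc]; exact one_mem _) hn, h3])
    exact hn (by
      rw [commutatorElement_eq_one_iff_mul_comm.2 (Gs.comm_of_sq h.sq ha (e1 ▸ mem_sup_left he))]; exact one_mem _)
  have := mul_mem key he
  rwa [commutatorElement_def, inv_mul_cancel_right] at this

end TZ

end Cfsg.Agent.GC
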