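import Mathlib
import Cfsg.Agent.GC.TZ

/-! The abelian subgroup of order 64 is strongly closed. -/

set_option autoImplicit false
set_option linter.unusedSectionVars false

namespace Cfsg.Agent.GC

open Subgroup Cfsg.Agent.GW Cfsg.Agent.LocalEven Cfsg.Agent.BG Cfsg.Agent.Gs
open scoped commutatorElement

variable {G : Type*} [Group G] [Finite G]

theorem two_mul {H X : Subgroup G} (h : H.relIndex X = 2) {a b : G} (ha : a ∈ X) (hb : b ∈ X) (h1 : a ∉ H)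
    (h2 : b ∉ H) : a * b ∈ H :=
  (mul_mem_iff_of_index_two (H := H.subgroupOf X) h (a := ⟨a, ha⟩) (b := ⟨b, hb⟩)).2 (iff_of_false h1 h2)

theorem conj_eq (g y : G) : g * y * g⁻¹ = ⁅y, g⁆⁻¹ * y := by simp only [commutatorElement_def]; group

theorem comm_mul (a b g : G) : ⁅a * b, g⁆ = a * ⁅b, g⁆ * a⁻¹ * ⁅a, g⁆ := by simp only [commutatorElement_def]; group

theorem mem_centMod_of {X K : Subgroup G} {g : G} (hK : K ≤ X) (h : ∀ y ∈ X, ⁅y, g⁆ ∈ K) : g ∈ centMod X K :=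
  ⟨mem_normalizer_of_cj_le (cj_le_iff'.2 fun y hy => by rw [conj_eq]; exact mul_mem (inv_mem (h y (hK hy))) hy), h⟩

theorem comm_one {K : Subgroup G} {g y : G} (hg : g ∈ 𝐂(K)) (hy : y ∈ K) : ⁅y, g⁆ = 1 :=
  commutatorElement_eq_one_iff_mul_comm.2 (hg y hy)

theorem ab_of {X R K : Subgroup G} (hR : IsSylowIn 2 R 𝐍(X)) (hab : ∀ s ∈ R, ∀ t ∈ R, ⁅s, t⁆ ∈ 𝐂(X))
    (hK : K ≤ 𝐍(X)) (h4 : ∀ k ∈ K, k ^ 2 ^ 2 ∈ 𝐂(X)) {s t : G} (hs : s ∈ K) (ht : t ∈ K) : ⁅s, t⁆ ∈ 𝐂(X) := by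
  obtain ⟨π, hπ⟩ : ∃ π : 𝐍(X) →* MulAut X, ∀ g, π g = 1 ↔ (g : G) ∈ 𝐂(X) := ⟨X.normalizerMonoidHom, fun g => by
    rw [← MonoidHom.mem_ker, normalizerMonoidHom_ker, mem_subgroupOf]⟩
  have h1 := (hR.subgroupOf le_rfl).map π
  have h2 : IsPGroup 2 ((K.subgroupOf 𝐍(X)).map π) := isPGroup_iff_mem.2 (by
    rintro _ ⟨k, hk, rfl⟩
    exact ⟨2, by rw [← map_pow, hπ]; exact h4 k hk⟩)
  obtain ⟨n, -, e⟩ := h1.exists_cj_le h2 (map_mono (subgroupOf_mono _ hK))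
  have ms : (⟨s, hK hs⟩ : 𝐍(X)) ∈ K.subgroupOf 𝐍(X) := hs
  have mt' : (⟨t, hK ht⟩ : 𝐍(X)) ∈ K.subgroupOf 𝐍(X) := ht
  obtain ⟨s', hs', e1⟩ := mem_map.1 (cj_le_iff'.1 e _ (mem_map_of_mem π ms))
  obtain ⟨t', ht', e2⟩ := mem_map.1 (cj_le_iff'.1 e _ (mem_map_of_mem π mt'))
  have e3 : π ⁅s', t'⁆ = 1 := (hπ ⁅s', t'⁆).2 (hab s' (mem_subgroupOf.1 hs') t' (mem_subgroupOf.1 ht'))
  rw [map_commutatorElement, e1, e2, ← conjugate_commutatorElement, ← map_commutatorElement, mul_inv_eq_one,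
    mul_eq_left] at e3
  exact (hπ _).1 e3

namespace TZ

variable {S A : Subgroup G} {j : M9 →* G} (h : TZ S A j) {x : G} (hx : x ∈ S) (xA : x ∉ A) (x2 : x * x = 1)
include h hx xA x2

local notation "𝐇" => A ⊓ cz x
local notation "𝐗" => A ⊓ cz x ⊔ zpowers x

omit h hx xA x2 in
theorem x_cent : x ∈ 𝐂(𝐇) := fun _ hy => mem_centralizer_singleton_iff.1 hy.2

theorem X_idx : (𝐇).relIndex 𝐗 = 2 :=
  PGrp.relIndex_sup_zpowers Nat.prime_two (cent_le_norm' _ x_cent) (by rw [pow_two, x2]; exact one_mem _) fun e => xA e.1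

theorem X_card : Nat.card (𝐗 : Subgroup G) = 32 := by
  rw [← card_mul_relIndex (le_sup_left : 𝐇 ≤ 𝐗), h.X_idx hx xA x2, h.c16 hx xA (x2 ▸ one_mem _)]

omit xA x2 in
theorem X_le : 𝐗 ≤ S := sup_le (inf_le_left.trans h.le) (zpowers_le.2 hx)

omit h hx xA x2 in
theorem x_mem : x ∈ 𝐗 := mem_sup_right (mem_zpowers x)

omit h hx xA x2 in
theorem X_cz : 𝐗 ≤ cz x := sup_le inf_le_right (zpowers_le.2 (mem_centralizer_singleton_iff.2 rfl))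

theorem X_sq : ∀ y ∈ 𝐗, y * y = 1 := fun y hy => by
  by_cases e : y ∈ 𝐇
  · exact h.sq y e.1
  · have e1 := h.sq _ (two_mul (h.X_idx hx xA x2) hy x_mem e fun e => xA e.1).1
    have e2 := mem_centralizer_singleton_iff.1 (X_cz hy)
    calc y * y = y * y * (x * x) := by rw [x2, mul_one]
      _ = y * (y * x) * x := by group
      _ = y * (x * y) * x := by rw [e2]
      _ = y * x * (y * x) := by group
      _ = 1 := e1

theorem A_norm : A ≤ 𝐍(𝐗) := h.e32 (h.X_le hx) (h.X_sq hx xA x2) (h.X_card hx xA x2)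

theorem ab1 {s t : G} (hs : s ∈ S) (hs' : s ∈ 𝐍(𝐗)) (ht : t ∈ S) (ht' : t ∈ 𝐍(𝐗)) : ⁅s, t⁆ ∈ 𝐂(𝐗) := by
  have key : ∀ s ∈ S, s ∈ 𝐍(𝐗) → ⁅s, x⁆ ∈ A := fun s hs hs' =>
    (two_mul (h.X_idx hx xA x2) (conj_mem_of_mem_normalizer hs' x_mem) (inv_mem x_mem)
      (fun e => xA (by simpa [mul_assoc] using inv_conj_mem_of_mem_normalizer (h.nA hs) e.1))
      fun e => xA (inv_mem_iff.1 e.1)).1
  exact h.ab hx xA x2 hs ht (key s hs hs') (key t ht ht')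

theorem ab2 {R : Subgroup G} (hR : IsSylowIn 2 R 𝐍(𝐗)) (hA : A ≤ R) {s t : G} (hs : s ∈ R) (ht : t ∈ R) :
    ⁅s, t⁆ ∈ 𝐂(𝐗) := by
  obtain ⟨m, -, e⟩ := h.syl.exists_cj_le hR.pgrp le_top
  have e1 : cj m A = A := h.wc h.syl.pgrp h.le ((cj_mono m hA).trans e)
  have xR : x ∈ R := hR.le_of_le_normalizer le_normalizer (pgroup_of_sq (h.X_sq hx xA x2)) hR.le x_mem
  have e2 : cj m 𝐗 = A ⊓ cz (m * x * m⁻¹) ⊔ zpowers (m * x * m⁻¹) := by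
    rw [cj_sup, cj_inf, e1, cj_zpowers, cj_centralizer_singleton]
  have key := h.ab1 (e (conj_mem_cj xR)) (fun e3 => xA (conj_mem_cj_iff.1 (e1.symm ▸ e3))) (conj_sq x2 m)
    (e (conj_mem_cj hs)) (by rw [← e2, ← cj_normalizer]; exact conj_mem_cj (hR.le hs))
    (e (conj_mem_cj ht)) (by rw [← e2, ← cj_normalizer]; exact conj_mem_cj (hR.le ht))
  rw [← e2, ← cj_centralizer, ← conjugate_commutatorElement] at key
  exact conj_mem_cj_iff.1 key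

theorem ab3 {K : Subgroup G} (hK : K ≤ 𝐍(𝐗)) (h4 : ∀ k ∈ K, k ^ 2 ^ 2 ∈ 𝐂(𝐗)) {s t : G} (hs : s ∈ K) (ht : t ∈ K) :
    ⁅s, t⁆ ∈ 𝐂(𝐗) := by
  obtain ⟨R, hR, hA⟩ := exists_isSylowIn_le h.pg (h.A_norm hx xA x2)
  exact ab_of hR (fun s hs t ht => h.ab2 hx xA x2 hR hA hs ht) hK h4 hs ht

theorem comm_H {a y : G} (ha : a ∈ A) (hy : y ∈ 𝐗) : ⁅y, a⁆ ∈ 𝐇 := by
  refine mem_inf.2 ⟨?_, X_cz (A := A) ?_⟩
  · rw [← commutatorElement_inv]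
    exact inv_mem (h.comm_mem ha (h.nA (h.X_le hx hy)))
  · rw [commutatorElement_def, mul_assoc, mul_assoc, ← mul_assoc a]
    exact mul_mem hy (conj_mem_of_mem_normalizer (h.A_norm hx xA x2 ha) (inv_mem hy))

theorem comm_x {a y : G} (ha : a ∈ A) (hy : y ∈ 𝐗) (hn : y ∉ 𝐇) : ⁅y, a⁆ = ⁅x, a⁆ := by
  have e := two_mul (h.X_idx hx xA x2) hy x_mem hn fun e => xA e.1
  have e1 : y = y * x * x := by rw [mul_assoc, x2, mul_one]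
  rw [e1, comm_mul, comm_one (h.ab0 ha) e.1, mul_one,
    Gs.conj_eq_of_cent (h.ab0 e.1) (h.comm_H hx xA x2 ha x_mem).1]

theorem not_mem {g : G} (hg : g ∈ 𝐍(𝐗)) : x ∉ cj g A := fun hm => by
  have sq := h.X_sq hx xA x2
  have eX : cj g 𝐗 = 𝐗 := cj_eq_of_mem_normalizer hg
  have hX : cj g 𝐇 ≤ 𝐗 := (cj_mono g le_sup_left).trans eX.le
  have idx : (cj g 𝐇).relIndex 𝐗 = 2 := by
    conv_lhs => rw [← eX]
    rw [relIndex_cj, h.X_idx hx xA x2]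
  have hc : cj g A ≤ 𝐂(cj g 𝐇) := by
    rw [← cj_centralizer]; exact cj_mono g (h.ab0.trans (Gs.cent_anti inf_le_left))
  have xH : x ∈ cj g 𝐇 := mem_cj.2 ⟨mem_cj.1 hm, X_cz (inv_conj_mem_of_mem_normalizer hg x_mem)⟩
  have m1 : A ≤ centMod 𝐗 𝐇 := fun a ha => mem_centMod_of le_sup_left fun y hy => h.comm_H hx xA x2 ha hy
  have m2 : cj g A ≤ centMod 𝐗 (cj g 𝐇) := by
    have := cj_mono g m1
    rwa [cj_centMod, eX] at this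
  have m3 : cj g A ≤ 𝐍(𝐗) := cj_le_of_mem hg (h.A_norm hx xA x2)
  obtain ⟨a, ha, a1, a2⟩ : ∃ a ∈ A, ⁅x, a⁆ ≠ 1 ∧ ⁅x, a⁆ ∈ cj g 𝐇 := by
    obtain ⟨a, ha, b, hb, e1, e2, e3⟩ := h.two hx xA
    have i : ∀ c : G, ⁅c, x⁆ ≠ 1 → ⁅x, c⁆ ≠ 1 := fun c e e' => e (by rw [← commutatorElement_inv, e', inv_one])
    by_cases k1 : ⁅x, a⁆ ∈ cj g 𝐇
    · exact ⟨a, ha, i a e1, k1⟩
    by_cases k2 : ⁅x, b⁆ ∈ cj g 𝐇
    · exact ⟨b, hb, i b e2, k2⟩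
    refine ⟨a * b, mul_mem ha hb, i _ e3, ?_⟩
    have : ⁅x, a * b⁆ = ⁅x, a⁆ * (a * ⁅x, b⁆ * a⁻¹) := by simp only [commutatorElement_def]; group
    rw [this, Gs.conj_eq_of_cent (h.ab0 ha) (h.comm_H hx xA x2 hb x_mem).1]
    exact two_mul idx (mem_sup_left (h.comm_H hx xA x2 ha x_mem)) (mem_sup_left (h.comm_H hx xA x2 hb x_mem)) k1 k2
  have ca : ∀ y ∈ 𝐗, ⁅y, a⁆ ∈ zpowers ⁅x, a⁆ := fun y hy => by
    by_cases e : y ∈ 𝐇
    · rw [comm_one (h.ab0 ha) e.1]; exact one_mem _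
    · rw [h.comm_x hx xA x2 ha hy e]; exact mem_zpowers _
  have hL : zpowers ⁅x, a⁆ ≤ cj g 𝐇 := zpowers_le.2 a2
  obtain ⟨y, y1, y2⟩ : ∃ y ∈ 𝐇, y ∉ cj g 𝐇 := by
    by_contra hn
    push Not at hn
    exact xA (eq_of_le_of_card_ge hn (card_cj g _).le ▸ xH : x ∈ 𝐇).1
  have m4 : cj g A ≤ centMod 𝐗 𝐇 := fun b hb => by
    have e1 : ⁅a, b⁆ ∈ 𝐂(𝐗) := h.ab3 hx xA x2
      (K := 𝐍(𝐗) ⊓ (centMod 𝐗 (cj g 𝐇) ⊓ centMod (cj g 𝐇) (zpowers ⁅x, a⁆) ⊓ 𝐂(zpowers ⁅x, a⁆))) inf_le_left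
      (fun k hk => pow_four sq hX hk.2.1.1 hk.2.1.2 hk.2.2)
      ⟨h.A_norm hx xA x2 ha, ⟨mem_centMod_of hX fun y hy => hL (ca y hy), mem_centMod_of hL fun y hy => ca y (hX hy)⟩,
        Gs.cent_anti (zpowers_le.2 (h.comm_H hx xA x2 ha x_mem).1) (h.ab0 ha)⟩
      ⟨m3 hb, ⟨m2 hb, mem_centMod_of hL fun y hy => by rw [comm_one (hc hb) hy]; exact one_mem _⟩,
        Gs.cent_anti hL (hc hb)⟩
    have e2 : ⁅y, b⁆ ∈ 𝐗 := hX ((m2 hb).2 y (mem_sup_left y1))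
    have e3 : ⁅y, b⁆ ∈ 𝐇 := by
      by_contra hn
      refine a1 ((h.comm_x hx xA x2 ha e2 hn).symm.trans ?_)
      have e4 := Gs.conj_eq_of_cent e1 (mul_mem (inv_mem e2) (mem_sup_left y1))
      have e5 := Gs.conj_eq_of_cent (h.ab0 ha) y1.1
      have e6 : a * (⁅y, b⁆⁻¹ * y) * a⁻¹ = ⁅y, b⁆⁻¹ * y := by
        calc _ = ⁅a, b⁆ * (b * (a * y * a⁻¹) * b⁻¹) * ⁅a, b⁆⁻¹ := by simp only [commutatorElement_def]; group
          _ = _ := by rw [e5, conj_eq b y, e4]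
      generalize ⁅y, b⁆ = d at *
      calc ⁅d, a⁆ = d * (a * (d⁻¹ * y) * a⁻¹) * (a * y * a⁻¹)⁻¹ := by simp only [commutatorElement_def]; group
        _ = 1 := by rw [e6, e5]; group
    refine mem_centMod_of le_sup_left fun w hw => ?_
    by_cases e : w ∈ cj g 𝐇
    · rw [comm_one (hc hb) e]; exact one_mem _
    · have e4 := two_mul idx hw (mem_sup_left y1) e y2
      have e5 : w = w * y * y := by rw [mul_assoc, sq y (mem_sup_left y1), mul_one]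
      rw [e5, comm_mul, comm_one (hc hb) e4, mul_one, Gs.conj_eq_of_cent (le_cent_of_sq sq (hX e4)) e2]
      exact e3
  obtain ⟨k, hk, e⟩ := h.wc2 m1 m4
  have e1 : k * x * k⁻¹ ∈ A := e ▸ conj_mem_cj hm
  rw [conj_eq] at e1
  exact xA ((A.mul_mem_cancel_left (A.inv_mem (hk.2 x x_mem).1)).1 e1)

omit hx xA x2 in
theorem sc : SC A := by
  obtain ⟨S', e⟩ := h.syl.exists_sylow_top
  refine sc_of_closed S' ⟨e ▸ h.le, fun a ha g hg => by_contra fun xA => ?_⟩ h.sq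
  rw [e] at hg
  have x2 := conj_sq (h.sq a ha) g
  have m1 : g * a * g⁻¹ ∈ cj g A := conj_mem_cj ha
  have m2 : cj g A ≤ cz (g * a * g⁻¹) := by
    exact (cj_mono g (h.ab0.trans (cent_le_cz ha))).trans (cj_centralizer_singleton g a).le
  generalize g * a * g⁻¹ = x at *
  obtain ⟨T, hT, hle⟩ := exists_isSylowIn_le (pgroup_of_sq (h.X_sq hg xA x2)) X_cz
  obtain ⟨c, hc, e1⟩ := hT.exists_cj_le (isPGroup_cj g h.pg) m2
  obtain ⟨k, -, e2⟩ := h.syl.exists_cj_le hT.pgrp le_top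
  rw [cj_cj] at e1
  have e3 : cj (k * (c * g)) A = A := h.wc h.syl.pgrp h.le (cj_mul k _ A ▸ (cj_mono k e1).trans e2)
  have e4 : A ≤ 𝐍(cj k (A ⊓ cz x ⊔ zpowers x)) := h.e32 ((cj_mono k hle).trans e2) (fun y hy => by
    obtain ⟨y, hy', rfl⟩ := mem_cj'.1 hy
    exact conj_sq (h.X_sq hg xA x2 y hy') k) (by rw [card_cj, h.X_card hg xA x2])
  rw [← cj_normalizer, ← e3, cj_mul] at e4
  conv at e4 => rhs; rw [← cj_mul, e3]
  obtain ⟨n, hn, e5⟩ := h.wc2 (h.A_norm hg xA x2) (cj_le_cj.1 e4)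
  refine h.not_mem hg xA x2 (inv_mem hn) ?_
  rw [← cj_eq_iff.1 e5, cj_mul]
  have := conj_mem_cj (g := c) m1
  rwa [mem_centralizer_singleton_iff.1 hc, mul_inv_cancel_right] at this

end TZ

end Cfsg.Agent.GC
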