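import Mathlib
import Cfsg.Agent.H23.Cnt2

/-! Groups with many classes of 2-elements. -/

set_option autoImplicit false

namespace Cfsg.Agent.GC.K2

open Subgroup Cfsg.Agent.BG Cfsg.Agent.BG.Amb Cfsg.Agent.FGS Cfsg.Agent.H23.Cnt
open scoped _root_.Classical Pointwise commutatorElement

variable {G : Type*} [Group G] [Finite G]

theorem two_group (hG : IsPGroup 2 G) (h : Nat.card G ≤ 2 * Nat.card (ConjClasses G)) :
    Nat.card (commutator G) ≤ 2 ∧ Nat.card G ≠ 2 * Nat.card (ConjClasses G) := by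
  have := Fintype.ofFinite G
  have := Fact.mk Nat.prime_two
  obtain ⟨n, hn⟩ := hG.exists_card_eq
  choose d hd hd' using fun χ : IrrCharacter G => Char.isIrr_degree χ.2
  have h1 : ∑ χ, d χ ^ 2 = Nat.card G := by
    have := Char.sum_irr_one_sq (G := G)
    simp only [hd'] at this
    exact_mod_cast this
  have h0 : ∀ χ, ∃ k, d χ = 2 ^ k := fun χ =>
    ((Nat.dvd_prime_pow Nat.prime_two).1 (hn ▸ Char.isIrr_degree_dvd_card χ.2 (hd' χ))).imp fun _ h => h.2
  have h2 := Char.card_irr_degree_one (G := G)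
  rw [Nat.card_eq_fintype_card, Fintype.card_subtype] at h2
  have h3 : 4 * Nat.card (ConjClasses G) + (commutator G).index ≤ Nat.card G + 4 * (commutator G).index := by
    rw [← Char.card_irr_eq_card_conjClasses, ← h1, ← h2, Finset.card_filter, Finset.mul_sum,
      Nat.card_eq_fintype_card, ← Finset.card_univ, Finset.card_eq_sum_ones, Finset.mul_sum,
      ← Finset.sum_add_distrib, ← Finset.sum_add_distrib]
    refine Finset.sum_le_sum fun χ _ => ?_
    split_ifs with e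
    · rw [hd'] at e
      rw [show d χ = 1 by exact_mod_cast e]
      omega
    · obtain ⟨_ | k, hk⟩ := h0 χ
      · exact absurd (by rw [hd', hk]; simp) e
      · have := Nat.one_le_two_pow (n := k)
        rw [hk, pow_succ 2 k]
        nlinarith
  have h4 : Nat.card G % 3 = Nat.card (ConjClasses G) % 3 := by
    rw [← Char.card_irr_eq_card_conjClasses, ← h1, Nat.card_eq_fintype_card, ← Finset.card_univ,
      Finset.card_eq_sum_ones, Finset.sum_nat_mod]
    congr 1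
    refine Finset.sum_congr rfl fun χ _ => ?_
    obtain ⟨k, hk⟩ := h0 χ
    rw [hk, ← pow_mul, mul_comm, pow_mul, Nat.pow_mod]
    simp
  have h5 : ¬ 3 ∣ Nat.card G := fun e => by
    rw [hn] at e
    exact absurd (Nat.prime_three.dvd_of_dvd_pow e) (by norm_num)
  refine ⟨?_, by omega⟩
  have h6 : Nat.card (commutator G) ≠ 3 := fun e => h5 (e ▸ card_subgroup_dvd_card _)
  have h7 : 0 < (commutator G).index := Nat.pos_of_ne_zero index_ne_zero_of_finite
  rw [← (commutator G).card_mul_index] at h h3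
  by_contra h8
  nlinarith [Nat.mul_le_mul_right (commutator G).index (show 4 ≤ Nat.card (commutator G) by omega)]

omit [Finite G] in
theorem ncard_orb (N : Subgroup G) (a : G) : {b | ∃ n ∈ N, n * a * n⁻¹ = b}.ncard = 𝐂[a].relIndex N := by
  letI : MulAction N G := MulAction.compHom G (MulAut.conj.comp N.subtype)
  have h := MulAction.index_stabilizer N a
  have e1 : MulAction.stabilizer N a = 𝐂[a].subgroupOf N := by
    ext n
    rw [MulAction.mem_stabilizer_iff, mem_subgroupOf, mem_centralizer_singleton_iff, ← mul_inv_eq_iff_eq_mul]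
    rfl
  rw [relIndex, ← e1, h]
  congr 1
  ext b
  exact ⟨fun ⟨n, hn, e⟩ => ⟨⟨n, hn⟩, e⟩, fun ⟨n, e⟩ => ⟨n, n.2, e⟩⟩

theorem four_comm (P : Sylow 2 G) (hO : pResidual 2 G = ⊤) (hc : IsMulCommutative (P : Subgroup G))
    (h : Nat.card (P : Subgroup G) ≤ 2 * kS ((P : Subgroup G) : Set G)) : Nat.card (P : Subgroup G) ≤ 4 := by
  have := Fact.mk Nat.prime_two
  have h1 := (Transfer.fitting_decomposition_sylow P).1
  rw [hO, inf_top_eq, inf_eq_right.2 inf_le_left] at h1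
  have h2 := mul_kS_le (S := (((P : Subgroup G) : Set G) \ {1} : Set G)) (r := 3) fun x hx => by
    refine le_trans ?_ (Set.ncard_le_ncard (s := {b | ∃ n ∈ 𝐍((P : Subgroup G)), n * x * n⁻¹ = b}) (by
      rintro _ ⟨a, ha, rfl⟩
      exact ⟨⟨(mem_normalizer_iff.1 ha x).1 hx.1, fun e => hx.2 (by simpa using e)⟩, isConj_iff.2 ⟨a, rfl⟩⟩))
    rw [ncard_orb]
    have e3 : 𝐂[x].relIndex 𝐍((P : Subgroup G)) ≠ 1 := fun e => hx.2 (mem_bot.1 (h1 ▸ ⟨hx.1, fun a ha =>
      mem_centralizer_singleton_iff.1 (relIndex_eq_one.1 e ha)⟩))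
    have e4 : ¬ 2 ∣ 𝐂[x].relIndex 𝐍((P : Subgroup G)) := fun e =>
      (P.subtype le_normalizer).not_dvd_index (e.trans (relIndex_dvd_of_le_left _ fun a ha =>
        mem_centralizer_singleton_iff.2 (isMulCommutative_iff_forall.1 hc a ha x hx.1)))
    have e5 : 𝐂[x].relIndex 𝐍((P : Subgroup G)) ≠ 0 := index_ne_zero_of_finite
    omega
  have h3 := kS_union_le ({1} : Set G) (((P : Subgroup G) : Set G) \ {1})
  have h4 := kS_le_ncard ({1} : Set G)
  have h5 := Set.ncard_sdiff_singleton_add_one (P : Subgroup G).one_mem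
  rw [Set.union_sdiff_cancel (Set.singleton_subset_iff.2 (one_mem _))] at h3
  rw [Set.ncard_singleton] at h4
  change _ = Nat.card (P : Subgroup G) at h5
  omega

/-- A 2-group with derived subgroup of order two. -/
structure Tw (P : Subgroup G) (z : G) : Prop where
  mem : z ∈ P
  two : orderOf z = 2
  cen : z ∈ 𝐂(P)
  cj : ∀ a ∈ P, ∀ b ∈ P, a * b * a⁻¹ = b ∨ a * b * a⁻¹ = b * z
  nc : ¬ IsMulCommutative P

namespace Tw

variable {P : Subgroup G} {z : G} (h : Tw P z)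
include h

omit [Finite G] in
theorem zz : z * z = 1 := by rw [← sq, ← h.two, pow_orderOf_eq_one]

omit [Finite G] in
theorem z1 : z ≠ 1 := ne_one_of_orderOf_prime Nat.prime_two h.two

omit [Finite G] in
theorem conj {x : G} (hx : x ∈ P) (hn : x ∉ 𝐂(P)) : ∃ a ∈ P, a * x * a⁻¹ = x * z := by
  by_contra e
  exact hn fun a ha => mul_inv_eq_iff_eq_mul.1 ((h.cj a ha x hx).resolve_right fun k => e ⟨a, ha, k⟩)

omit [Finite G] in
theorem comm {a b : G} (ha : a ∈ P) (hb : b ∈ P) : ⁅a, b⁆ = 1 ∨ ⁅a, b⁆ = z :=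
  (h.cj a ha b hb).imp (fun e => by rw [commutatorElement_def, e, mul_inv_cancel]) fun e => by
    rw [commutatorElement_def, e, h.cen b hb, mul_inv_cancel_right]

omit [Finite G] in
theorem fix {g : G} (hg : g ∈ 𝐍(P)) : g * z * g⁻¹ = z := by
  obtain ⟨x, hx, hn⟩ : ∃ x ∈ P, x ∉ 𝐂(P) := by
    by_contra! e
    exact h.nc (isMulCommutative_iff_forall.2 fun a ha b hb => e b hb a ha)
  obtain ⟨a, ha, e⟩ := h.conj hx hn
  have e1 : ⁅a, x⁆ = z := by rw [commutatorElement_def, e, h.cen x hx, mul_inv_cancel_right]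
  have e2 := conjugate_commutatorElement a x g
  rw [e1] at e2
  rw [e2]
  exact (h.comm ((mem_normalizer_iff.1 hg a).1 ha) ((mem_normalizer_iff.1 hg x).1 hx)).resolve_left fun k =>
    h.z1 (by simpa using e2.trans k)

theorem two_mul {S : Set G} (h1 : ∀ x ∈ S, x ∈ P ∧ x ∉ 𝐂(P)) (h2 : ∀ x ∈ S, x * z ∈ S) : 2 * kS S ≤ S.ncard :=
  mul_kS_le fun x hx => by
    obtain ⟨a, -, e⟩ := h.conj (h1 x hx).1 (h1 x hx).2
    exact (Set.one_lt_ncard (Set.toFinite _)).2 ⟨x, ⟨hx, IsConj.refl x⟩, x * z, ⟨h2 x hx, isConj_iff.2 ⟨a, e⟩⟩,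
      fun k => h.z1 (by simpa using k)⟩

theorem norm (hP : IsPGroup 2 P) (hk : Nat.card P ≤ 2 * kS (P : Set G)) {s k : ℕ} (hs : s.Prime) (h2 : s ≠ 2) {g : G}
    (ho : orderOf g = s ^ k) (hg : g ∈ 𝐍(P)) : g ∈ 𝐂(P) := by
  have := Fact.mk Nat.prime_two
  have := Fact.mk hs
  by_contra hn
  have hlt : P ⊓ 𝐂(zpowers g) < P := lt_of_le_of_ne inf_le_left fun e => hn fun y hy =>
    ((e.ge hy).2 g (mem_zpowers g)).symm
  have hC : 4 * Nat.card (P ⊓ 𝐂(zpowers g) :) ≤ Nat.card P := by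
    have h4 := Transfer.card_modEq_card_inf_centralizer (isPGroup_zpowers ho) (zpowers_le.2 hg)
    obtain ⟨t, ht⟩ := card_dvd_of_le hlt.le
    have h5 := Core.card_lt_of_lt hlt
    have hp := pi_of_isPGroup (π := {2}) hP rfl
    have h6 : ¬ s ∣ Nat.card (P ⊓ 𝐂(zpowers g) :) := fun e => h2 (hp s hs (e.trans (card_dvd_of_le inf_le_left)))
    have h7 : t ≠ 3 := fun e => absurd (hp 3 Nat.prime_three ⟨_, by rw [ht, e, mul_comm]⟩) (by simp)
    generalize Nat.card (P ⊓ 𝐂(zpowers g) :) = c at *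
    rw [ht] at h4 h5 ⊢
    have h8 : t ≠ 2 := by
      rintro rfl
      exact h6 (by simpa [mul_two] using (Nat.modEq_iff_dvd' (by omega)).1 h4.symm)
    have : ¬ t ≤ 1 := fun e => by nlinarith
    nlinarith [show 4 ≤ t by omega]
  have hZ := sq_mul_center_le (le_of_dvd_card hP) h.nc
  have zC : z ∈ 𝐂(zpowers g) := by
    rw [zpowers_eq_closure, centralizer_closure, mem_centralizer_singleton_iff]
    exact (mul_inv_eq_iff_eq_mul.1 (h.fix hg)).symm
  set Z := P ⊓ 𝐂(P)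
  set C := P ⊓ 𝐂(zpowers g)
  have zZ : z ∈ Z := ⟨h.mem, h.cen⟩
  have zC' : z ∈ C := ⟨h.mem, zC⟩
  have k1 := h.two_mul (S := (C : Set G) \ Z) (fun x hx => ⟨hx.1.1, fun e => hx.2 ⟨hx.1.1, e⟩⟩)
    fun x hx => ⟨mul_mem hx.1 zC', fun e => hx.2 ((mul_mem_cancel_right zZ).1 e)⟩
  have k2 := mul_kS_le (S := (P : Set G) \ (Z ∪ C)) (r := 4) fun x hx => by
    have c1 : ∀ x ∈ (P : Set G) \ (Z ∪ C), x * z ∈ (P : Set G) \ (Z ∪ C) ∧ IsConj x (x * z) := fun x hx => by
      obtain ⟨a, -, e⟩ := h.conj hx.1 fun e => hx.2 (.inl ⟨hx.1, e⟩)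
      exact ⟨⟨mul_mem hx.1 h.mem, fun e => hx.2 (e.imp (mul_mem_cancel_right zZ).1 (mul_mem_cancel_right zC').1)⟩, isConj_iff.2 ⟨a, e⟩⟩
    have c2 : g * x * g⁻¹ ∈ (P : Set G) \ (Z ∪ C) := ⟨(mem_normalizer_iff.1 hg x).1 hx.1, fun e => hx.2 (e.imp
      (fun e => ⟨hx.1, (mem_normalizer_iff.1 (le_norm_cent le_rfl hg) x).2 e.2⟩)
      fun e => ⟨hx.1, (mem_normalizer_iff.1 (le_norm_cent le_normalizer (mem_zpowers g)) x).2 e.2⟩)⟩
    have c3 : ∀ n : ℕ, n.Coprime s → g ^ n * x = x * g ^ n → False := fun n hn e => hx.2 (.inr ⟨hx.1, by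
      change x ∈ 𝐂(zpowers g)
      rw [zpowers_eq_closure, centralizer_closure, mem_centralizer_singleton_iff]
      exact (mem_centralizer_singleton_iff.1 (Transfer.mem_of_pow_mem_of_coprime (H := 𝐂[x]) (ho ▸ hn.pow_right k)
        (mem_centralizer_singleton_iff.2 e))).symm⟩)
    have c4 : g * x * g⁻¹ ≠ x := fun e => c3 1 (by simp) (by simpa using mul_inv_eq_iff_eq_mul.1 e)
    have c5 : g * x * g⁻¹ ≠ x * z := fun e => c3 2 ((Nat.coprime_primes Nat.prime_two hs).2 h2.symm) (by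
      rw [← mul_inv_eq_iff_eq_mul]
      calc _ = g * (g * x * g⁻¹) * g⁻¹ := by rw [sq]; group
        _ = g * (x * z) * g⁻¹ := by rw [e]
        _ = g * x * g⁻¹ * (g * z * g⁻¹) := by group
        _ = x := by rw [h.fix hg, e, mul_assoc, h.zz, mul_one])
    have c6 : ∀ y, y ≠ y * z := fun y k => h.z1 (by simpa using k)
    refine (Set.three_lt_ncard_iff (Set.toFinite _)).2 ⟨x, x * z, g * x * g⁻¹, g * x * g⁻¹ * z, ⟨hx, .refl x⟩,
      c1 x hx, ⟨c2, isConj_iff.2 ⟨g, rfl⟩⟩, ⟨(c1 _ c2).1, (isConj_iff.2 ⟨g, rfl⟩).trans (c1 _ c2).2⟩,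
      c6 x, c4.symm, fun e => c5 ?_, c5.symm, fun e => c4 (mul_right_cancel e).symm, c6 _⟩
    rw [e, mul_assoc (g * _ * _), h.zz, mul_one, ← e]
  have k3 : kS (P : Set G) ≤ kS (Z : Set G) + kS ((C : Set G) \ Z) + kS ((P : Set G) \ (Z ∪ C)) :=
    (kS_le_of_conj fun x hx => ⟨x, by simp only [Set.mem_union, Set.mem_sdiff]; tauto, .refl x⟩).trans
      ((kS_union_le _ _).trans (Nat.add_le_add_right (kS_union_le _ _) _))
  have k4 := kS_le_ncard (Z : Set G)
  have k5 := Set.ncard_sdiff_add_ncard_of_subset (s := (Z ∪ C : Set G)) (t := P)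
    (Set.union_subset inf_le_left inf_le_left)
  have k6 := Set.ncard_union_eq (s := (Z : Set G)) (t := (C : Set G) \ Z) Set.disjoint_sdiff_right
  have k7 : ((C : Set G) \ Z).ncard < (C : Set G).ncard := Set.ncard_lt_ncard
    ⟨Set.sdiff_subset, fun e => (e (one_mem C)).2 (one_mem Z)⟩
  rw [Set.union_sdiff_self] at k6
  change _ = Nat.card P at k5
  change _ = Nat.card Z + _ at k6
  change _ ≤ Nat.card Z at k4
  change _ < Nat.card C at k7
  omega

omit h in
theorem wc {P : Sylow 2 G} (h : Tw (P : Subgroup G) z)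
    (hN : ∀ g ∈ 𝐍((P : Subgroup G)), ∀ x ∈ (P : Subgroup G), g * x * g⁻¹ = x ∨ g * x * g⁻¹ = x * z)
    (hw : ∀ g : G, g * z * g⁻¹ ∈ (P : Subgroup G) → g * z * g⁻¹ = z) : HasNormalPComplement 2 G := by
  have := Fact.mk Nat.prime_two
  have hDP : zpowers z ≤ P := zpowers_le.2 h.mem
  have hDZ : zpowers z ≤ 𝐂((P : Subgroup G)) := zpowers_le.2 h.cen
  have hW : IsWeaklyClosed (zpowers z) (P : Subgroup G) := ⟨hDP, fun g hg => by
    rw [MonoidHom.map_zpowers] at hg ⊢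
    exact congrArg zpowers (hw g (zpowers_le.1 hg))⟩
  have hPN : (P : Subgroup G) ≤ 𝐍(zpowers z) := (le_centralizer_iff.1 hDZ).trans (centralizer_le_normalizer _)
  refine Transfer.hasNormalPComplement_of_control P hPN
    (fun x hx g hg => Transfer.control_of_isWeaklyClosed' hDZ hW (x := x) (g := g) hx hg) ?_
  let E := (zpowers z).subgroupOf 𝐍(zpowers z)
  refine Transfer.hasNormalPComplement_of_ker_le_center (QuotientGroup.mk' E) ?_ ?_
  · rw [QuotientGroup.ker_mk']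
    intro x hx
    obtain ⟨k, e⟩ := mem_zpowers_iff.1 (mem_subgroupOf.1 hx)
    refine mem_center_iff.2 fun v => Subtype.ext ?_
    change v.1 * x.1 = x.1 * v.1
    rw [← e]
    exact Commute.zpow_right (mul_inv_eq_iff_eq_mul.1
      (hw v (hDP ((mem_normalizer_iff.1 v.2 z).1 (mem_zpowers z))))) k
  have hE : E ≤ (P : Subgroup G).subgroupOf 𝐍(zpowers z) := fun x hx => hDP hx
  refine Transfer.hasNormalPComplement_of_normalizer_le_centralizer
    ((P.subtype hPN).mapSurjective (QuotientGroup.mk'_surjective E)) fun g hg y hy => ?_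
  obtain ⟨g, rfl⟩ := QuotientGroup.mk'_surjective E g
  obtain ⟨y, hy, rfl⟩ := hy
  have k : g.1 ∈ 𝐍((P : Subgroup G)) := mem_normalizer_fintype fun x hx => by
    have := (mem_normalizer_iff.1 hg (QuotientGroup.mk' E ⟨x, hPN hx⟩)).1 ⟨_, hx, rfl⟩
    rw [← map_inv, ← map_mul, ← map_mul] at this
    exact (comap_map_eq_self ((QuotientGroup.ker_mk' E).le.trans hE)).le this
  rw [← map_mul, ← map_mul, eq_comm, QuotientGroup.mk'_eq_mk']
  rcases hN g k y hy with e | e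
  · exact ⟨1, one_mem _, Subtype.ext (by simpa using mul_inv_eq_iff_eq_mul.1 e)⟩
  · refine ⟨⟨z, hPN h.mem⟩, mem_zpowers z, Subtype.ext ?_⟩
    change g.1 * y * z = y * g
    calc _ = g * y * g.1⁻¹ * (g * z * g.1⁻¹) * g := by group
      _ = _ := by rw [e, h.fix k, mul_assoc y.1, h.zz, mul_one]

omit h in
theorem nwc {P : Sylow 2 G} (h : Tw (P : Subgroup G) z) (hO : pResidual 2 G = ⊤)
    (hk : Nat.card (P : Subgroup G) ≤ 2 * kS ((P : Subgroup G) : Set G))
    (hN : ∀ g ∈ 𝐍((P : Subgroup G)), ∃ v ∈ (P : Subgroup G), ∀ x ∈ (P : Subgroup G), g * x * g⁻¹ = v * x * v⁻¹)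
    {g : G} (hg : g * z * g⁻¹ ∈ (P : Subgroup G)) : g * z * g⁻¹ = z := by
  have := Fact.mk Nat.prime_two
  by_contra hn
  have hPz : ∀ u ∈ 𝐂((P : Subgroup G)), (P : Subgroup G) ≤ 𝐂[u] := fun u hu x hx =>
    mem_centralizer_singleton_iff.2 (hu x hx)
  have bu : ∀ a : G, a * z * a⁻¹ ∈ 𝐂((P : Subgroup G)) → a * z * a⁻¹ = z := fun a ha => by
    obtain ⟨b, hb, e⟩ := Transfer.exists_smul_sylow_eq_of_le (P := a • P) (Q := P) (H := 𝐂[a * z * a⁻¹])
      (fun x hx => by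
        have := h.cen _ (Transfer.mem_smul_sylow_iff.1 hx)
        rw [mem_centralizer_singleton_iff]
        calc x * (a * z * a⁻¹) = a * (a⁻¹ * x * a * z) * a⁻¹ := by group
          _ = _ := by rw [this]; group) (hPz _ ha)
    rw [smul_smul, Sylow.smul_eq_iff_mem_normalizer] at e
    calc _ = b * (a * z * a⁻¹) * b⁻¹ := by rw [mem_centralizer_singleton_iff.1 hb, mul_inv_cancel_right]
      _ = b * a * z * (b * a)⁻¹ := by group
      _ = z := h.fix e
  obtain ⟨c, hc, h4⟩ := Transfer.exists_conj_mem_sylow_of_le (P := P) (H := 𝐂[z])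
    (A := MulAut.conj g⁻¹ • ((P : Subgroup G) ⊓ 𝐂[g * z * g⁻¹])) (hPz z h.cen)
    (Transfer.isPGroup_conj_smul (P.2.to_inf_left) _) (by
      rw [Transfer.conj_smul_le_iff]
      intro x hx
      rw [mem_centralizer_singleton_iff, inv_inv]
      calc g⁻¹ * x * g * z = g⁻¹ * (x * (g * z * g⁻¹)) * g := by group
        _ = z * (g⁻¹ * x * g) := by rw [mem_centralizer_singleton_iff.1 hx.2]; group)
  have h5 : ∀ u ∈ (P : Subgroup G) ⊓ 𝐂[g * z * g⁻¹], (c * g⁻¹) * u * (c * g⁻¹)⁻¹ ∈ (P : Subgroup G) := fun u hu => by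
    simpa [mul_assoc] using h4 _ (Transfer.conj_mem_conj_smul (g := g⁻¹) hu)
  have h6 : (c * g⁻¹) * (g * z * g⁻¹) * (c * g⁻¹)⁻¹ = z := by
    calc _ = c * z * c⁻¹ := by group
      _ = z := by rw [mem_centralizer_singleton_iff.1 hc, mul_inv_cancel_right]
  have yZ : g * z * g⁻¹ ∉ 𝐂((P : Subgroup G)) := fun e => hn (bu g e)
  generalize c * g⁻¹ = a at h5 h6
  generalize g * z * g⁻¹ = y at *
  set Q := (P : Subgroup G) ⊓ 𝐂[y] with hQ
  have az : a * z * a⁻¹ ≠ z := fun e => hn (by simpa using h6.trans e.symm)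
  have zQ : z ∈ Q := ⟨h.mem, mem_centralizer_singleton_iff.2 (h.cen y hg).symm⟩
  have ab : ∀ u ∈ Q, ∀ v ∈ Q, u * v = v * u := fun u hu v hv =>
    commutatorElement_eq_one_iff_mul_comm.1 ((h.comm hu.1 hv.1).resolve_right fun e => by
      have e2 := conjugate_commutatorElement u v a
      rw [e] at e2
      exact (h.comm (h5 u hu) (h5 v hv)).elim (fun k => h.z1 (by simpa using e2.trans k)) fun k => az (e2.trans k))
  obtain ⟨t, ht, ty⟩ := h.conj hg yZ
  have nQ : ∀ x ∈ (P : Subgroup G), x ∉ Q → x * y * x⁻¹ = y * z := fun x hx e => (h.cj x hx y hg).resolve_left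
    fun k => e ⟨hx, mem_centralizer_singleton_iff.2 (mul_inv_eq_iff_eq_mul.1 k)⟩
  have tQ : t ∉ Q := fun e => h.z1 (by
    rw [mem_centralizer_singleton_iff.1 e.2, mul_inv_cancel_right] at ty; simpa using ty)
  have dec : ∀ x ∈ (P : Subgroup G), x ∉ Q → t⁻¹ * x ∈ Q := fun x hx e =>
    ⟨(P : Subgroup G).mul_mem ((P : Subgroup G).inv_mem ht) hx, mem_centralizer_singleton_iff.2 (by
      rw [← mul_inv_eq_iff_eq_mul]
      calc _ = t⁻¹ * (x * y * x⁻¹) * t := by group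
        _ = y := by rw [nQ x hx e, ← ty]; group)⟩
  have i2 : Q.relIndex P = 2 := relIndex_eq_two_iff_exists_notMem_and'.2 ⟨t⁻¹, inv_mem ht, by simpa using tQ,
    fun x hx => (em (x ∈ Q)).symm.imp_left (dec x hx)⟩
  have nrm : ∀ X ≤ (P : Subgroup G), z ∈ X → 𝐍((P : Subgroup G)) ≤ 𝐍(X) := fun X hX hz n hn =>
    mem_normalizer_fintype fun x hx => by
      obtain ⟨v, hv, e⟩ := hN n hn
      rw [e x (hX hx)]
      exact (h.cj v hv x (hX hx)).elim (fun k => k.symm ▸ hx) fun k => k.symm ▸ mul_mem hx hz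
  have aQ : a ∈ 𝐍(Q) := by
    obtain ⟨b, hb, e⟩ := Transfer.exists_smul_sylow_eq_of_le (P := a⁻¹ • P) (Q := P) (H := 𝐍(Q))
      (fun x hx => mem_normalizer_fintype fun u hu => by
        have := (mem_normalizer_iff.1 (nrm (MulAut.conj a • Q) (Transfer.conj_smul_le_iff.2 h5)
          (h6 ▸ Transfer.conj_mem_conj_smul ⟨hg, self_mem_centralizer y⟩)
          (le_normalizer (Transfer.mem_smul_sylow_iff.1 hx))) _).1 (Transfer.conj_mem_conj_smul (g := a) hu)
        simpa [mul_assoc] using Transfer.mem_conj_smul_iff.1 this) (le_normalizer.trans (nrm Q inf_le_left zQ))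
    rw [smul_smul, Sylow.smul_eq_iff_mem_normalizer] at e
    simpa using mul_mem (inv_mem (nrm Q inf_le_left zQ e)) hb
  have cZ : ∀ u ∈ Q, t * u * t⁻¹ = u → u ∈ 𝐂((P : Subgroup G)) := fun u hu e x hx => by
    by_cases k : x ∈ Q
    · exact ab x k u hu
    · calc x * u = t * (t⁻¹ * x * u) := by group
        _ = t * u * t⁻¹ * x := by rw [ab _ (dec x hx k) u hu]; group
        _ = u * x := by rw [e]
  have tz : ∀ u ∈ Q, u ∉ 𝐂((P : Subgroup G)) → t * u * t⁻¹ = u * z := fun u hu e =>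
    (h.cj t ht u hu.1).resolve_left fun k => e (cZ u hu k)
  have fz : ∀ u ∈ Q, ∃ w ∈ (P : Subgroup G) ⊓ 𝐂((P : Subgroup G)), IsConj u w := fun u hu => by
    by_cases k1 : u ∈ 𝐂((P : Subgroup G))
    · exact ⟨u, ⟨hu.1, k1⟩, .refl u⟩
    have m1 := (mem_normalizer_iff.1 aQ u).1 hu
    have m2 := (mem_normalizer_iff.1 aQ z).1 zQ
    by_cases k2 : a * u * a⁻¹ ∈ 𝐂((P : Subgroup G))
    · exact ⟨_, ⟨m1.1, k2⟩, isConj_iff.2 ⟨a, rfl⟩⟩
    refine ⟨_, ⟨(mul_mem m1 m2).1, cZ _ (mul_mem m1 m2) ?_⟩, isConj_iff.2 ⟨a * t, ?_⟩⟩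
    · calc _ = t * (a * u * a⁻¹) * t⁻¹ * (t * (a * z * a⁻¹) * t⁻¹) := by group
        _ = a * u * a⁻¹ * (z * (a * z * a⁻¹) * z) := by rw [tz _ m1 k2, tz _ m2 fun e => az (bu a e)]; group
        _ = _ := by rw [← h.cen _ m2.1, mul_assoc (a * z * a⁻¹), h.zz, mul_one]
    · calc _ = a * (t * u * t⁻¹) * a⁻¹ := by group
        _ = _ := by rw [tz u hu k1]; group
  obtain ⟨u, hu, uQ, v, hv⟩ : ∃ u ∈ (P : Subgroup G), u ∉ Q ∧ ∃ v, v * u * v⁻¹ ∈ Q := by
    by_contra! e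
    refine tQ (((le_inf le_rfl (hO ▸ le_top)).trans (Transfer.sylow_inf_pResidual_le_focalSubgroup P)).trans
      (Transfer.focalSubgroup_le_of_forall fun x hx v hv => ?_) ht)
    by_cases k : x ∈ Q
    · exact mul_mem (inv_mem k) (by_contra fun k' => e _ hv k' v⁻¹ (by simpa [mul_assoc] using k))
    · simpa [mul_assoc] using mul_mem (inv_mem (dec x hx k)) (dec _ hv (e x hx k v))
  let T : Set G := {x | x ∈ (P : Subgroup G) ∧ ∀ v, v * x * v⁻¹ ∉ Q}
  have nZ : ∀ x ∈ T, x ∉ 𝐂((P : Subgroup G)) := fun x hx e => hx.2 1 (by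
    rw [one_mul, inv_one, mul_one]; exact ⟨hx.1, mem_centralizer_singleton_iff.2 (e y hg).symm⟩)
  have k1 := h.two_mul (S := T) (fun x hx => ⟨hx.1, nZ x hx⟩) fun x hx => ⟨mul_mem hx.1 h.mem, fun v e => by
    obtain ⟨b, -, e'⟩ := h.conj hx.1 (nZ x hx)
    exact hx.2 (v * b) (by rw [← e'] at e; simpa [mul_assoc] using e)⟩
  have k2 : T.ncard < (((P : Subgroup G) : Set G) \ (Q : Set G)).ncard := Set.ncard_lt_ncard
    ⟨fun x hx => ⟨hx.1, by simpa using hx.2 1⟩, fun e => (e ⟨hu, uQ⟩).2 v hv⟩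
  have k3 := Set.ncard_sdiff_add_ncard_of_subset (s := (Q : Set G)) (t := (P : Subgroup G)) inf_le_left
  have k4 := Core.card_mul_relIndex (inf_le_left : Q ≤ P)
  have k5 := sq_mul_center_le (le_of_dvd_card P.2) h.nc
  have k6 : kS ((P : Subgroup G) : Set G) ≤ Nat.card ((P : Subgroup G) ⊓ 𝐂((P : Subgroup G)) :) + kS T :=
    (kS_le_of_conj fun x hx => by
      by_cases e : x ∈ T
      · exact ⟨x, .inr e, .refl x⟩
      · obtain ⟨v, hv⟩ : ∃ v, v * x * v⁻¹ ∈ Q := by_contra fun k => e ⟨hx, not_exists.1 k⟩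
        obtain ⟨w, hw, e'⟩ := fz _ hv
        exact ⟨w, .inl hw, (isConj_iff.2 ⟨v, rfl⟩).trans e'⟩).trans
      ((kS_union_le _ _).trans (Nat.add_le_add_right (kS_le_ncard _) _))
  change _ + Nat.card Q = Nat.card (P : Subgroup G) at k3
  rw [i2] at k4
  change Nat.card Q * 2 = _ at k4
  change 4 * Nat.card ((P : Subgroup G) ⊓ 𝐂((P : Subgroup G)) :) ≤ _ at k5
  omega

end Tw

theorem four (P : Sylow 2 G) (hO : pResidual 2 G = ⊤) (h : Nat.card (P : Subgroup G) ≤ 2 * kpi {2} G) :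
    Nat.card (P : Subgroup G) ≤ 4 := by
  have := Fact.mk Nat.prime_two
  rw [kpi_eq_kS P] at h
  by_cases hc : IsMulCommutative (P : Subgroup G)
  · exact four_comm P hO hc h
  exfalso
  have h1 := (two_group P.2 (h.trans (Nat.mul_le_mul_left _ (kS_le_classes _)))).1
  have h2 := le_center_of_card_le (le_of_dvd_card P.2) h1
  have h3 : Nat.card (commutator (P : Subgroup G)) = 2 := by
    have : Nat.card (commutator (P : Subgroup G)) ≠ 1 := fun e => hc ((commutator_eq_bot_iff _).1 (card_eq_one.1 e))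
    have := Nat.card_pos (α := commutator (P : Subgroup G))
    omega
  obtain ⟨z, z1, hz⟩ := (Nat.card_eq_two_iff' (1 : commutator (P : Subgroup G))).1 h3
  have zc : ∀ x ∈ (P : Subgroup G), x * z = z * x := fun x hx => congrArg Subtype.val (mem_center_iff.1 (h2 z.2) ⟨x, hx⟩)
  have hT : Tw (P : Subgroup G) z := ⟨z.1.2, ((orderOf_coe _).trans (orderOf_coe _)).trans
    (orderOf_eq_prime (by have := pow_card_eq_one' (x := z); rwa [h3] at this) z1), zc, fun a ha b hb => by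
      let k : commutator (P : Subgroup G) := ⟨⁅⟨a, ha⟩, ⟨b, hb⟩⁆, commutator_mem_commutator (mem_top _) (mem_top _)⟩
      have e : a * b * a⁻¹ = k * b := (inv_mul_cancel_right _ b).symm
      rw [e, zc b hb]
      exact (eq_or_ne k 1).imp (fun e => by rw [e]; simp) fun e => by rw [hz k e], hc⟩
  have hN : 𝐍((P : Subgroup G)) ≤ (P : Subgroup G) ⊔ 𝐂((P : Subgroup G)) :=
    Transfer.le_of_forall_prime_pow_mem fun s hs _ g hg ⟨k, hk⟩ => by
      by_cases e : s = 2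
      · subst e; exact mem_sup_left (mem_sylow_of_mem_normalizer P hk hg)
      · exact mem_sup_right (hT.norm P.2 h hs e hk hg)
  have hN' : ∀ g ∈ 𝐍((P : Subgroup G)), ∃ v ∈ (P : Subgroup G), ∀ x ∈ (P : Subgroup G),
      g * x * g⁻¹ = v * x * v⁻¹ := fun g hg => by
    have : g ∈ ((P : Subgroup G) : Set G) * (𝐂((P : Subgroup G)) : Subgroup G) := by
      rw [← coe_mul_of_right_le_normalizer_left (P : Subgroup G) _ (centralizer_le_normalizer _)]
      exact hN hg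
    obtain ⟨v, hv, c, hc, rfl⟩ := this
    refine ⟨v, hv, fun x hx => ?_⟩
    calc _ = v * (c * x) * c⁻¹ * v⁻¹ := by group
      _ = _ := by rw [← hc x hx]; group
  have h4 := Transfer.hasNormalPComplement_iff_not_dvd.1 (hT.wc (fun g hg x hx => by
    obtain ⟨v, hv, e⟩ := hN' g hg
    exact e x hx ▸ hT.cj v hv x hx) fun g hg => hT.nwc hO h hN' hg)
  rw [hO, card_top] at h4
  exact h4 (hT.two ▸ orderOf_dvd_natCard _)

end Cfsg.Agent.GC.K2
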