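import Mathlib
import Cfsg.Agent.GC.K2
import Cfsg.Agent.S0483
import Cfsg.Agent.Block.Quat
import Cfsg.Agent.Comp2.GenFitting
import Cfsg.Agent.Core.PConstrained
import Cfsg.Agent.Classical.SLBasic

/-! Groups with `|P| / 2` classes of 2-elements. -/

set_option autoImplicit false

namespace Cfsg.Agent.GC.K2

open Subgroup Cfsg.Agent.BG Cfsg.Agent.BG.Amb Cfsg.Agent.FGS Cfsg.Agent.H23.Cnt
open scoped _root_.Classical Pointwise commutatorElement MatrixGroups

variable {G : Type*} [Group G] [Finite G]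

theorem bot_of_odd (hO : pPrimeCore 2 G = ⊥) {N : Subgroup G} (hN : N.Normal) (h : ¬ 2 ∣ Nat.card N) : N = ⊥ :=
  le_bot_iff.1 (hO ▸ Core.le_pPrimeCore hN ((Nat.Prime.coprime_iff_not_dvd Nat.prime_two).2 h).symm)

theorem dvd_sylow (R : Sylow 2 G) {k : ℕ} (h : 2 ^ k ∣ Nat.card G) : 2 ^ k ∣ Nat.card (R : Subgroup G) := by
  have := Fact.mk Nat.prime_two
  rw [R.card_eq_multiplicity]
  exact pow_dvd_pow 2 ((Nat.prime_two.pow_dvd_iff_le_factorization Nat.card_pos.ne').1 h)

theorem four_of_top (R : Sylow 2 G) (hO : pResidual 2 G = ⊤) (h2 : 2 ∣ Nat.card G) (h8 : ¬ 8 ∣ Nat.card G) :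
    IsKleinFour (R : Subgroup G) := by
  have := Fact.mk Nat.prime_two
  have h1 : ¬ IsCyclic (R : Subgroup G) := fun e => by
    have := Transfer.hasNormalPComplement_iff_not_dvd.1 (Block.hasNormalPComplement_two_of_isCyclic R e)
    rw [hO, card_top] at this
    exact this h2
  obtain ⟨k, hk⟩ := R.2.exists_card_eq
  have h3 : Nat.card (R : Subgroup G) = 2 ^ 2 := by
    obtain _ | _ | _ | k := k
    · exact absurd (isCyclic_of_card_dvd_prime (p := 2) (by rw [hk]; simp)) h1
    · exact absurd (isCyclic_of_card_dvd_prime (p := 2) (by rw [hk]; simp)) h1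
    · exact hk
    · exact absurd (((pow_dvd_pow 2 (by omega : 3 ≤ k + 1 + 1 + 1)).trans hk.symm.dvd).trans
        (card_subgroup_dvd_card _)) h8
  exact ⟨h3, (not_isCyclic_iff_exponent_eq_prime Nat.prime_two h3).1 h1⟩

theorem setup (P : Sylow 2 G) (hO : pPrimeCore 2 G = ⊥) (hk : 2 * kpi {2} G = Nat.card (P : Subgroup G)) :
    2 ∣ Nat.card (pResidual 2 G) ∧ ¬ 8 ∣ Nat.card (pResidual 2 G) ∧ commutator G ≤ pResidual 2 G := by
  have := Fact.mk Nat.prime_two
  obtain ⟨R⟩ : Nonempty (Sylow 2 (pResidual 2 G)) := inferInstance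
  obtain ⟨j, hj⟩ := Transfer.exists_index_pResidual_eq_pow (p := 2) (G := G)
  have h1 : Nat.card (P : Subgroup G) = Nat.card (R : Subgroup (pResidual 2 G)) * (pResidual 2 G).index := by
    rw [P.card_eq_multiplicity, R.card_eq_multiplicity, ← (pResidual 2 G).card_mul_index,
      Nat.factorization_mul Nat.card_pos.ne' index_ne_zero_of_finite, hj, Finsupp.add_apply,
      Nat.factorization_pow_self Nat.prime_two, pow_add]
  have h2 := kpi_le_mul {2} (pResidual 2 G)
  have h3 : kpi {2} (G ⧸ pResidual 2 G) ≤ kS ((⊤ : Subgroup (G ⧸ pResidual 2 G)) : Set (G ⧸ pResidual 2 G)) :=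
    kpi_eq.trans_le (kS_le_of_conj fun x _ => ⟨x, mem_top x, .refl x⟩)
  have h4 : kS ((⊤ : Subgroup (G ⧸ pResidual 2 G)) : Set (G ⧸ pResidual 2 G)) ≤ (pResidual 2 G).index :=
    (kS_le_ncard _).trans (by rw [coe_top, Set.ncard_univ]; rfl)
  have h5 : 0 < (pResidual 2 G).index := Nat.pos_of_ne_zero index_ne_zero_of_finite
  have h6 : Nat.card (R : Subgroup (pResidual 2 G)) ≤ 2 * kpi {2} (pResidual 2 G) := by
    refine Nat.le_of_mul_le_mul_right ?_ h5
    nlinarith [Nat.mul_le_mul_left (kpi {2} (pResidual 2 G)) (h3.trans h4)]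
  have h7 : 2 ∣ Nat.card (pResidual 2 G) := by
    by_contra e
    have hG := Transfer.isPGroup_of_pResidual_eq_bot (bot_of_odd hO inferInstance e)
    have hP : (P : Subgroup G) = ⊤ := P.is_maximal' (hG.to_subgroup ⊤) le_top |>.symm
    rw [kpi_eq_kS P, hP, card_top, coe_top, kS_univ] at hk
    exact (two_group hG hk.ge).2 hk.symm
  have h8 := four R Transfer.pResidual_pResidual h6
  refine ⟨h7, fun e => absurd (Nat.le_of_dvd Nat.card_pos (dvd_sylow R (k := 3) e)) (by omega), ?_⟩
  have h9 : 2 * kpi {2} (pResidual 2 G) ≤ Nat.card (R : Subgroup (pResidual 2 G)) := not_lt.1 fun e => by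
    have := Transfer.hasNormalPComplement_iff_not_dvd.1 (npc_two R e)
    rw [Transfer.pResidual_pResidual, card_top] at this
    exact this h7
  have h10 : (pResidual 2 G).index ≤ kS ((⊤ : Subgroup (G ⧸ pResidual 2 G)) : Set (G ⧸ pResidual 2 G)) := by
    refine Nat.le_of_mul_le_mul_left ?_ (Nat.card_pos (α := (R : Subgroup (pResidual 2 G))))
    nlinarith [Nat.mul_le_mul h9 h3]
  have h11 := comm_of_lt (H := (⊤ : Subgroup (G ⧸ pResidual 2 G))) (p := 2) (fun q hq _ => hq.two_le) (by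
    rw [card_top, ← index_eq_card]; omega)
  rw [_root_.commutator_def, commutator_le]
  intro a _ b _
  rw [← QuotientGroup.eq_one_iff, ← QuotientGroup.mk'_apply, map_commutatorElement,
    commutatorElement_eq_one_iff_mul_comm]
  exact congrArg Subtype.val (h11.is_comm.comm ⟨_, mem_top _⟩ ⟨_, mem_top _⟩)

theorem le_center (hO : pPrimeCore 2 G = ⊥) {K N : Subgroup G} [K.Normal] [N.Normal] (hK : commutator G ≤ K)
    (h : ¬ 2 ∣ Nat.card (N ⊓ K :)) : N ≤ center G := fun x hx => mem_center_iff.2 fun g => by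
  rw [← commutatorElement_eq_one_iff_mul_comm, ← mem_bot, ← bot_of_odd hO inferInstance h]
  exact ⟨commutator_le_right ⊤ N (commutator_mem_commutator (mem_top g) hx),
    hK (commutator_mem_commutator (mem_top g) (mem_top x))⟩

theorem nsolv (hO : pPrimeCore 2 G = ⊥) {K : Subgroup G} [K.Normal] (h8 : ¬ 8 ∣ Nat.card K)
    (hK : commutator G ≤ K) (hs : ¬ Group.IsSolvable G) :
    ∃ S : Subgroup (G ⧸ Subgroup.center G), S.Normal ∧ IsSimpleGroup S ∧ ¬ IsMulCommutative S ∧
      Subgroup.centralizer (S : Set (G ⧸ Subgroup.center G)) = ⊥ ∧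
      ∃ (F : Type) (_ : Field F) (_ : Fintype F), 3 < Fintype.card F ∧ (Fintype.card F % 8 = 3 ∨ Fintype.card F % 8 = 5) ∧
        Nonempty (S ≃* Matrix.ProjectiveSpecialLinearGroup (Fin 2) F) := by
  have := Fact.mk Nat.prime_two
  obtain ⟨L, hL, L1, Lp⟩ : ∃ L : Subgroup G, L.Normal ∧ L ≠ ⊥ ∧ commutator L = ⊤ := by
    obtain ⟨L, ⟨n, rfl⟩, hmin⟩ := (Set.toFinite (Set.range (derivedSeries G))).exists_minimal
      (Set.range_nonempty _)
    refine ⟨_, derivedSeries_normal G n, fun h => hs ⟨n, h⟩, ?_⟩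
    have h1 : derivedSeries G n ≤ derivedSeries G (n + 1) := hmin ⟨n + 1, rfl⟩ (commutator_le_left _ _)
    refine map_injective (derivedSeries G n).subtype_injective ?_
    rw [map_subtype_commutator, ← MonoidHom.range_eq_map, range_subtype]
    exact le_antisymm (commutator_le_left _ _) h1
  have : Group.IsPerfect L := ⟨Lp⟩
  have LK : L ≤ K := by
    have := map_subtype_commutator L
    rw [Lp, ← MonoidHom.range_eq_map, range_subtype] at this
    exact this.le.trans ((commutator_mono le_top le_top).trans hK)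
  have L8 : ¬ 8 ∣ Nat.card L := fun e => h8 (e.trans (card_dvd_of_le LK))
  have LO : pResidual 2 L = ⊤ := by
    by_contra e
    obtain ⟨N, hN, hi, -⟩ := Transfer.exists_normal_index_eq_of_pResidual_ne_top e
    have : IsCyclic (L ⧸ N) := isCyclic_of_prime_card hi
    have h := Lp ▸ (Subgroup.Normal.quotient_commutative_iff_commutator_le (N := N)).1 inferInstance
    rw [top_le_iff.1 h, index_top] at hi
    omega
  obtain ⟨R⟩ : Nonempty (Sylow 2 L) := inferInstance
  have hR := four_of_top R LO (by_contra fun e => L1 (bot_of_odd hO hL e)) L8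
  have L4 : 4 ∣ Nat.card L := hR.card_four ▸ card_subgroup_dvd_card _
  have O1 : oddCore L = ⊥ := (map_eq_bot_iff_of_injective _ L.subtype_injective).1 (bot_of_odd hO inferInstance (by
    rw [Core.card_map_subtype]
    exact (Nat.Prime.coprime_iff_not_dvd Nat.prime_two).1 (Core.pPrimeCore_coprime 2).symm))
  have e0 : L ≃* L ⧸ oddCore L := ((QuotientGroup.quotientMulEquivOfEq O1).trans QuotientGroup.quotientBot).symm
  obtain ⟨F, _, _, ho, h3, ⟨e⟩⟩ | ⟨⟨e⟩⟩ := S0483.result R 2 le_rfl IsKleinFour.nonempty_mulEquiv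
  swap
  · refine absurd ?_ L8
    rw [Nat.card_congr (e0.trans e).toEquiv, nat_card_alternatingGroup]
    simp [Nat.factorial]
  replace e := e0.trans e
  have := Matrix.ProjectiveSpecialLinearGroup.rank_two_simple (F := F) (by rw [Nat.card_eq_fintype_card]; omega)
  have hS : IsSimpleGroup L := e.isSimpleGroup
  have nc : ¬ IsMulCommutative L := fun h => L1 (by
    have := (commutator_eq_bot_iff L).2 h
    rw [Lp] at this
    exact (eq_bot_iff_forall _).2 fun x hx => congrArg Subtype.val (mem_bot.1 (this.le (mem_top (⟨x, hx⟩ : L)))))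
  have LC : L ⊓ 𝐂(L) = ⊥ := by
    rcases hS.eq_bot_or_eq_top_of_normal (center L) inferInstance with h | h
    · exact (eq_bot_iff_forall _).2 fun x hx => congrArg Subtype.val (mem_bot.1
        (h ▸ mem_center_iff.2 fun y => Subtype.ext (hx.2 y y.2) : (⟨x, hx.1⟩ : L) ∈ ⊥))
    · exact absurd ⟨⟨fun a b => mem_center_iff.1 (h ▸ mem_top b) a⟩⟩ nc
  have CZ : 𝐂(L) ≤ center G := le_center hO hK fun h => h8 (by
    have h1 := Core.card_sup_of_disjoint (N := L) (H := 𝐂(L) ⊓ K) le_normalizer_of_normal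
      (disjoint_iff.2 (le_bot_iff.1 (LC ▸ inf_le_inf_left L inf_le_left)))
    exact (mul_dvd_mul L4 h).trans (h1 ▸ card_dvd_of_le (sup_le LK inf_le_right)))
  have LZ : ∀ x ∈ L, x ∈ center G → x = 1 := fun x hx hz => mem_bot.1 (LC ▸ ⟨hx, center_le_centralizer _ hz⟩)
  have e1 : L ≃* L.map (QuotientGroup.mk' (center G)) :=
    MulEquiv.ofBijective ((QuotientGroup.mk' (center G)).subgroupMap L) ⟨(injective_iff_map_eq_one _).2 fun x hx =>
      Subtype.ext (LZ x x.2 ((QuotientGroup.eq_one_iff _).1 (congrArg Subtype.val hx))),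
      MonoidHom.subgroupMap_surjective _ _⟩
  refine ⟨L.map (QuotientGroup.mk' _), hL.map _ (QuotientGroup.mk'_surjective _), e1.symm.isSimpleGroup,
    fun h => nc ⟨⟨fun a b => e1.injective (by rw [map_mul, map_mul, h.is_comm.comm])⟩⟩,
    (eq_bot_iff_forall _).2 fun x hx => ?_, F, inferInstance, inferInstance, h3, ?_, ⟨e1.symm.trans e⟩⟩
  · obtain ⟨x, rfl⟩ := QuotientGroup.mk_surjective x
    refine (QuotientGroup.eq_one_iff _).2 (CZ fun y hy => commutatorElement_eq_one_iff_mul_comm.1 (LZ _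
      (commutator_le_left L ⊤ (commutator_mem_commutator hy (mem_top x))) ?_))
    rw [← QuotientGroup.eq_one_iff, ← QuotientGroup.mk'_apply, map_commutatorElement,
      commutatorElement_eq_one_iff_mul_comm]
    exact hx _ (mem_map_of_mem _ hy)
  · have h := Cfsg.Agent.Classical.SLBasic.card_PSL_two (F := F)
    rw [← Nat.card_congr e.toEquiv, Nat.card_eq_fintype_card (α := F)] at h
    generalize Fintype.card F = q at *
    obtain ⟨m, rfl⟩ := ho
    rw [show 2 * m + 1 - 1 = 2 * m by omega, Nat.gcd_mul_right_right,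
      show (2 * m + 1) ^ 2 - 1 = 4 * (m * (m + 1)) by rw [Nat.sub_eq_iff_eq_add (Nat.one_le_pow _ _ (by omega))]; ring] at h
    by_contra k
    apply L8
    have h4 : 4 ∣ m * (m + 1) := by
      rcases (by omega : 4 ∣ m ∨ 4 ∣ m + 1) with k | k
      exacts [k.mul_right _, k.mul_left _]
    obtain ⟨r, hr⟩ := h4
    exact ⟨(2 * m + 1) * r, by rw [hr] at h; nlinarith⟩

theorem solv (hO : pPrimeCore 2 G = ⊥) (h2 : 2 ∣ Nat.card (pResidual 2 G)) (h8 : ¬ 8 ∣ Nat.card (pResidual 2 G))
    (hK : commutator G ≤ pResidual 2 G) (hs : Group.IsSolvable G) :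
    Nonempty (G ⧸ center G ≃* alternatingGroup (Fin 4)) ∨ Nonempty (G ⧸ center G ≃* Equiv.Perm (Fin 4)) := by
  have := Fact.mk Nat.prime_two
  have := Fact.mk Nat.prime_three
  have hKO := Transfer.pResidual_pResidual (p := 2) (G := G)
  obtain ⟨j, hj⟩ := Transfer.exists_index_pResidual_eq_pow (p := 2) (G := G)
  have hT : ∀ T : Sylow 3 G, (T : Subgroup G) ≤ pResidual 2 G := fun T => Transfer.le_pResidual_of_coprime (by
    obtain ⟨k, hk⟩ := T.2.exists_card_eq
    rw [hk]
    exact Nat.Coprime.pow_left _ (by norm_num))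
  have hN : (pResidual 2 G).Normal := inferInstance
  generalize pResidual 2 G = K at *
  obtain ⟨R⟩ : Nonempty (Sylow 2 K) := inferInstance
  have hR := four_of_top R hKO h2 h8
  have K4 : 4 ∣ Nat.card K := hR.card_four ▸ card_subgroup_dvd_card _
  have hC := Core.centralizer_pCore_le_of_normal (Comp2.centralizer_pCore_le_of_isSolvable 2 hs hO) K
  have W4 : Nat.card (pCore 2 K) ∣ 4 := hR.card_four ▸ card_dvd_of_le (Core.pCore_le_sylow R)
  let f : K →* Equiv.Perm (pCore 2 K) := (MulAction.toPermHom (MulAut (pCore 2 K)) (pCore 2 K)).comp MulAut.conjNormal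
  have f1 : f.ker ≤ pCore 2 K := fun x hx => hC fun y hy => by
    have := congrArg Subtype.val (Equiv.congr_fun (MonoidHom.mem_ker.1 hx) ⟨y, hy⟩)
    exact (mul_inv_eq_iff_eq_mul.1 this).symm
  have f2 : f.ker.index ∣ 24 := by
    rw [index_ker]
    refine (card_subgroup_dvd_card _).trans ?_
    rw [Nat.card_perm]
    exact Nat.factorial_dvd_factorial (Nat.le_of_dvd (by norm_num) W4)
  have K12 : Nat.card K = 12 := by
    have h1 : Nat.card K ∣ 4 * 24 := f.ker.card_mul_index ▸ mul_dvd_mul ((card_dvd_of_le f1).trans W4) f2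
    have h3 : Nat.card K ≠ 4 := fun e => by
      rw [Transfer.pResidual_eq_bot_of_isPGroup (IsPGroup.of_card (n := 2) e)] at hKO
      have := congrArg (fun X : Subgroup K => Nat.card X) hKO
      simp only [card_bot, card_top] at this
      omega
    have := Nat.le_of_dvd (by norm_num) h1
    generalize Nat.card K = n at *
    interval_cases n <;> omega
  obtain ⟨T⟩ : Nonempty (Sylow 3 G) := inferInstance
  have T3 : 3 ∣ Nat.card (T : Subgroup G) := T.dvd_card_of_dvd_card
    ((show 3 ∣ Nat.card K by omega).trans (card_subgroup_dvd_card K))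
  have n1 : 𝐍((T : Subgroup G)).index * Nat.card (𝐍((T : Subgroup G)) ⊓ K :) = 12 := by
    have h := Core.card_sup_mul_card_inf (N := K) (H := 𝐍((T : Subgroup G))) le_normalizer_of_normal
    rw [sup_comm, inf_comm, show 𝐍((T : Subgroup G)) ⊔ K = ⊤ from Sylow.normalizer_sup_eq_top' T (hT T), card_top, K12,
      ← 𝐍((T : Subgroup G)).card_mul_index, mul_assoc, mul_comm 12] at h
    exact Nat.eq_of_mul_eq_mul_left Nat.card_pos h
  have n2 : 3 ∣ Nat.card (𝐍((T : Subgroup G)) ⊓ K :) := T3.trans (card_dvd_of_le (le_inf le_normalizer (hT T)))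
  have n3 := card_sylow_modEq_one 3 G
  rw [T.card_eq_index_normalizer, Nat.ModEq] at n3
  have n4 : 𝐍((T : Subgroup G)).index ≠ 1 := fun e => by
    have := bot_of_odd hO (normalizer_eq_top_iff.1 (index_eq_one.1 e)) fun k => by
      obtain ⟨i, hi⟩ := T.2.exists_card_eq
      rw [hi] at k
      exact absurd (Nat.prime_two.dvd_of_dvd_pow k) (by norm_num)
    rw [this, card_bot] at T3
    omega
  obtain ⟨n5, n6⟩ : 𝐍((T : Subgroup G)).index = 4 ∧ Nat.card (𝐍((T : Subgroup G)) ⊓ K :) = 3 := by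
    obtain ⟨c, hc⟩ := n2
    rw [hc] at n1 ⊢
    have := Nat.le_of_dvd (by norm_num) (Dvd.intro _ n1)
    generalize 𝐍((T : Subgroup G)).index = n at *
    interval_cases n <;> omega
  obtain ⟨φ, k1⟩ : ∃ φ : G →* Equiv.Perm (Fin 4), φ.ker = 𝐍((T : Subgroup G)).normalCore :=
    ⟨_, (MonoidHom.ker_mulEquiv_comp (MulAction.toPermHom G (G ⧸ 𝐍((T : Subgroup G))))
      (Finite.equivFinOfCardEq n5).permCongrHom).trans (normalCore_eq_ker _).symm⟩
  have k2 : ¬ 2 ∣ Nat.card (𝐍((T : Subgroup G)).normalCore ⊓ K :) := fun e => by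
    have := e.trans (card_dvd_of_le (inf_le_inf_right K (normalCore_le _)))
    omega
  have k3 : center G = φ.ker := k1 ▸ le_antisymm (normal_le_normalCore.2 (center_le_normalizer _))
    (le_center hO hK k2)
  have e := (QuotientGroup.quotientMulEquivOfEq k3).trans (QuotientGroup.quotientKerEquivRange φ)
  have k4 : 12 ∣ Nat.card φ.range := by
    rw [← K12]
    refine card_dvd_of_injective (φ.rangeRestrict.comp K.subtype) ((injective_iff_map_eq_one _).2 fun x hx => ?_)
    exact Subtype.ext (mem_bot.1 (bot_of_odd hO inferInstance k2 ▸ ⟨k1 ▸ congrArg Subtype.val hx, x.2⟩))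
  have k5 := φ.range.card_mul_index
  rw [Nat.card_perm, Nat.card_eq_fintype_card (α := Fin 4), Fintype.card_fin] at k5
  obtain ⟨c, hc⟩ := k4
  rcases (Nat.dvd_prime Nat.prime_two).1 (⟨c, by rw [hc] at k5; simp [Nat.factorial] at k5; nlinarith⟩ :
    φ.range.index ∣ 2) with h | h
  · exact .inr ⟨e.trans ((MulEquiv.subgroupCongr (index_eq_one.1 h)).trans topEquiv)⟩
  · exact .inl ⟨e.trans (MulEquiv.subgroupCongr (Equiv.Perm.eq_alternatingGroup_of_index_eq_two h))⟩

end Cfsg.Agent.GC.K2
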