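import Mathlib
import Cfsg.Agent.GC.CA1
import Cfsg.Agent.CIT.F13
import Cfsg.Agent.Core.Hall
import Cfsg.Agent.S0144
import Cfsg.Agent.Transfer.SylowConj

set_option autoImplicit false
set_option linter.style.haveILetI false
set_option linter.unusedSectionVars false

/-! Groups in which the `{p, q}`-subgroups have maximal normalizers: general facts. -/

namespace Cfsg.Agent.GC.MN

open Subgroup Cfsg.Agent.GC.CA Cfsg.Agent.CIT.F

variable {G : Type*} [Group G]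

/-- The order has at most two prime divisors. -/
def PQ (H : Subgroup G) : Prop :=
  ∃ p q : ℕ, p.Prime ∧ q.Prime ∧ ∀ r : ℕ, r.Prime → r ∣ Nat.card H → r = p ∨ r = q

abbrev nz (H : Subgroup G) : Subgroup G := normalizer (H : Set G)

def Hyp (G : Type*) [Group G] : Prop := ∀ H : Subgroup G, ¬ H.IsSubnormal → PQ H → IsCoatom (nz H)

structure MM (G : Type*) [Group G] : Prop where
  rad : ∀ N : Subgroup G, N.Normal → Group.IsSolvable N → N = ⊥
  co : ∀ H : Subgroup G, H ≠ ⊥ → PQ H → IsCoatom (nz H)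

theorem two_zp' {s a : G} (hs : s * s = 1) (ha : a ∈ zpowers s) : a = 1 ∨ a = s := by
  obtain ⟨k, rfl⟩ := ha
  obtain ⟨j, rfl | rfl⟩ := Int.even_or_odd' k <;> simp [_root_.zpow_add, _root_.zpow_mul, sq, hs]

theorem three_zp {y a : G} (hy : y ^ 3 = 1) (ha : a ∈ zpowers y) : a = 1 ∨ a = y ∨ a = y * y := by
  obtain ⟨k, rfl⟩ := ha
  have : y ^ k = y ^ (k % 3) := by
    conv_lhs => rw [← Int.mul_ediv_add_emod k 3, _root_.zpow_add, _root_.zpow_mul]
    rw [show y ^ (3 : ℤ) = 1 from by exact_mod_cast hy, _root_.one_zpow, one_mul]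
  have h3 : k % 3 = 0 ∨ k % 3 = 1 ∨ k % 3 = 2 := by omega
  rcases h3 with h | h | h <;> simp [this, h, sq]

/-- The elements of `⟨x⟩` killed by `m`. -/
def Kx (x : G) (m : ℕ) : Subgroup G where
  carrier := {c | c ∈ zpowers x ∧ c ^ m = 1}
  one_mem' := ⟨one_mem _, one_pow _⟩
  inv_mem' h := ⟨inv_mem h.1, by rw [inv_pow, h.2, inv_one]⟩
  mul_mem' := by
    rintro _ _ ⟨⟨i, rfl⟩, h1⟩ ⟨⟨j, rfl⟩, h2⟩
    exact ⟨mul_mem ⟨i, rfl⟩ ⟨j, rfl⟩, by rw [(Commute.zpow_zpow_self x i j).mul_pow, h1, h2, one_mul]⟩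

variable [Finite G]

theorem pq_of_exp {H : Subgroup G} {p q : ℕ} (a b : ℕ) (hp : p.Prime) (hq : q.Prime)
    (h : ∀ x ∈ H, x ^ (p ^ a * q ^ b) = 1) : PQ H := ⟨p, q, hp, hq, fun r hr hd => by
  haveI := Fact.mk hr
  obtain ⟨x, hx⟩ := exists_prime_orderOf_dvd_card' (G := H) r hd
  have := orderOf_dvd_of_pow_eq_one (h x x.2)
  rw [orderOf_coe, hx] at this
  exact ((Nat.Prime.dvd_mul hr).1 this).imp (fun k => (Nat.prime_dvd_prime_iff_eq hr hp).1 (hr.dvd_of_dvd_pow k))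
    fun k => (Nat.prime_dvd_prime_iff_eq hr hq).1 (hr.dvd_of_dvd_pow k)⟩

theorem pq_zp {y : G} {p q : ℕ} (a b : ℕ) (hp : p.Prime) (hq : q.Prime) (h : y ^ (p ^ a * q ^ b) = 1) :
    PQ (zpowers y) := pq_of_exp a b hp hq (by
  rintro _ ⟨k, rfl⟩
  rw [← zpow_natCast, ← _root_.zpow_mul, mul_comm, _root_.zpow_mul, zpow_natCast, h, _root_.one_zpow])

theorem pq_of_p {H : Subgroup G} {p : ℕ} (hp : p.Prime) (h : IsPGroup p H) : PQ H := ⟨p, p, hp, hp, fun r hr hd => by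
  haveI := Fact.mk hp
  obtain ⟨n, hn⟩ := IsPGroup.iff_card.1 h
  exact .inl ((Nat.prime_dvd_prime_iff_eq hr hp).1 (hr.dvd_of_dvd_pow (hn ▸ hd)))⟩

theorem PQ.solv {H : Subgroup G} (h : PQ H) : Group.IsSolvable H := by
  obtain ⟨p, q, hp, hq, h⟩ := h
  obtain ⟨a, m, h1, h2⟩ := Nat.exists_eq_pow_mul_and_not_dvd (Nat.card_pos (α := H)).ne' p hp.ne_one
  have : m ≠ 0 := fun e => h1 (e ▸ dvd_zero _)
  exact S0144.result p q a _ hp hq (h2.trans (congrArg _ (Nat.eq_prime_pow_of_unique_prime_dvd this fun {r} hr hd =>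
    (h r hr (h2 ▸ hd.mul_left _)).resolve_left fun e => h1 (e ▸ hd))))

theorem le_rad {K : Subgroup G} (hK : K.IsSubnormal) : ∀ X ≤ K, Group.IsSolvable X → K ≤ nz X →
    X ≤ solvableRadical G := by
  induction hK with
  | top => exact fun X _ h1 h2 => @FGS.le_solvableRadical _ _ _ (Core.normal_of_le_normalizer h2) h1
  | step H K h1 _ h2 ih =>
    intro X h3 h4 h5
    haveI := @FGS.solvableRadical_characteristic H _ _
    haveI : (X.subgroupOf H).Normal := (normal_subgroupOf_iff_le_normalizer h3).2 h5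
    refine le_trans ?_ (ih _ ((map_subtype_le (solvableRadical H)).trans h1)
      (Core.solvable_map FGS.solvableRadical_solvable _)
      (Core.le_normalizer_map_subtype ((normal_subgroupOf_iff_le_normalizer h1).1 h2) _))
    rw [← map_subgroupOf_eq_of_le h3]
    exact map_mono (FGS.le_solvableRadical (Core.solvable_subgroupOf h4))

theorem mem_nz_zp {g y : G} : g ∈ nz (zpowers y) ↔ g * y * g⁻¹ ∈ zpowers y :=
  ⟨fun h => (h y).1 (mem_zpowers y), fun h => mem_normalizer_fintype (S := (zpowers y : Set G)) (by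
    rintro _ ⟨k, rfl⟩
    rw [← conj_zpow]; exact zpow_mem h k)⟩

theorem mem_zp_of_pow {x y c : G} (hy : y ∈ zpowers x) (hc : c ∈ zpowers x) (h : c ^ orderOf y = 1) :
    c ∈ zpowers y := by
  haveI : IsCyclic (Kx x (orderOf y)) := Subgroup.isCyclic_of_le (H' := zpowers x) fun _ h => h.1
  have h1 : zpowers y ≤ Kx x (orderOf y) := zpowers_le.2 ⟨hy, pow_orderOf_eq_one y⟩
  rw [Core.eq_of_le_of_card_le h1 (by
    rw [Nat.card_zpowers, ← IsCyclic.exponent_eq_card]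
    exact Nat.le_of_dvd (orderOf_pos y) (Monoid.exponent_dvd_of_forall_pow_eq_one fun g => Subtype.ext g.2.2))]
  exact ⟨hc, h⟩

section
variable {Q : Type*} [Group Q] [Finite Q] {ξ : G →* Q} (h : Hyp G) (hξ : Function.Surjective ξ)
  (hQ : ∀ N : Subgroup Q, N.Normal → Group.IsSolvable N → N = ⊥)
include h hξ hQ

theorem Hyp.co {H : Subgroup G} (h1 : PQ H) (h2 : ¬ H ≤ ξ.ker) :
    IsCoatom (nz H) ∧ (nz (H.map ξ)).comap ξ = nz H := by
  have hs := Core.solvable_map h1.solv ξ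
  have h3 := h H (fun k => h2 ((Subgroup.map_eq_bot_iff _).1 (eq_bot_iff.2 (hQ _ FGS.solvableRadical_normal
    FGS.solvableRadical_solvable ▸ le_rad (k.map hξ) _ le_rfl hs le_normalizer)))) h1
  refine ⟨h3, (h3.le_iff.1 (map_le_iff_le_comap.1 (Core.map_le_normalizer_map le_rfl ξ))).resolve_left fun k => ?_⟩
  refine h2 ((Subgroup.map_eq_bot_iff _).1 (hQ _ (Core.normal_of_le_normalizer fun g _ => ?_) hs))
  obtain ⟨g, rfl⟩ := hξ g
  exact (k.symm ▸ mem_top g : g ∈ (nz (H.map ξ)).comap ξ)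

theorem Hyp.mm (hk : Group.IsSolvable ξ.ker) : MM Q := ⟨hQ, fun K h0 ⟨p, q, hp, hq, hK⟩ => by
  have hs : Group.IsSolvable (K.comap ξ) := by
    haveI := PQ.solv ⟨p, q, hp, hq, hK⟩
    exact Group.isSolvable_of_ker_le_range (inclusion (ker_le_comap ξ K)) (ξ.subgroupComap K)
      fun x hx => ⟨⟨x, congrArg Subtype.val hx⟩, rfl⟩
  obtain ⟨H, hH⟩ := Core.exists_isPiHallOf {p, q} hs
  have h1 := Core.IsPiHallOf.map hH ξ
  rw [map_comap_eq_self_of_surjective hξ] at h1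
  have h2 : H.map ξ = K := Core.IsPiHallOf.eq_of_le h1 hK le_rfl h1.1
  obtain ⟨h3, h4⟩ := h.co hξ hQ ⟨p, q, hp, hq, hH.2.1⟩ fun k => h0 (h2 ▸ (Subgroup.map_eq_bot_iff _).2 k)
  rw [h2] at h4
  refine ⟨fun k => h3.1 (by rw [← h4, k, comap_top]), fun Y hY => ?_⟩
  have h5 : nz H < Y.comap ξ := by rw [← h4]; exact (comap_lt_comap_of_surjective hξ).2 hY
  rw [← map_comap_eq_self_of_surjective hξ Y, h3.2 _ h5, map_top_of_surjective _ hξ]⟩

end

section
variable (h : MM G)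
include h

theorem MM.le {H Y : Subgroup G} (h0 : H ≠ ⊥) (h1 : PQ H) (h2 : nz H ≤ Y) (h3 : Y ≠ ⊤) : Y ≤ nz H :=
  (((h.co H h0 h1).le_iff.1 h2).resolve_left h3).le

theorem MM.ne_top {X : Subgroup G} (h0 : X ≠ ⊥) (h1 : Group.IsSolvable X) : nz X ≠ ⊤ := fun k =>
  h0 (h.rad X (Core.normal_of_le_normalizer k.ge) h1)

theorem MM.kn : KN (⊤ : Subgroup G) := fun x _ g _ y hy _ h1 h2 => by
  obtain ⟨r, hr, hd⟩ := Nat.exists_prime_and_dvd (fun k => h1 (orderOf_eq_one_iff.1 k))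
  have h3 := orderOf_pow_orderOf_div (orderOf_pos y).ne' hd
  set v := y ^ (orderOf y / r)
  have hv : v ∈ zpowers x := pow_mem hy _
  have h0 : zpowers v ≠ ⊥ := fun k => hr.ne_one (by rw [← h3, zpowers_eq_bot.1 k, orderOf_one])
  have e : ∀ w : G, (w * v * w⁻¹) ^ orderOf v = 1 := fun w => by
    rw [conj_pow, pow_orderOf_eq_one, mul_one, mul_inv_cancel]
  have h4 : g ∈ nz (zpowers v) := mem_nz_zp.2 (mem_zp_of_pow hv
    (by rw [← conj_pow]; exact pow_mem (zpowers_le.2 hy h2) _) (e g))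
  refine Transfer.mem_of_forall_prime_pow_mem (H := (zpowers x).comap (MulAut.conj g).toMonoidHom)
    fun p hp _ a ha ⟨k, hk⟩ => ?_
  have h5 : v ∈ Kx x (p ^ k * r ^ 1) := ⟨hv, by rw [pow_mul', pow_one, ← h3, pow_orderOf_eq_one, one_pow]⟩
  have h6 := h.le (H := Kx x (p ^ k * r ^ 1)) (fun k => h0 (eq_bot_iff.2 (k ▸ zpowers_le.2 h5)))
    (pq_of_exp k 1 hp hr fun _ h => h.2) (fun w hw => mem_nz_zp.2 (mem_zp_of_pow hv ((hw v).1 h5).1 (e w)))
    (h.ne_top h0 inferInstance) h4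
  exact ((h6 a).1 ⟨ha, by rw [pow_mul, ← hk, pow_orderOf_eq_one, one_pow]⟩).1

theorem MM.dih {y s w : G} (hy : y ^ 3 = 1) (h1 : y ≠ 1) (hs : s * s = 1) (hi : s * y * s⁻¹ = y⁻¹)
    (hw : w ∈ nz (zpowers y)) : ∃ a ∈ zpowers y, w * s * w⁻¹ = a * s := by
  have hn : zpowers s ≤ nz (zpowers y) := zpowers_le.2 (mem_nz_zp.2 (hi ▸ inv_mem (mem_zpowers y)))
  have m : ∀ g ∈ zpowers y ⊔ zpowers s, g ∈ zpowers y ∨ (g * g = 1 ∧ ∃ a ∈ zpowers y, g = a * s) := fun g hg => by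
    obtain ⟨a, ha, b, hb, rfl⟩ := (Core.mem_sup_of_le_normalizer hn).1 hg
    rcases two_zp' hs hb with rfl | rfl
    · exact .inl (by rwa [mul_one])
    · refine .inr ⟨?_, a, ha, rfl⟩
      obtain ⟨k, rfl⟩ := ha
      have : b * y ^ k * b⁻¹ = (y ^ k)⁻¹ := by rw [← conj_zpow, hi, _root_.inv_zpow]
      rw [inv_eq_of_mul_eq_one_right hs] at this
      rw [mul_assoc, ← mul_assoc b, this, mul_inv_cancel]
  have c : ∀ g ∈ zpowers y, g ^ 3 = 1 := fun g hg => by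
    rcases three_zp hy hg with rfl | rfl | rfl
    · simp
    · exact hy
    · rw [← sq, ← pow_mul, mul_comm, pow_mul, hy, one_pow]
  have t : ∀ g : G, g ^ 3 = 1 → g * g = 1 → g = 1 := fun g k1 k2 => by rwa [pow_succ, sq, k2, one_mul] at k1
  have h0 : zpowers y ≠ ⊥ := fun k => h1 (zpowers_eq_bot.1 k)
  have h2 := h.le (H := zpowers y ⊔ zpowers s) (fun k => h0 (eq_bot_iff.2 (k ▸ le_sup_left)))
    (pq_of_exp 1 1 Nat.prime_two Nat.prime_three fun g hg => (m g hg).elim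
      (fun k => by rw [pow_mul', pow_one, c g k, one_pow]) fun k => by rw [pow_mul, pow_one, sq, k.1, one_pow])
    (fun g hg => mem_nz_zp.2 ((m _ ((hg y).1 (mem_sup_left (mem_zpowers y)))).resolve_right fun k => h1 (by
      simpa using t _ (by rw [conj_pow, hy]; simp) k.1))) (h.ne_top h0 inferInstance) hw
  refine ((m _ ((h2 s).1 (mem_sup_right (mem_zpowers s)))).resolve_left fun k => h1 (t y hy ?_)).2
  have : s = 1 := by simpa using t _ (c _ k) (by rw [conj_mul, hs]; simp)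
  rw [this] at hi
  exact mul_eq_one_iff_eq_inv.2 (by simpa using hi)

end

end Cfsg.Agent.GC.MN
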