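import Mathlib
import Cfsg.Agent.GC.MN1

set_option autoImplicit false
set_option linter.style.haveILetI false
set_option linter.unusedSectionVars false

/-! Groups in which the `{p, q}`-subgroups have maximal normalizers: four-groups in a simple normal subgroup. -/

namespace Cfsg.Agent.GC.MN

open Subgroup Cfsg.Agent.GC.CA Cfsg.Agent.CIT.F

variable {G : Type*} [Group G]

/-- Generators of a subgroup `A₄`. -/
structure A4 (s t x : G) : Prop where
  s2 : s * s = 1
  t2 : t * t = 1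
  st : s * t = t * s
  xt : x * t * x⁻¹ = s
  xs : x * s * x⁻¹ = s * t
  x3 : x ^ 3 = 1
  t1 : t ≠ 1

abbrev V (s t : G) : Subgroup G := zpowers s ⊔ zpowers t

theorem A4.map {Y : Type*} [Group Y] {s t x : G} (h : A4 s t x) {f : G →* Y} (hf : Function.Injective f) :
    A4 (f s) (f t) (f x) :=
  ⟨by rw [← map_mul, h.s2, map_one], by rw [← map_mul, h.t2, map_one], by rw [← map_mul, h.st, map_mul],
    by rw [← map_inv, ← map_mul, ← map_mul, h.xt], by rw [← map_inv, ← map_mul, ← map_mul, h.xs, map_mul],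
    by rw [← map_pow, h.x3, map_one], fun e => h.t1 (hf (e.trans (map_one f).symm))⟩

section
variable {s t x : G} (a : A4 s t x)
include a

theorem A4.s1 : s ≠ 1 := fun e => a.t1 (by simpa [e] using a.xt)

theorem A4.ne : s ≠ t := fun e => a.s1 (by simpa [← e, a.s2] using a.xs)

theorem A4.nc : x * t ≠ t * x := fun e => a.ne (by rw [← a.xt, e, mul_inv_cancel_right])

theorem A4.xst : x * (s * t) * x⁻¹ = t := by
  rw [← conj_mul, a.xs, a.xt, a.st, mul_assoc, a.s2, mul_one]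

theorem A4.ot : orderOf t = 2 := orderOf_eq_prime (by rw [sq, a.t2]) a.t1

variable [Finite G]

theorem A4.le_nz : zpowers t ≤ nz (zpowers s) :=
  zpowers_le.2 (mem_nz_zp.2 (by rw [← a.st, mul_inv_cancel_right]; exact mem_zpowers s))

theorem A4.mem {g : G} : g ∈ V s t ↔ g = 1 ∨ g = s ∨ g = t ∨ g = s * t := by
  refine ⟨fun h => ?_, ?_⟩
  · obtain ⟨b, hb, c, hc, rfl⟩ := (Core.mem_sup_of_le_normalizer a.le_nz).1 h
    rcases two_zp' a.s2 hb with rfl | rfl <;> rcases two_zp' a.t2 hc with rfl | rfl <;> simp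
  · rintro (rfl | rfl | rfl | rfl)
    exacts [one_mem _, mem_sup_left (mem_zpowers _), mem_sup_right (mem_zpowers _),
      mul_mem_sup (mem_zpowers _) (mem_zpowers _)]

theorem A4.nzV {g : G} (h1 : g * s * g⁻¹ ∈ V s t) (h2 : g * t * g⁻¹ ∈ V s t) : g ∈ nz (V s t) :=
  mem_normalizer_fintype (S := (V s t : Set G)) fun n hn => by
    rcases a.mem.1 hn with rfl | rfl | rfl | rfl
    · simp
    · exact h1
    · exact h2
    · rw [← conj_mul]; exact mul_mem h1 h2

theorem A4.x_mem : x ∈ nz (V s t) := a.nzV (by simp [a.xs, a.mem]) (by simp [a.xt, a.mem])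

theorem A4.sq {g : G} (h : g ∈ V s t) : g * g = 1 := by
  rcases a.mem.1 h with rfl | rfl | rfl | rfl
  exacts [one_mul _, a.s2, a.t2, by rw [mul_assoc, ← mul_assoc t, ← a.st, mul_assoc, a.t2, mul_one, a.s2]]

theorem A4.pq : PQ (V s t) := pq_of_exp 1 0 Nat.prime_two Nat.prime_two fun g hg => by simp [pow_two, a.sq hg]

theorem A4.ne_bot : V s t ≠ ⊥ := fun e => a.t1 (mem_bot.1 (e ▸ a.mem.2 (by simp)))

theorem A4.nz_t {g : G} : g ∈ nz (zpowers t) ↔ g * t = t * g := by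
  rw [mem_nz_zp]
  refine ⟨fun h => ?_, fun h => by rw [h, mul_inv_cancel_right]; exact mem_zpowers t⟩
  rcases two_zp' a.t2 h with k | k
  · exact absurd (by simpa using k) a.t1
  · exact mul_inv_eq_iff_eq_mul.1 k

/-- Correct a normalizing element by a power of `x` so that it centralizes `t`. -/
theorem A4.fix {w : G} (hw : w ∈ nz (V s t)) : ∃ i : ℕ, x ^ i * w * t = t * (x ^ i * w) := by
  have k : ∀ i : ℕ, x ^ i * (w * t * w⁻¹) * (x ^ i)⁻¹ = t → x ^ i * w * t = t * (x ^ i * w) := fun i e => by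
    rw [← mul_inv_eq_iff_eq_mul]; convert e using 1; group
  rcases a.mem.1 ((hw t).1 (a.mem.2 (by simp))) with e | e | e | e
  · exact absurd (by simpa using e) a.t1
  · refine ⟨2, k 2 ?_⟩
    rw [e, show x ^ 2 * s * (x ^ 2)⁻¹ = x * (x * s * x⁻¹) * x⁻¹ by simp only [pow_two, mul_assoc, mul_inv_rev], a.xs, a.xst]
  · exact ⟨0, k 0 (by simpa using e)⟩
  · exact ⟨1, k 1 (by rw [e, pow_one, a.xst])⟩

end

variable [Finite G] (h : MM G) {N : Subgroup G} [hN : N.Normal] [IsSimpleGroup N] (hs : ¬ Group.IsSolvable N)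

theorem not_le_nz {X : Subgroup G} (h1 : X ≤ N) (h0 : X ≠ ⊥) (h2 : ¬ N ≤ X) : ¬ N ≤ nz X := fun k =>
  (((normal_subgroupOf_iff_le_normalizer h1).2 k).eq_bot_or_eq_top).elim
    (fun e => h0 (by rw [← map_subgroupOf_eq_of_le h1, e, Subgroup.map_bot])) fun e => h2 (subgroupOf_eq_top.1 e)

include h hs

theorem MM.fr {H : Subgroup G} (h0 : H ≠ ⊥) (h1 : PQ H) (h2 : H ≤ N) (g : G) : ∃ n ∈ N, ∃ w ∈ nz H, g = n * w := by
  refine (Core.mem_sup_of_le_normalizer le_normalizer_of_normal).1 ?_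
  by_contra k
  exact not_le_nz h2 h0 (fun e => hs (Core.solvable_of_le e h1.solv))
    (le_sup_left.trans (h.le h0 h1 le_sup_right fun e => k (e ▸ mem_top g)))

theorem MM.uni {u d : G} {p : ℕ} (hp : p.Prime) (hu : u ∈ N) (h1 : u ≠ 1) (h2 : u ^ p = 1)
    (h3 : ∀ g ∈ N, g * u = u * g → d * g * d⁻¹ * u = u * (d * g * d⁻¹)) : d * u * d⁻¹ ∈ zpowers u := by
  have h0 : zpowers u ≠ ⊥ := fun k => h1 (zpowers_eq_bot.1 k)
  have c : ∀ g, g ∈ centralizer (zpowers u : Set G) ↔ g * u = u * g := fun g =>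
    ⟨fun k => (k u (mem_zpowers u)).symm, fun k => by
      rintro _ ⟨i, rfl⟩
      exact ((show Commute g u from k).zpow_right i).eq.symm⟩
  refine mem_nz_zp.1 (h.le (Y := nz (centralizer (zpowers u : Set G) ⊓ N)) h0 (pq_zp 1 0 hp hp (by simpa using h2))
    (Core.le_normalizer_inf (Core.normalizer_le_normalizer_centralizer _) le_normalizer_of_normal) (fun k => ?_)
    (mem_normalizer_fintype fun n hn => ⟨(c _).2 (h3 n hn.2 ((c _).1 hn.1)), hN.conj_mem n hn.2 d⟩))
  refine not_le_nz inf_le_right (fun e => h1 (mem_bot.1 (e ▸ ⟨(c u).2 rfl, hu⟩))) (fun e => ?_) (k ▸ le_top)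
  exact not_le_nz (zpowers_le.2 hu) h0 (fun e => hs (Core.solvable_of_le e inferInstance))
    ((e.trans inf_le_left).trans (centralizer_le_normalizer _))

variable {s t x : G} (a : A4 s t x) (ht : t ∈ N) (hx : x ∈ N)
include a ht hx

theorem MM.not_norm (h1 : ∀ n ∈ N, n * t = t * n → n * s * n⁻¹ ∈ V s t) : False := by
  have hV : V s t ≤ N := sup_le (zpowers_le.2 (a.xt ▸ hN.conj_mem t ht x)) (zpowers_le.2 ht)
  refine a.nc (a.nz_t.1 (h.le (Y := nz (V s t)) (fun k => a.t1 (zpowers_eq_bot.1 k))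
    (pq_zp 1 0 Nat.prime_two Nat.prime_two (by simp [sq, a.t2])) (fun c hc => ?_) (h.ne_top a.ne_bot a.pq.solv)
    a.x_mem))
  obtain ⟨n, hn, w, hw, rfl⟩ := h.fr hs a.ne_bot a.pq hV c
  obtain ⟨i, hi⟩ := a.fix hw
  have e : n * (x ^ i)⁻¹ * t = t * (n * (x ^ i)⁻¹) := a.nz_t.1 (by
    simpa [mul_assoc] using mul_mem hc (inv_mem (a.nz_t.2 hi)))
  simpa [mul_assoc] using mul_mem (mul_mem (a.nzV (h1 _ (mul_mem hn (inv_mem (pow_mem hx i))) e)
    (by rw [e, mul_inv_cancel_right]; exact a.mem.2 (by simp))) (pow_mem a.x_mem i)) hw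

variable (h1 : ∀ n ∈ N, n * t = t * n → n * s = s * n → n ∈ V s t)
include h1

theorem MM.cent {w : G} (h2 : w * t = t * w) (h3 : w * s = s * w) : w ∈ N := by
  have hV : V s t ≤ N := sup_le (zpowers_le.2 (a.xt ▸ hN.conj_mem t ht x)) (zpowers_le.2 ht)
  have ct : Commute w t := h2
  have cs : Commute w s := h3
  have st : Commute s t := a.st
  have k : ∀ v, Commute w v → Commute (x * w * x⁻¹) (x * v * x⁻¹) := fun v hv => by
    rw [Commute, SemiconjBy, conj_mul, conj_mul, hv.eq]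
  have h4 := h1 (x * w * x⁻¹ * w⁻¹) (by
      rw [mul_assoc, mul_assoc]; exact mul_mem hx (by rw [← mul_assoc]; exact hN.conj_mem _ (inv_mem hx) w))
    ((a.xst ▸ k _ (cs.mul_right ct) : Commute _ t).mul_left ct.inv_left)
    ((a.xt ▸ k _ ct : Commute _ s).mul_left cs.inv_left)
  obtain ⟨v, hv, e⟩ : ∃ v ∈ V s t, x * v * x⁻¹ * (x * w * x⁻¹ * w⁻¹) = v := by
    rcases a.mem.1 h4 with e | e | e | e <;> rw [e]
    · exact ⟨1, one_mem _, by simp⟩
    · exact ⟨s * t, a.mem.2 (by simp), by rw [a.xst, a.st]⟩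
    · exact ⟨s, a.mem.2 (by simp), by rw [a.xs, mul_assoc, a.t2, mul_one]⟩
    · exact ⟨t, a.mem.2 (by simp), by rw [a.xt, ← mul_assoc, a.s2, one_mul]⟩
  have cx : Commute (v * w) x := by
    rw [Commute, SemiconjBy]
    conv_lhs => rw [← e]
    group
  have vt : Commute (v * w) t := by
    refine Commute.mul_left ?_ ct
    rcases a.mem.1 hv with rfl | rfl | rfl | rfl
    exacts [Commute.one_left _, st, Commute.refl _, st.mul_left (Commute.refl _)]
  by_cases h5 : v * w = 1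
  · exact (mul_eq_one_iff_inv_eq.1 h5) ▸ inv_mem (hV hv)
  exfalso
  rcases Nat.even_or_odd (orderOf (v * w)) with k2 | k2
  · have h6 := orderOf_pow_orderOf_div (orderOf_pos (v * w)).ne' (even_iff_two_dvd.1 k2)
    haveI := Fact.mk Nat.prime_three
    have h7 : orderOf x = 3 := orderOf_eq_prime a.x3 fun k => a.nc (by simp [k])
    have h8 := KN.norm (v := x) (by rw [h7]; decide) h6 (cx.pow_left _).symm h.kn (mem_top _) (mem_top _)
      (mem_top t) (vt.pow_left _).symm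
    have h9 : s * t ∈ zpowers x := by
      have := mul_mem (mem_zpowers x) (inv_mem h8)
      rwa [show x * (t * x * t⁻¹)⁻¹ = x * t * x⁻¹ * t⁻¹ by group, a.xt, inv_eq_of_mul_eq_one_right a.t2] at this
    have := comm_of_zpowers h9
    have e2 := a.xst
    rw [← this, mul_inv_cancel_right] at e2
    exact a.s1 (mul_eq_right.1 e2)
  · exact a.nc (KN.cent k2 a.ot vt h.kn (mem_top _) (mem_top _) h5 (mem_top x) cx.symm)

theorem MM.top {y : G} (hy : y ∈ N) (y3 : y ^ 3 = 1) (y1 : y ≠ 1) (yt : y * t = t * y) (ys : s * y * s⁻¹ = y⁻¹) :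
    N = ⊤ := eq_top_iff.2 fun g _ => by
  haveI := Fact.mk Nat.prime_three
  obtain ⟨n, hn, w, hw, rfl⟩ := h.fr hs (fun k => y1 (zpowers_eq_bot.1 k))
    (pq_zp 1 0 Nat.prime_three Nat.prime_three (by simpa using y3)) (zpowers_le.2 hy) g
  have h2 : w ∈ nz (zpowers t) := mem_nz_zp.2 (by
    have := h.kn (y * t) (mem_top _) w (mem_top _) y ⟨((orderOf y + 1 : ℕ) : ℤ), by
      simpa only [zpow_natCast] using vt_pow' (by rw [orderOf_eq_prime y3 y1]; decide) a.ot yt⟩
      (vt_even (by rw [orderOf_eq_prime y3 y1]; decide) a.ot yt) y1 (mem_nz_zp.1 hw)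
    have e := vt_pow (by rw [orderOf_eq_prime y3 y1]; decide) a.ot yt
    have e1 := pow_mem (mem_zpowers (y * t)) (orderOf y)
    have e2 := pow_mem this (orderOf y)
    rw [conj_pow, e] at e2
    exact mem_zp_of_pow (x := y * t) (by rwa [e] at e1) e2 (by rw [conj_pow, pow_orderOf_eq_one]; simp))
  obtain ⟨b, hb, e⟩ := h.dih y3 y1 a.s2 ys hw
  obtain ⟨k, rfl⟩ := hb
  have h3 : y ^ k * w * s = s * (y ^ k * w) := by
    have e1 : s * y ^ k * s⁻¹ = (y ^ k)⁻¹ := by rw [← conj_zpow, ys, _root_.inv_zpow]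
    have e2 : (y ^ k) ^ 3 = 1 := by
      rw [← zpow_natCast, ← _root_.zpow_mul, mul_comm, _root_.zpow_mul, zpow_natCast, y3, _root_.one_zpow]
    calc y ^ k * w * s = (y ^ k)⁻¹ * (y ^ k) ^ 2 * (w * s * w⁻¹) * w := by group
      _ = (y ^ k)⁻¹ * (y ^ k) ^ 3 * s * w := by rw [e]; group
      _ = s * (y ^ k * w) := by rw [e2, ← e1]; group
  have h4 := h.cent hs a ht hx h1 (a.nz_t.1 (mul_mem (zpow_mem (a.nz_t.2 yt) k) h2)) h3
  exact mul_mem hn ((Subgroup.mul_mem_cancel_left N (zpow_mem hy k)).1 h4)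

end Cfsg.Agent.GC.MN
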