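import Mathlib
import Cfsg.Agent.GC.MN2
import Cfsg.Agent.Classical.Congr

set_option autoImplicit false
set_option linter.style.haveILetI false
set_option linter.unusedSectionVars false

/-! Groups in which the `{p, q}`-subgroups have maximal normalizers: the case of a normal subgroup `L₂(q)`. -/

namespace Cfsg.Agent.GC.MN

open Subgroup Cfsg.Agent.GC.CA Cfsg.Agent.CIT.F Cfsg.Agent.Classical Cfsg.Agent.Classical.SL2Basic Polynomial
open scoped MatrixGroups

variable {G : Type*} [Group G]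

/-- The standard involution. -/
def tt (R : Type*) [CommRing R] : SL(2, R) := mkSL 0 1 (-1) 0 (by simp)

theorem mk_mul {R : Type*} [CommRing R] {a b c d a' b' c' d' : R} (h : a * d - b * c = 1)
    (h' : a' * d' - b' * c' = 1) : mkSL a b c d h * mkSL a' b' c' d' h' =
      mkSL (a * a' + b * c') (a * b' + b * d') (c * a' + d * c') (c * b' + d * d')
        (by linear_combination (a' * d' - b' * c') * h + h') :=
  sl2_ext (by simp [SL2Basic.mul_apply]) (by simp [SL2Basic.mul_apply]) (by simp [SL2Basic.mul_apply])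
    (by simp [SL2Basic.mul_apply])

theorem mk_neg {R : Type*} [CommRing R] {a b c d : R} (h : a * d - b * c = 1) :
    -mkSL a b c d h = mkSL (-a) (-b) (-c) (-d) (by linear_combination h) :=
  sl2_ext (by simp) (by simp) (by simp) (by simp)

theorem mk_inj {R : Type*} [CommRing R] {a b c d a' b' c' d' : R} {h : a * d - b * c = 1}
    {h' : a' * d' - b' * c' = 1} : mkSL a b c d h = mkSL a' b' c' d' h' ↔ a = a' ∧ b = b' ∧ c = c' ∧ d = d' :=
  ⟨fun e => ⟨congrArg (· 0 0) e, congrArg (· 0 1) e, congrArg (· 1 0) e, congrArg (· 1 1) e⟩, by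
    rintro ⟨rfl, rfl, rfl, rfl⟩; rfl⟩

theorem mk_one {R : Type*} [CommRing R] : (1 : SL(2, R)) = mkSL 1 0 0 1 (by simp) :=
  sl2_ext (by simp) (by simp) (by simp) (by simp)

theorem exists_mk {R : Type*} [CommRing R] (g : SL(2, R)) : ∃ a b c d h, g = mkSL a b c d h :=
  ⟨g 0 0, g 0 1, g 1 0, g 1 1, det_eq g, sl2_ext rfl rfl rfl rfl⟩

variable {F : Type*} [Field F] {φ : SL(2, F) →* G} (hφ : ∀ g h, φ g = φ h ↔ g = h ∨ g = -h)
include hφ

theorem cent_t {P : SL(2, F) → Prop} (h1 : ∀ a b h, P (mkSL a b (-b) a h)) (h2 : ∀ a b h, P (mkSL a b b (-a) h)) :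
    ∀ g : SL(2, F), φ g * φ (tt F) = φ (tt F) * φ g → P g := by
  intro g h
  obtain ⟨a, b, c, d, k, rfl⟩ := exists_mk g
  rw [← map_mul, ← map_mul, hφ, tt, mk_mul, mk_mul, mk_neg, mk_inj, mk_inj] at h
  rcases h with h | h
  · obtain rfl : c = -b := by linear_combination -h.1
    obtain rfl : d = a := by linear_combination -h.2.1
    exact h1 _ _ _
  · obtain rfl : c = b := by linear_combination h.1
    obtain rfl : d = -a := by linear_combination h.2.1
    exact h2 _ _ _

theorem comm_upper {a b c d : F} {k : a * d - b * c = 1} :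
    φ (mkSL a b c d k) * φ (upper 1) = φ (upper 1) * φ (mkSL a b c d k) ↔ c = 0 ∧ a = d := by
  rw [← map_mul, ← map_mul, hφ, upper, mk_mul, mk_mul, mk_neg, mk_inj, mk_inj]
  refine ⟨fun h => ?_, fun h => .inl (by simp [h.1, h.2, add_comm])⟩
  by_cases h2 : (2 : F) = 0 <;> grind

theorem a4_of {s x : SL(2, F)} (h1 : s * s = -1) (h2 : s * tt F = -(tt F * s)) (h3 : x * tt F = s * x)
    (h4 : x * s = s * tt F * x) (h5 : x ^ 3 = 1) : A4 (φ s) (φ (tt F)) (φ x) :=
  ⟨by rw [← map_mul, ← map_one φ, hφ]; exact .inr h1,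
    by rw [← map_mul, ← map_one φ, hφ, tt, mk_mul, mk_one, mk_neg, mk_inj, mk_inj]; simp,
    by rw [← map_mul, ← map_mul, hφ]; exact .inr h2, by rw [← map_mul, h3, map_mul, mul_inv_cancel_right],
    by rw [← map_mul, h4, map_mul, mul_inv_cancel_right, map_mul], by rw [← map_pow, h5, map_one],
    by rw [← map_one φ, Ne, hφ, tt, mk_one, mk_neg, mk_inj, mk_inj]; simp⟩

variable [Finite G] (h : MM G) [hN : φ.range.Normal] [IsSimpleGroup φ.range] (hs : ¬ Group.IsSolvable φ.range)
include h hs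

theorem MM.six [Fintype F] (h4 : 4 < Fintype.card F) : (6 : F) ≠ 0 := fun h6 => by
  obtain ⟨p, hp, hp'⟩ : ∃ p : ℕ, p.Prime ∧ (p : F) = 0 := by
    rcases mul_eq_zero.1 (show (2 : F) * 3 = 0 by linear_combination h6) with k | k
    exacts [⟨2, Nat.prime_two, by exact_mod_cast k⟩, ⟨3, Nat.prime_three, by exact_mod_cast k⟩]
  have key : ∀ l : Fˣ, l ^ 4 = 1 := fun l => by
    have hl := l.ne_zero
    have := h.uni hs (u := φ (upper 1)) (d := φ (mkSL (l : F) 0 0 (l : F)⁻¹ (by simp))) hp ⟨_, rfl⟩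
      (by rw [← map_one φ, Ne, hφ, upper, mk_one, mk_neg, mk_inj, mk_inj]; simp)
      (by rw [← map_pow, upper_pow, hp', zero_mul, upper_zero, map_one]) (by
        rintro _ ⟨g, rfl⟩ hg
        obtain ⟨a, b, c, d, k, rfl⟩ := exists_mk g
        obtain ⟨rfl, rfl⟩ := (comm_upper hφ).1 hg
        have : mkSL (l : F) 0 0 (l : F)⁻¹ (by simp) * mkSL a b 0 a k =
            mkSL a (l * l * b) 0 a (by simpa using k) * mkSL (l : F) 0 0 (l : F)⁻¹ (by simp) := by
          rw [mk_mul, mk_mul, mk_inj]; grind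
        rw [← map_mul, this, map_mul, mul_inv_cancel_right]
        exact (comm_upper hφ).2 ⟨rfl, rfl⟩)
    obtain ⟨n, hn⟩ := mem_powers_iff_mem_zpowers.2 this
    simp only [eq_mul_inv_iff_mul_eq] at hn
    rw [← map_pow, upper_pow, ← map_mul, ← map_mul, hφ, upper, upper, mk_mul, mk_mul, mk_neg, mk_inj, mk_inj] at hn
    have h1 : (l : F) * l = n := by grind
    have h2 : (n : F) ^ 3 = n := by
      clear * - h6
      induction n with
      | zero => simp
      | succ n ih =>
        obtain ⟨m, hm⟩ := Nat.even_mul_succ_self n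
        have : (n : F) * (n + 1) = m + m := by exact_mod_cast congrArg (Nat.cast : ℕ → F) hm
        push_cast
        linear_combination ih + 3 * this + m * h6
    exact Units.ext (by push_cast; grind)
  have h1 : Fintype.card F - 1 ∣ 4 := by
    classical
    rw [← Fintype.card_units, ← Nat.card_eq_fintype_card, ← IsCyclic.exponent_eq_card]
    exact Monoid.exponent_dvd_of_forall_pow_eq_one key
  have h2 : Fintype.card F = 5 := by have := Nat.le_of_dvd (by norm_num) h1; omega
  have h3 := FiniteField.cast_card_eq_zero F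
  rw [h2] at h3
  exact one_ne_zero (α := F) (by push_cast at h3; linear_combination h6 - h3)

set_option maxHeartbeats 1600000 in
theorem MM.le13 [Fintype F] (h6 : (6 : F) ≠ 0) : Fintype.card F ≤ 13 := by
  have h2 : (2 : F) ≠ 0 := fun k => h6 (by linear_combination 3 * k)
  have h3 : (3 : F) ≠ 0 := fun k => h6 (by linear_combination 2 * k)
  obtain ⟨α, β, e⟩ := FiniteField.exists_root_sum_quadratic (f := (X : F[X]) ^ 2) (g := C 3 * X ^ 2 + 1)
    (degree_X_pow 2) (by rw [degree_add_eq_left_of_degree_lt] <;> simp [degree_C_mul_X_pow 2 h3])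
    (FiniteField.odd_card_of_char_ne_two fun k => h2 (by
      have := ringChar.Nat.cast_ringChar (R := F); rw [k] at this; exact_mod_cast this))
  simp only [eval_pow, eval_X, eval_add, eval_mul, eval_C, eval_one] at e
  let y : SL(2, F) := mkSL 0 (-1) 1 (-1) (by simp)
  let s : SL(2, F) := mkSL (2 * β) (α - β) (α + β) (-(2 * β)) (by linear_combination -e)
  have y3 : φ y ^ 3 = 1 := by
    rw [← map_pow, ← map_one φ, hφ, pow_succ, sq, mk_mul, mk_mul, mk_one, mk_inj]; simp
  have y1 : φ y ≠ 1 := by rw [← map_one φ, Ne, hφ, mk_one, mk_neg, mk_inj, mk_inj]; simp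
  have s2 : φ s * φ s = 1 := by
    rw [← map_mul, ← map_one φ, hφ, mk_mul, mk_one, mk_neg, mk_inj, mk_inj]; right; grind
  have ys : φ s * φ y * (φ s)⁻¹ = (φ y)⁻¹ := by
    rw [mul_inv_eq_iff_eq_mul, eq_inv_mul_iff_mul_eq, ← map_mul, ← map_mul, hφ, mk_mul, mk_mul, mk_inj]; left; grind
  have key : ∀ a b : F, a * a - a * b + b * b = 1 → (2 * a * b - b * b) * (a * a - b * b) * (a * a - 2 * a * b) = 0 := by
    intro a b k
    let c : SL(2, F) := mkSL a (-b) b (a - b) (by linear_combination k)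
    have c1 : φ c * φ y = φ y * φ c := by
      rw [← map_mul, ← map_mul, hφ, mk_mul, mk_mul, mk_inj]; left; grind
    have c2 : φ c * φ s * φ c = φ s := by
      rw [← map_mul, ← map_mul, hφ, mk_mul, mk_mul, mk_inj]; left; grind
    obtain ⟨v, hv, e⟩ := h.dih y3 y1 s2 ys (mem_nz_zp.2 (by rw [c1, mul_inv_cancel_right]; exact mem_zpowers _))
    have e1 : φ c * φ c = v := by
      rw [← mul_left_inj (φ s), ← e, eq_mul_inv_iff_mul_eq, mul_assoc, mul_assoc, ← mul_assoc (φ c) (φ s), c2]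
    rcases three_zp y3 hv with rfl | rfl | rfl
    · rw [← map_mul, ← map_one φ, hφ, mk_mul, mk_one, mk_neg, mk_inj, mk_inj] at e1; grind
    · rw [← map_mul, hφ, mk_mul, mk_neg, mk_inj, mk_inj] at e1; grind
    · rw [← map_mul, ← map_mul, hφ, mk_mul, mk_mul, mk_neg, mk_inj, mk_inj] at e1; grind
  by_contra! hc
  have := eq_zero_of_natDegree_lt_card_of_eval_eq_zero ((X ^ 2 - X + 1) * (X ^ 2 - 1) * (X ^ 2 - 2 * X) * (2 * X - 1) *
    (2 * X ^ 2 - 2 * X - 1) * (X ^ 2 + 2 * X - 2) * (X ^ 2 - 4 * X + 1) : F[X]) Function.injective_id (fun m => by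
      simp only [eval_mul, eval_add, eval_sub, eval_pow, eval_X, eval_one, eval_ofNat, id]
      by_cases k : m ^ 2 - m + 1 = 0
      · simp [k]
      obtain ⟨u, hu⟩ : ∃ u, (m ^ 2 - m + 1) * u = 1 := ⟨_, mul_inv_cancel₀ k⟩
      have := key ((m ^ 2 - 1) * u) ((m ^ 2 - 2 * m) * u) (by linear_combination ((m ^ 2 - m + 1) * u + 1) * hu)
      refine mul_left_cancel₀ (pow_ne_zero 6 (right_ne_zero_of_mul_eq_one hu)) ?_
      linear_combination -(m ^ 2 - m + 1) * this) (lt_of_le_of_lt (by compute_degree) hc)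
  simp only [mul_eq_zero] at this
  rcases this with (((((k | k) | k) | k) | k) | k) | k
  · simpa using congrArg (eval 0) k
  · simpa using congrArg (eval 0) k
  · have := congrArg (eval 1) k; norm_num at this
  · simpa using congrArg (eval 0) k
  · simpa using congrArg (eval 0) k
  · have := congrArg (eval 1) k; norm_num at this
  · simpa using congrArg (eval 0) k

theorem MM.not_small {s x : SL(2, F)} (a : A4 (φ s) (φ (tt F)) (φ x))
    (h1 : ∀ g, φ g * φ (tt F) = φ (tt F) * φ g →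
      (g * s = s * g ∨ g * s = -(s * g)) ∨ (g * s = s * tt F * g ∨ g * s = -(s * tt F * g))) : False :=
  h.not_norm hs a ⟨_, rfl⟩ ⟨_, rfl⟩ (by
    rintro _ ⟨g, rfl⟩ hg
    rcases h1 g hg with k | k <;> rw [← hφ, map_mul] at k <;> rw [k, map_mul, mul_inv_cancel_right, a.mem] <;> simp)

theorem MM.surj {s x y : SL(2, F)} (a : A4 (φ s) (φ (tt F)) (φ x))
    (h1 : ∀ g, φ g * φ (tt F) = φ (tt F) * φ g → (g * s = s * g ∨ g * s = -(s * g)) →
      (g = 1 ∨ g = -1) ∨ (g = s ∨ g = -s) ∨ (g = tt F ∨ g = -tt F) ∨ (g = s * tt F ∨ g = -(s * tt F)))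
    (y3 : y ^ 3 = 1) (y1 : ¬ (y = 1 ∨ y = -1)) (yt : y * tt F = tt F * y) (ys : y * (s * y) = s) :
    Function.Surjective φ :=
  MonoidHom.range_eq_top.1 (h.top hs a ⟨_, rfl⟩ ⟨_, rfl⟩ (by
      rintro _ ⟨g, rfl⟩ k1 k2
      rw [← map_mul, ← map_mul, hφ] at k2
      simpa only [a.mem, ← hφ, map_one, map_mul] using h1 g k1 k2) (y := φ y) ⟨_, rfl⟩
    (by rw [← map_pow, y3, map_one]) (by rwa [← map_one φ, Ne, hφ]) (by rw [← map_mul, yt, map_mul])
    (by rw [mul_inv_eq_iff_eq_mul, eq_inv_mul_iff_mul_eq, ← map_mul, ← map_mul, ys]))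

end Cfsg.Agent.GC.MN
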