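import Mathlib
import Cfsg.Agent.GC.MN3

set_option autoImplicit false
set_option linter.style.haveILetI false
set_option linter.unusedSectionVars false

/-! Groups in which the `{p, q}`-subgroups have maximal normalizers: the small fields. -/

namespace Cfsg.Agent.GC.MN

open Subgroup Cfsg.Agent.GC.CA Cfsg.Agent.CIT.F Cfsg.Agent.Classical Cfsg.Agent.Classical.SL2Basic
open scoped MatrixGroups

variable {G : Type*} [Group G] [Finite G] (h : MM G)

local instance : Fact (Nat.Prime 5) := ⟨by norm_num⟩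
local instance : Fact (Nat.Prime 7) := ⟨by norm_num⟩
local instance : Fact (Nat.Prime 11) := ⟨by norm_num⟩
local instance : Fact (Nat.Prime 13) := ⟨by norm_num⟩

def s13 : SL(2, ZMod 13) := mkSL 0 5 5 0 (by decide)
def x13 : SL(2, ZMod 13) := mkSL 10 3 2 2 (by decide)
def s11 : SL(2, ZMod 11) := mkSL 1 3 3 10 (by decide)
def x11 : SL(2, ZMod 11) := mkSL 4 8 7 6 (by decide)

/-- The elements of order four of a subgroup `SL₂(5)` of `SL₂(11)`. -/
def L11 : List (ZMod 11 × ZMod 11 × ZMod 11) :=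
  [(0, 1, 10), (7, 5, 1), (9, 8, 9), (10, 5, 4), (2, 4, 7), (0, 10, 1), (1, 7, 6), (2, 7, 4), (6, 8, 5), (7, 1, 5),
    (3, 10, 10), (2, 2, 3), (9, 9, 8), (5, 2, 9), (9, 7, 4), (4, 6, 10), (5, 9, 2), (6, 9, 2), (5, 6, 3), (1, 3, 3),
    (8, 1, 1), (10, 4, 5), (2, 3, 2), (4, 10, 6), (1, 6, 7), (9, 4, 7), (6, 2, 9), (10, 8, 8), (6, 5, 8), (5, 3, 6)]

def SS {R : Type*} [CommRing R] (L : List (R × R × R)) (φ : SL(2, R) →* G) : Set G :=
  {u | ∃ v ∈ L, ∃ h, φ (mkSL v.1 v.2.1 v.2.2 (-v.1) h) = u}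

theorem conj_mk {R : Type*} [CommRing R] {a b c d x y z : R} (k : a * d - b * c = 1) (e : x * -x - y * z = 1) :
    ∃ e', mkSL ((a * x + b * z) * d - (a * y - b * x) * c) ((a * y - b * x) * a - (a * x + b * z) * b)
      ((c * x + d * z) * d - (c * y - d * x) * c) (-((a * x + b * z) * d - (a * y - b * x) * c)) e' * mkSL a b c d k =
      mkSL a b c d k * mkSL x y z (-x) e := by
  refine ⟨by linear_combination (a * d - b * c) ^ 2 * e + (a * d - b * c + 1) * k, ?_⟩
  rw [mk_mul, mk_mul, mk_inj]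
  exact ⟨by linear_combination (a * x + b * z) * k, by linear_combination (a * y - b * x) * k,
    by linear_combination (c * x + d * z) * k, by linear_combination (c * y - d * x) * k⟩

theorem pres {R : Type*} [CommRing R] (L : List (R × R × R)) (φ : SL(2, R) →* G) {a b c d : R} (k : a * d - b * c = 1)
    (hg : ∀ v ∈ L, ((a * v.1 + b * v.2.2) * d - (a * v.2.1 - b * v.1) * c,
      (a * v.2.1 - b * v.1) * a - (a * v.1 + b * v.2.2) * b,
      (c * v.1 + d * v.2.2) * d - (c * v.2.1 - d * v.1) * c) ∈ L) : φ (mkSL a b c d k) ∈ normalizer (SS L φ) :=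
  mem_normalizer_fintype (S := SS L φ) fun u hu => by
    obtain ⟨⟨x, y, z⟩, hv, e, rfl⟩ := hu
    obtain ⟨e', k'⟩ := conj_mk k e
    exact ⟨_, hg _ hv, e', by rw [eq_mul_inv_iff_mul_eq, ← map_mul, ← map_mul]; exact congrArg φ k'⟩

include h

theorem MM.not5 {φ : SL(2, ZMod 5) →* G} (hφ : ∀ g h, φ g = φ h ↔ g = h ∨ g = -h) [φ.range.Normal]
    [IsSimpleGroup φ.range] (hs : ¬ Group.IsSolvable φ.range) : False :=
  h.not_small hφ hs (s := mkSL 0 2 2 0 (by decide)) (x := mkSL 1 4 3 3 (by decide))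
    (a4_of hφ (by decide +kernel) (by decide +kernel) (by decide +kernel) (by decide +kernel) (by decide +kernel))
    (cent_t hφ (by decide +kernel) (by decide +kernel))

theorem MM.not7 {φ : SL(2, ZMod 7) →* G} (hφ : ∀ g h, φ g = φ h ↔ g = h ∨ g = -h) [φ.range.Normal]
    [IsSimpleGroup φ.range] (hs : ¬ Group.IsSolvable φ.range) : False :=
  h.not_small hφ hs (s := mkSL 2 3 3 5 (by decide)) (x := mkSL 6 3 2 0 (by decide))
    (a4_of hφ (by decide +kernel) (by decide +kernel) (by decide +kernel) (by decide +kernel) (by decide +kernel))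
    (cent_t hφ (by decide +kernel) (by decide +kernel))

omit h in
theorem a4_13 {φ : SL(2, ZMod 13) →* G} (hφ : ∀ g h, φ g = φ h ↔ g = h ∨ g = -h) : A4 (φ s13) (φ (tt _)) (φ x13) :=
  a4_of hφ (by decide +kernel) (by decide +kernel) (by decide +kernel) (by decide +kernel) (by decide +kernel)

theorem MM.surj13 {φ : SL(2, ZMod 13) →* G} (hφ : ∀ g h, φ g = φ h ↔ g = h ∨ g = -h) [φ.range.Normal]
    [IsSimpleGroup φ.range] (hs : ¬ Group.IsSolvable φ.range) : Function.Surjective φ :=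
  h.surj hφ hs (y := mkSL 6 2 11 6 (by decide)) (a4_13 hφ) (cent_t hφ (by decide +kernel) (by decide +kernel))
    (by decide +kernel) (by decide +kernel) (by decide +kernel) (by decide +kernel)

theorem MM.not11 {φ : SL(2, ZMod 11) →* G} (hφ : ∀ g h, φ g = φ h ↔ g = h ∨ g = -h) [φ.range.Normal]
    [IsSimpleGroup φ.range] (hs : ¬ Group.IsSolvable φ.range) : False := by
  have a : A4 (φ s11) (φ (tt _)) (φ x11) :=
    a4_of hφ (by decide +kernel) (by decide +kernel) (by decide +kernel) (by decide +kernel) (by decide +kernel)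
  have h1 := h.surj hφ hs (y := mkSL 5 3 8 5 (by decide)) a
    (cent_t hφ (by decide +kernel) (by decide +kernel))
    (by decide +kernel) (by decide +kernel) (by decide +kernel) (by decide +kernel)
  have v : ∀ g u : SL(2, ZMod 11), φ g * φ u * (φ g)⁻¹ ∈ V (φ s11) (φ (tt _)) → (g * u = g ∨ g * u = -g) ∨
      (g * u = s11 * g ∨ g * u = -(s11 * g)) ∨ (g * u = tt _ * g ∨ g * u = -(tt _ * g)) ∨
      (g * u = s11 * tt _ * g ∨ g * u = -(s11 * tt _ * g)) := fun g u k => by
    simpa only [a.mem, ← hφ, map_mul, mul_inv_eq_iff_eq_mul, one_mul] using k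
  have hV : V (φ s11) (φ (tt _)) ≤ normalizer (SS L11 φ) :=
    sup_le (zpowers_le.2 (pres L11 φ _ (by decide +kernel))) (zpowers_le.2 (pres L11 φ _ (by decide +kernel)))
  have h2 := h.le (Y := normalizer (SS L11 φ)) a.ne_bot a.pq (fun w hw => by
    obtain ⟨i, hi⟩ := a.fix hw
    obtain ⟨g, hg⟩ := h1 (φ x11 ^ i * w)
    have h3 := v g s11 (hg ▸ (mul_mem (pow_mem a.x_mem i) hw _).1 (a.mem.2 (by simp)))
    rw [← hg] at hi
    have h4 := cent_t hφ (P := fun g => ((g * s11 = g ∨ g * s11 = -g) ∨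
      (g * s11 = s11 * g ∨ g * s11 = -(s11 * g)) ∨ (g * s11 = tt _ * g ∨ g * s11 = -(tt _ * g)) ∨
      (g * s11 = s11 * tt _ * g ∨ g * s11 = -(s11 * tt _ * g))) → (g = 1 ∨ g = -1) ∨ (g = s11 ∨ g = -s11) ∨
        (g = tt _ ∨ g = -tt _) ∨ (g = s11 * tt _ ∨ g = -(s11 * tt _))) (by decide +kernel) (by decide +kernel) _ hi h3
    refine (Subgroup.mul_mem_cancel_left _ (pow_mem (pres L11 φ _ (by decide +kernel) : φ x11 ∈ _) i)).1 (hg ▸ hV ?_)
    simpa only [a.mem, ← hφ, map_one, map_mul] using h4)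
    (fun k => by
      obtain ⟨v, hv, hm, e⟩ := ((k ▸ mem_top _ : φ (mkSL 0 1 10 1 (by decide)) ∈ normalizer (SS L11 φ)) (φ (tt _))).1
        ⟨(0, 1, 10), by decide, by decide, rfl⟩
      rw [eq_mul_inv_iff_mul_eq, ← map_mul, ← map_mul, hφ, tt, mk_mul, mk_mul, mk_neg, mk_inj, mk_inj] at e
      clear hm
      revert v
      decide +kernel)
    (pres L11 φ (a := 0) (b := 4) (c := 8) (d := 3) (by decide) (by decide +kernel))
  exact absurd (v _ _ ((h2 _).1 (a.mem.2 (.inr (.inr (.inl rfl)))))) (by decide +kernel)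

theorem MM.ident [Nontrivial G] : Nonempty (G ≃* PSL(2, ZMod 13)) := by
  obtain ⟨N, _, _, h1, -⟩ := CIT.F.exists_simple h.rad h.kn.npc.solv
  have hN : KN (⊤ : Subgroup N) := h.kn.top N.subtype_injective
  obtain ⟨F, _, _, hF, ⟨e⟩⟩ : ∃ (F : Type) (_ : Field F) (_ : Fintype F), 4 < Fintype.card F ∧
      Nonempty (N ≃* PSL(2, F)) := by
    rcases S3214.result h1 hN.npc with ⟨F, _, _, h2, e⟩ | h2 | ⟨⟨e⟩⟩ | h2
    · by_cases h4 : Fintype.card F = 4
      · obtain ⟨K, _, _, h5, f⟩ := L2.five_of_four ⟨F, _, _, h4, e⟩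
        exact ⟨K, inferInstance, inferInstance, by omega, f⟩
      · exact ⟨F, inferInstance, inferInstance, by omega, e⟩
    · exact absurd hN (not_kn_sz h2)
    · exact absurd (hN.top (f := e.symm.toMonoidHom) e.symm.injective) not_kn_A7
    · exact absurd hN (not_kn_l34 h2)
  have hs : ¬ Group.IsSolvable N := fun k => h1 ⟨⟨IsSimpleGroup.comm_iff_isSolvable.2 k⟩⟩
  have key : ∀ {K : Type} [Field K] (e : N ≃* PSL(2, K)), ∃ φ : SL(2, K) →* G,
      (∀ g h, φ g = φ h ↔ g = h ∨ g = -h) ∧ φ.range = N := fun e =>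
    ⟨N.subtype.comp (e.symm.toMonoidHom.comp (QuotientGroup.mk' _)), fun g k => by
      rw [← mk_eq_mk_iff]; exact (N.subtype_injective.comp e.symm.injective).eq_iff, by
      rw [MonoidHom.range_comp, MonoidHom.range_eq_top.2 (e.symm.surjective.comp (QuotientGroup.mk'_surjective _)),
        ← MonoidHom.range_eq_map, range_subtype]⟩
  have tr : ∀ p : ℕ, [Fact p.Prime] → Fintype.card F = p → Nonempty (N ≃* PSL(2, ZMod p)) := fun p _ k =>
    ⟨e.trans (Congr.pslCongr (FiniteField.ringEquivOfCardEq (k.trans (ZMod.card p).symm)))⟩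
  obtain ⟨φ, hφ, rfl⟩ := key e
  have h6 := h.six hφ hs hF
  have h13 := h.le13 hφ hs h6
  have h2 : ∀ p : ℕ, p.Prime → p ∣ 6 → ¬ p ∣ Fintype.card F := fun p hp ⟨c, hc⟩ k => by
    haveI := Fact.mk hp
    have h1 := (prime_dvd_char_iff_dvd_card (R := F) p).2 k
    haveI := ringChar.charP F
    have h2 := ((Nat.prime_dvd_prime_iff_eq hp (CharP.char_is_prime F _)).1 h1)
    have h3 : ((6 : ℕ) : F) = 0 := by rw [hc, Nat.cast_mul, h2, ringChar.Nat.cast_ringChar, zero_mul]
    exact h6 (by exact_mod_cast h3)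
  have h3 := h2 2 Nat.prime_two (by decide)
  have h4 := h2 3 Nat.prime_three (by decide)
  have h5 : Fintype.card F = 5 ∨ Fintype.card F = 7 ∨ Fintype.card F = 11 ∨ Fintype.card F = 13 := by omega
  generalize φ.range = N at *
  rcases h5 with k | k | k | k <;> obtain ⟨e⟩ := tr _ k <;> obtain ⟨ψ, hψ, rfl⟩ := key e
  · exact (h.not5 hψ hs).elim
  · exact (h.not7 hψ hs).elim
  · exact (h.not11 hψ hs).elim
  · exact ⟨(topEquiv.symm.trans (MulEquiv.subgroupCongr (MonoidHom.range_eq_top.2 (h.surj13 hψ hs)).symm)).trans e⟩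

end Cfsg.Agent.GC.MN
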