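import Mathlib
import Cfsg.Agent.GC.MN4
import Cfsg.Agent.H2.SchurSL2
import Cfsg.Agent.S4211

set_option autoImplicit false
set_option linter.style.haveILetI false
set_option linter.unusedSectionVars false

/-! Groups in which the `{p, q}`-subgroups have maximal normalizers: the solvable radical. -/

namespace Cfsg.Agent.GC.MN

open Subgroup Cfsg.Agent.GC.CA Cfsg.Agent.CIT.F Cfsg.Agent.Classical Cfsg.Agent.Classical.SL2Basic
open scoped MatrixGroups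

variable {G : Type*} [Group G] [Finite G]

local instance : Fact (Nat.Prime 13) := ⟨by norm_num⟩

theorem p_zp {y : G} {p k : ℕ} (h : y ^ p ^ k = 1) : IsPGroup p (zpowers y) := by
  rintro ⟨_, i, rfl⟩
  exact ⟨k, Subtype.ext (by
    change (y ^ i) ^ p ^ k = 1
    rw [← zpow_natCast, ← _root_.zpow_mul, mul_comm, _root_.zpow_mul, zpow_natCast, h, _root_.one_zpow])⟩

variable {Q : Type*} [Group Q] [Finite Q] {ξ : G →* Q} (h : Hyp G) (hξ : Function.Surjective ξ)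
  (hQ : ∀ N : Subgroup Q, N.Normal → Group.IsSolvable N → N = ⊥)
include hξ

theorem lift_p {y : Q} {p : ℕ} (hp : p.Prime) (hy : y ^ p = 1) : ∃ x : G, ξ x = y ∧ ∃ j, x ^ p ^ j = 1 := by
  obtain ⟨x, rfl⟩ := hξ y
  obtain ⟨j, m, hm, e⟩ := Nat.exists_eq_pow_mul_and_not_dvd (orderOf_pos x).ne' p hp.ne_one
  obtain ⟨a, ha⟩ := exists_pow_eq_self_of_coprime (x := ξ x) (n := m)
    (Nat.Coprime.coprime_dvd_right (orderOf_dvd_of_pow_eq_one hy) ((hp.coprime_iff_not_dvd.2 hm).symm))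
  refine ⟨(x ^ m) ^ a, by rw [map_pow, map_pow, ha], j, ?_⟩
  rw [← pow_mul, mul_comm a, pow_mul, ← pow_mul x, mul_comm m, ← e, pow_orderOf_eq_one, one_pow]

include h hQ

theorem Hyp.nrm {H : Subgroup G} (h1 : PQ H) {y : G} (hy : y ∈ H) (h2 : ξ y ≠ 1) {g : G} (hg : ξ g ∈ nz (H.map ξ)) :
    g ∈ nz H := (h.co hξ hQ h1 fun k => h2 (k hy)).2 ▸ hg

theorem Hyp.knrm {y : G} (h1 : PQ (zpowers y)) (h2 : ξ y ≠ 1) : ξ.ker ≤ nz (zpowers y) := fun g hg =>
  h.nrm hξ hQ h1 (mem_zpowers y) h2 (by rw [MonoidHom.mem_ker.1 hg]; exact one_mem _)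

theorem Hyp.comm1 {y z r : G} {p q j k : ℕ} (hp : p.Prime) (hq : q.Prime) (hpq : p ≠ q) (hy : y ^ p ^ j = 1)
    (hz : z ^ q ^ k = 1) (y1 : ξ y ≠ 1) (z1 : ξ z ≠ 1) (hr : r ∈ ξ.ker) :
    r⁻¹ * y * r * y⁻¹ ∈ zpowers y ∧ Commute z (r⁻¹ * y * r * y⁻¹) := by
  haveI := Fact.mk hp
  haveI := Fact.mk hq
  have h1 : r⁻¹ * y * r * y⁻¹ ∈ zpowers y := mul_mem (Core.inv_conj_mem_of_le_normalizer
    (h.knrm hξ hQ (pq_of_p hp (p_zp hy)) y1) hr (mem_zpowers y)) (inv_mem (mem_zpowers y))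
  have h2 : r⁻¹ * y * r * y⁻¹ ∈ ξ.ker := by simp [MonoidHom.mem_ker.1 hr]
  refine ⟨h1, ?_⟩
  generalize r⁻¹ * y * r * y⁻¹ = a at h1 h2
  have hy' : (z * y * z⁻¹) ^ p ^ j = 1 := by rw [conj_pow, hy]; simp
  have h3 := IsPGroup.to_sup_of_normal_right' ((p_zp hy).to_inf_left (K := ξ.ker))
    ((p_zp hy').to_inf_left (K := ξ.ker)) (inf_le_right.trans (Core.le_normalizer_inf
      (h.knrm hξ hQ (pq_of_p hp (p_zp hy')) (by simpa using y1)) le_normalizer_of_normal))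
  have h4 := disjoint_def.1 (IsPGroup.disjoint_of_ne p q hpq _ _ h3 (p_zp hz)) (x := a⁻¹ * (z * a * z⁻¹))
    (mul_mem_sup (inv_mem ⟨h1, h2⟩) ⟨by
      obtain ⟨i, rfl⟩ := h1
      exact ⟨i, conj_zpow⟩, (inferInstance : ξ.ker.Normal).conj_mem a h2 z⟩) (by
      rw [← mul_assoc, ← mul_assoc]
      exact mul_mem (Core.inv_conj_mem_of_le_normalizer (h.knrm hξ hQ (pq_of_p hq (p_zp hz)) z1) h2 (mem_zpowers z))
        (inv_mem (mem_zpowers z)))
  exact mul_inv_eq_iff_eq_mul.1 (inv_mul_eq_one.1 h4).symm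

theorem Hyp.cent {y z : G} {p q j k : ℕ} (hp : p.Prime) (hq : q.Prime) (hpq : p ≠ q) (hy : y ^ p ^ j = 1)
    (hz : z ^ q ^ k = 1) (y1 : ξ y ≠ 1) (z1 : ξ z ≠ 1) : (z * y)⁻¹ * (y * z) ∈ centralizer (ξ.ker : Set G) := by
  intro r hr
  obtain ⟨a1, a2⟩ := h.comm1 hξ hQ hp hq hpq hy hz y1 z1 hr
  obtain ⟨⟨i, b1⟩, b2⟩ := h.comm1 hξ hQ hq hp hpq.symm hz hy z1 y1 hr
  have e1 : y * r = r * (r⁻¹ * y * r * y⁻¹) * y := by group
  have e2 : z * r = r * (r⁻¹ * z * r * z⁻¹) * z := by group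
  have c := (a2.zpow_left i).eq
  simp only at b1
  rw [b1] at c
  generalize r⁻¹ * y * r * y⁻¹ = a at *
  generalize r⁻¹ * z * r * z⁻¹ = b at *
  have k1 : y * z * r = r * a * b * (y * z) := by
    rw [mul_assoc, e2, ← mul_assoc, ← mul_assoc, e1, mul_assoc _ y, b2.eq]; group
  have k2 : z * y * r = r * a * b * (z * y) := by
    rw [mul_assoc, e1, ← mul_assoc, ← mul_assoc, e2, mul_assoc _ z, a2.eq, mul_assoc r a, ← c]; group
  rw [mul_assoc _ _ r, k1, ← mul_inv_eq_iff_eq_mul.2 k2]; group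

variable {π : SL(2, ZMod 13) →* Q} (hπ : ∀ g h, π g = π h ↔ g = h ∨ g = -h)
include hπ

theorem Hyp.eta [IsSimpleGroup Q] : ∃ η : SL(2, ZMod 13) →* G, ξ.comp η = π ∧ η.range ≤ centralizer (ξ.ker : Set G) := by
  have a := a4_13 hπ
  obtain ⟨y, hy, j, hj⟩ := lift_p hξ Nat.prime_two (y := π (tt _)) (by rw [sq, a.t2])
  obtain ⟨z, hz, k, hk⟩ := lift_p hξ Nat.prime_three a.x3
  have h1 := h.cent hξ hQ Nat.prime_two Nat.prime_three (by decide) hj hk (hy ▸ a.t1)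
    (by rw [hz]; exact fun e => a.nc (by simp [e]))
  have h2 : (centralizer (ξ.ker : Set G)).map ξ = ⊤ := (Normal.map inferInstance ξ hξ).eq_bot_or_eq_top.resolve_left
    fun e => a.nc (by
      have := (Subgroup.map_eq_bot_iff _).1 e h1
      rwa [MonoidHom.mem_ker, map_mul, map_inv, inv_mul_eq_one, map_mul, map_mul, hy, hz] at this)
  haveI : Group.IsPerfect SL(2, ZMod 13) := ⟨Matrix.SL2.commutator_eq_top (a := 2) (by decide) (by decide)⟩
  obtain ⟨η, e⟩ := H2.Schur.exists_lift_of_trivial (H2.Schur.has_SL2 (F := ZMod 13) (by simp) (by simp))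
    (ξ := ξ.comp (centralizer (ξ.ker : Set G)).subtype) ⟨fun q => by
      obtain ⟨g, hg, rfl⟩ : q ∈ (centralizer (ξ.ker : Set G)).map ξ := h2 ▸ mem_top q
      exact ⟨⟨g, hg⟩, rfl⟩, fun g hg => mem_center_iff.2 fun c => Subtype.ext (c.2 g hg).symm⟩ π
  exact ⟨(Subgroup.subtype _).comp η, e, by rintro _ ⟨g, rfl⟩; exact (η g).2⟩

variable {η : SL(2, ZMod 13) →* G} (e : ξ.comp η = π) (hc : η.range ≤ centralizer (ξ.ker : Set G))
include e hc

theorem Hyp.odd {r : G} {p k : ℕ} (hp : p.Prime) (h2 : p ≠ 2) (hr : r ∈ ξ.ker) (hk : r ^ p ^ k = 1)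
    {y s : SL(2, ZMod 13)} (hy : y ^ p = 1) (y1 : ¬ (y = 1 ∨ y = -1)) (ys : y * (s * y) = s) : r = 1 := by
  haveI := Fact.mk hp
  have e' : ∀ g, ξ (η g) = π g := DFunLike.congr_fun e
  have c : ∀ g, Commute r (η g) := fun g => hc ⟨g, rfl⟩ r hr
  have r1 := MonoidHom.mem_ker.1 hr
  have h0 : π y ≠ 1 := by rwa [← map_one π, Ne, hπ]
  have h1 : s * y * s⁻¹ = y⁻¹ := by rw [mul_inv_eq_iff_eq_mul, eq_inv_mul_iff_mul_eq, ys]
  have h3 : ξ (r * η y) = π y := by rw [map_mul, r1, one_mul, e']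
  obtain ⟨m, hm⟩ := mem_nz_zp.1 (h.nrm hξ hQ (pq_of_p hp (p_zp (k := k + 1) (by
    rw [(c y).mul_pow, pow_succ, pow_mul, hk, one_pow, one_mul, pow_mul', ← map_pow, hy, map_one, one_pow])))
    (mem_zpowers (r * η y)) (h3 ▸ h0) (g := η s) (by
      rw [MonoidHom.map_zpowers, mem_nz_zp, h3, e', ← map_inv, ← map_mul, ← map_mul, h1, map_inv]
      exact inv_mem (mem_zpowers _)))
  simp only at hm
  rw [← mul_assoc, ← (c s).eq, mul_assoc r, mul_assoc r, ← map_inv, ← map_mul, ← map_mul, h1, map_inv,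
    (c y).mul_zpow] at hm
  have h4 : π y ^ (m + 1) = 1 := by
    have := congrArg ξ hm
    simp only [map_mul, map_zpow, r1, _root_.one_zpow, one_mul, e', map_inv] at this
    rw [zpow_add_one, this, inv_mul_cancel]
  rw [← orderOf_dvd_iff_zpow_eq_one, orderOf_eq_prime (by rw [← map_pow, hy, map_one]) h0] at h4
  obtain ⟨n, hn⟩ := h4
  have h5 : η y ^ m = (η y)⁻¹ := by
    rw [eq_inv_iff_mul_eq_one, ← zpow_add_one, hn, _root_.zpow_mul, zpow_natCast, ← map_pow, hy, map_one,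
      _root_.one_zpow]
  rw [h5, mul_left_inj, ← mul_inv_eq_one, ← zpow_sub_one, ← orderOf_dvd_iff_zpow_eq_one] at hm
  obtain ⟨i, -, hi⟩ := (Nat.dvd_prime_pow hp).1 (orderOf_dvd_of_pow_eq_one hk)
  rcases i with _ | i
  · exact orderOf_eq_one_iff.1 hi
  have h6 : (p : ℤ) ∣ (2 : ℕ) := by
    have := (Dvd.intro _ hn.symm).sub ((show (p : ℤ) ∣ orderOf r from by rw [hi]; simp [pow_succ]).trans hm)
    rwa [show m + 1 - (m - 1) = (2 : ℕ) by push_cast; ring] at this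
  exact absurd ((Nat.prime_dvd_prime_iff_eq hp Nat.prime_two).1 (Int.natCast_dvd_natCast.1 h6)) h2

theorem Hyp.two {r : G} {k : ℕ} (hr : r ∈ ξ.ker) (hk : r ^ 2 ^ k = 1) : r ∈ η.range := by
  have a := a4_13 hπ
  have e' : ∀ g, ξ (η g) = π g := DFunLike.congr_fun e
  have c : ∀ g, Commute r (η g) := fun g => hc ⟨g, rfl⟩ r hr
  have r1 := MonoidHom.mem_ker.1 hr
  have h3 : ξ (r * η (tt _)) = π (tt _) := by rw [map_mul, r1, one_mul, e']
  have hn : zpowers (r * η (tt _)) ≤ nz (zpowers (η s13)) := zpowers_le.2 (mem_nz_zp.2 ⟨(3 : ℕ), by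
    simp only [zpow_natCast]
    rw [eq_mul_inv_iff_mul_eq, ← mul_assoc, ← ((c s13).pow_right 3).eq, mul_assoc, mul_assoc, ← map_pow, ← map_mul,
      ← map_mul]
    exact congrArg (r * η ·) (by decide +kernel)⟩)
  have hP := IsPGroup.to_sup_of_normal_right' (p_zp (p := 2) (k := k + 2) (y := r * η (tt _)) (by
    rw [(c _).mul_pow, pow_add, pow_mul, hk, one_pow, one_mul, pow_mul', ← map_pow,
      show tt (ZMod 13) ^ 2 ^ 2 = 1 by decide +kernel, map_one, one_pow])) (p_zp (p := 2) (k := 2) (y := η s13) (by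
    rw [← map_pow, show s13 ^ 2 ^ 2 = 1 by decide +kernel, map_one])) hn
  have h1 := h.nrm hξ hQ (pq_of_p Nat.prime_two hP) (mem_sup_left (mem_zpowers _)) (h3 ▸ a.t1) (g := η x13) (by
    rw [Subgroup.map_sup, MonoidHom.map_zpowers, MonoidHom.map_zpowers, h3, e', e', sup_comm]; exact a.x_mem)
  have h2 := (h1 _).1 (mem_sup_left (mem_zpowers _))
  rw [← mul_assoc, ← (c _).eq, mul_assoc r, mul_assoc r, ← map_mul, show x13 * tt _ = s13 * x13 by decide +kernel,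
    map_mul, mul_inv_cancel_right] at h2
  obtain ⟨_, ⟨i, rfl⟩, b, hb, e1⟩ := (Core.mem_sup_of_le_normalizer' hn).1
    ((Subgroup.mul_mem_cancel_right _ (mem_sup_right (mem_zpowers (η s13)))).1 h2)
  simp only at e1
  have h4 : Even i := by
    by_contra k
    obtain ⟨l, rfl⟩ := Int.not_even_iff_odd.1 k
    have h5 := congrArg ξ e1
    rw [r1, map_mul, map_zpow, h3, zpow_add_one, _root_.zpow_mul, zpow_two, a.t2, _root_.one_zpow, one_mul] at h5
    have h6 : ξ b ∈ zpowers (π s13) := by rw [← e', ← MonoidHom.map_zpowers]; exact mem_map_of_mem ξ hb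
    rcases two_zp' a.s2 h6 with k | k <;> rw [k] at h5
    · exact a.t1 (by simpa using h5.symm)
    · exact a.ne (mul_left_cancel (h5.symm.trans a.t2.symm))
  obtain ⟨l, rfl⟩ := h4
  have h5 : r ^ (1 - (l + l)) ∈ η.range := by
    rw [(c _).mul_zpow, mul_assoc, ← inv_mul_eq_iff_eq_mul] at e1
    rw [sub_eq_neg_add, zpow_add_one, _root_.zpow_neg, e1]
    exact mul_mem (zpow_mem (MonoidHom.mem_range.2 ⟨_, rfl⟩) _)
      ((zpowers_le (H := η.range)).2 (MonoidHom.mem_range.2 ⟨_, rfl⟩) hb)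
  refine Core.mem_of_pow_mem_of_coprime (n := (1 - (l + l)).natAbs) ?_ (Nat.Coprime.coprime_dvd_right
    (orderOf_dvd_of_pow_eq_one hk) ((Nat.coprime_two_right.2 (Int.natAbs_odd.2 ⟨-l, by ring⟩)).pow_right k))
  rcases Int.natAbs_eq (1 - (l + l)) with k | k <;> rw [k] at h5
  · rwa [zpow_natCast] at h5
  · rwa [_root_.zpow_neg, inv_mem_iff, zpow_natCast] at h5

theorem Hyp.ded {r g : G} {p k : ℕ} (hp : p.Prime) (hr : r ∈ ξ.ker) (hk : r ^ p ^ k = 1) (hg : g ∈ ξ.ker) :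
    g * r * g⁻¹ ∈ zpowers r := by
  haveI := Fact.mk Nat.prime_three
  have a := a4_13 hπ
  have e' : ∀ g, ξ (η g) = π g := DFunLike.congr_fun e
  have c : Commute r (η x13) := hc ⟨_, rfl⟩ r hr
  have c' : Commute g (η x13) := hc ⟨_, rfl⟩ g hg
  have x3 : η x13 ^ 3 = 1 := by rw [← map_pow, show x13 ^ 3 = 1 by decide +kernel, map_one]
  have h0 : π x13 ≠ 1 := fun e => a.nc (by simp [e])
  obtain ⟨m, hm⟩ := mem_nz_zp.1 (h.knrm hξ hQ (pq_zp (y := r * η x13) k 1 hp Nat.prime_three (by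
    rw [c.mul_pow, pow_mul, hk, one_pow, one_mul, pow_mul', pow_one, x3, one_pow]))
    (by rwa [map_mul, MonoidHom.mem_ker.1 hr, one_mul, e']) hg)
  simp only at hm
  rw [c.mul_zpow, ← mul_assoc, mul_assoc _ _ g⁻¹, ← c'.inv_left.eq, ← mul_assoc] at hm
  have h4 : π x13 ^ (m - 1) = 1 := by
    have := congrArg ξ hm
    simp only [map_mul, map_zpow, MonoidHom.mem_ker.1 hr, MonoidHom.mem_ker.1 hg, _root_.one_zpow, one_mul, e',
      map_inv, inv_one] at this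
    rw [zpow_sub_one, this, mul_inv_cancel]
  rw [← orderOf_dvd_iff_zpow_eq_one, orderOf_eq_prime a.x3 h0] at h4
  obtain ⟨n, hn⟩ := h4
  have h5 : η x13 ^ m = η x13 := by
    rw [← mul_inv_eq_one, ← zpow_sub_one, hn, _root_.zpow_mul, zpow_natCast, x3, _root_.one_zpow]
  rw [h5, mul_left_inj] at hm
  exact ⟨m, hm⟩

end Cfsg.Agent.GC.MN
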