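import Mathlib
import Cfsg.Agent.GC.Cl

/-! The abelian subgroup of order 64 is normal modulo the core. -/

set_option autoImplicit false
set_option linter.unusedSectionVars false

namespace Cfsg.Agent.GC

open Subgroup Cfsg.Agent.GW Cfsg.Agent.LocalEven Cfsg.Agent.BG Cfsg.Agent.Gs
open scoped commutatorElement

theorem comm_C {G : Type*} [Group G] {A : Subgroup G} {a c : G} (ha : a ∈ A) (hc : c ∈ 𝐂(A)) (g : G) :
    ⁅a, g * c⁆ = ⁅a, g⁆ := by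
  calc _ = a * g * (c * a⁻¹) * c⁻¹ * g⁻¹ := by simp only [commutatorElement_def]; group
    _ = _ := by rw [← hc _ (inv_mem ha)]; simp only [commutatorElement_def]; group

namespace TZ

section
variable {G : Type*} [Group G] [Finite G] {S A : Subgroup G} {j : M9 →* G} (h : TZ S A j) [hA : A.Normal]

local notation "π" => QuotientGroup.mk' 𝐂(A)

theorem one_iff {y : G} : π y = 1 ↔ y ∈ 𝐂(A) := QuotientGroup.eq_one_iff y

theorem odd_one {y : G} (hy : π y ∈ oddCore (G ⧸ 𝐂(A))) (h4 : y ^ 2 ^ 2 ∈ 𝐂(A)) : π y = 1 :=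
  mem_bot.1 ((Core.disjoint_pPrimeCore_of_isPGroup (isPGroup_zpowers (p := 2) (k := 2)
    (by rw [← map_pow, one_iff]; exact h4))).le_bot ⟨mem_zpowers _, hy⟩)

include h

theorem four_cent {V : Subgroup G} (hV : V ≤ S) (hAV : A ≤ V) (hc : Nat.card V = 256) (h1 : ∀ v ∈ V, v * v ∈ A)
    (h2 : ∀ v ∈ V, ∀ w ∈ V, ⁅v, w⁆ ∈ A) : oddCore (G ⧸ 𝐂(A)) ≤ 𝐂(V.map π) := by
  refine le_of_invol (E := V.map π) ?_ (Nat.coprime_two_right.1 (Core.pPrimeCore_coprime 2)) le_normalizer_of_normal ?_ ?_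
  · rintro _ ⟨v, hv, rfl⟩
    rw [← map_mul, one_iff]
    exact h.ab0 (h1 v hv)
  · have e := card_inf_mul_relIndex (π).ker V
    rw [relIndex_ker, QuotientGroup.ker_mk', show 𝐂(A) ⊓ V = A from
      le_antisymm (fun x hx => h.cent (hV hx.2) hx.1) (le_inf h.ab0 hAV), h.card, hc] at e
    omega
  rintro _ ⟨v, hv, rfl⟩ v1 y ⟨hy, hy'⟩ _ ⟨w, hw, rfl⟩
  obtain ⟨y, rfl⟩ := QuotientGroup.mk'_surjective _ y
  have vA : v ∉ A := fun e => v1 (one_iff.2 (h.ab0 e))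
  set R := (zpowers (π v)).comap π
  have hR : ∀ r ∈ R, ∃ u ∈ V, ∀ a ∈ A, ⁅a, r⁆ = ⁅a, u⁆ := fun r hr => by
    obtain ⟨n, e⟩ := mem_zpowers_iff.1 (mem_comap.1 hr)
    refine ⟨v ^ n, zpow_mem hv n, fun a ha => ?_⟩
    rw [← comm_C ha (c := (v ^ n)⁻¹ * r) (one_iff.1 (by rw [map_mul, map_inv, map_zpow, e, inv_mul_cancel]))
      (v ^ n), mul_inv_cancel_left]
  have yR : y ∈ 𝐍(R) := mem_normalizer_of_cj_le (cj_le_iff'.2 fun r hr => by
    obtain ⟨n, e⟩ := mem_zpowers_iff.1 (mem_comap.1 hr)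
    refine mem_comap.2 (mem_zpowers_iff.2 ⟨n, ?_⟩)
    rw [map_mul, map_mul, map_inv, ← e, ← conj_zpow, mem_centralizer_singleton_iff.1 hy', mul_inv_cancel_right])
  have q : ∀ a ∈ A, ∀ u ∈ V, ∀ u' ∈ V, ⁅⁅a, u⁆, u'⁆ = 1 := fun a ha u hu u' hu' =>
    h.quad (hV hu') (hV hu) (h1 _ hu') (h1 _ hu) (h2 _ hu' _ hu) ha
  have nA : ∀ g, g ∈ 𝐍(A) := fun g => le_normalizer_of_normal (mem_top g)
  have c1 : ∀ a ∈ A, ∀ u ∈ V, ⁅a, u⁆ ∈ A ⊓ 𝐂(R) := fun a ha u hu => ⟨h.comm_mem ha (nA u), fun r hr => by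
    obtain ⟨u', hu', e⟩ := hR r hr
    exact (commutatorElement_eq_one_iff_mul_comm.1 ((e _ (h.comm_mem ha (nA u))).trans (q a ha u hu u' hu'))).symm⟩
  have c2 : ⁅A, R⁆ ≤ A ⊓ 𝐂(R) := commutator_le.2 fun a ha r hr => by
    obtain ⟨u, hu, e⟩ := hR r hr
    rw [e a ha]; exact c1 a ha u hu
  have c3 : ⁅A, R⁆ ≤ cz w := commutator_le.2 fun a ha r hr => by
    obtain ⟨u, hu, e⟩ := hR r hr
    rw [e a ha]
    exact mem_centralizer_singleton_iff.2 (commutatorElement_eq_one_iff_mul_comm.1 (q a ha u hu w hw))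
  have vR : v ∈ R := mem_comap.2 (mem_zpowers _)
  have wK : w ∈ centMod A (A ⊓ 𝐂(R)) ⊓ centMod (A ⊓ 𝐂(R)) ⁅A, R⁆ ⊓ 𝐂(⁅A, R⁆) :=
    ⟨⟨mem_centMod_of inf_le_left fun a ha => c1 a ha w hw, mem_centMod_of c2 fun a ha => by
      obtain ⟨b, hb, e⟩ := h.mid (hV hv) (hV hw) (h1 v hv) vA (h1 w hw) (h2 v hv w hw) ha.1 (ha.2 v vR).symm
      rw [e]; exact commutator_mem_commutator hb vR⟩, fun a ha => mem_centralizer_singleton_iff.1 (c3 ha)⟩
  have n0 : 𝐍(R) ≤ 𝐍(A) := le_normalizer_of_normal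
  have n1 := le_normalizer_inf n0 (le_normalizer_centralizer le_rfl)
  have n2 := le_normalizer_commutator n0 le_rfl
  have kK := mul_mem (conj_mem_of_mem_normalizer (le_normalizer_inf (le_normalizer_inf (le_normalizer_centMod n0 n1)
    (le_normalizer_centMod n1 n2)) (le_normalizer_centralizer n2) yR) wK) (inv_mem wK)
  have e := odd_one (y := y * w * y⁻¹ * w⁻¹) (by
    simp only [map_mul, map_inv, mul_assoc]
    rw [← mul_assoc (π w)]
    exact mul_mem hy (Normal.conj_mem inferInstance _ (inv_mem hy) _))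
    (pow_four h.sq inf_le_left kK.1.1 kK.1.2 kK.2)
  simp only [map_mul, map_inv, one_mul, mul_inv_eq_iff_eq_mul] at e
  exact e.symm

theorem core_bot : oddCore (G ⧸ 𝐂(A)) = ⊥ := by
  have key : ∀ V : Subgroup M9, M9.A0 ≤ V → Nat.card V = 256 → (∀ v ∈ V, v * v ∈ M9.A0) →
      (∀ v ∈ V, ∀ w ∈ V, ⁅v, w⁆ ∈ M9.A0) → oddCore (G ⧸ 𝐂(A)) ≤ 𝐂((V.map j).map π) := fun V h1 h2 h3 h4 =>
    h.four_cent (by rintro _ ⟨v, -, rfl⟩; exact h.mS v) (h.eq ▸ map_mono h1)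
      (by rw [Subgroup.card_map_of_injective h.inj, h2])
      (by rintro _ ⟨v, hv, rfl⟩; rw [← map_mul, h.mem]; exact h3 v hv)
      (by rintro _ ⟨v, hv, rfl⟩ _ ⟨w, hw, rfl⟩; rw [← map_commutatorElement, h.mem]; exact h4 v hv w hw)
  have k1 := key _ M9.A0_le_Va M9.card_Va (fun _ => M9.Va_sq) fun _ h _ => M9.Va_comm h
  have k2 := key _ M9.A0_le_Vb M9.card_Vb (fun _ => M9.Vb_sq) fun _ h _ => M9.Vb_comm h
  refine eq_bot_iff.2 fun y hy => ?_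
  obtain ⟨y, rfl⟩ := QuotientGroup.mk'_surjective _ y
  refine odd_one hy (h.fin (le_normalizer_of_normal (mem_top y)) fun s hs => ?_)
  obtain ⟨m, rfl⟩ := h.exS hs
  obtain ⟨a, ha, b, hb, rfl⟩ := M9.dec m
  rw [← one_iff, map_commutatorElement, commutatorElement_eq_one_iff_mul_comm, map_mul, map_mul, ← mul_assoc,
    ← k1 hy _ (mem_map_of_mem _ (mem_map_of_mem _ ha)), mul_assoc,
    ← k2 hy _ (mem_map_of_mem _ (mem_map_of_mem _ hb)), mul_assoc]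

theorem nocfg {D B X : Subgroup G} (hD : D.IsSubnormal) (hB : B ≤ A) (hc : D ≤ 𝐂(B)) (hX : X ≤ D)
    (ho : Odd (Nat.card X)) (act : ∀ g ∈ D, ∃ x ∈ X, ∀ a ∈ A, g * a * g⁻¹ * (x * a * x⁻¹)⁻¹ ∈ B) : X ≤ 𝐂(A) := by
  have nA : ∀ g, ∀ a ∈ A, g * a * g⁻¹ ∈ A := fun g a ha => hA.conj_mem a ha g
  have nQ : D ≤ 𝐍(D ⊓ centMod A B) := le_normalizer_inf le_normalizer
    (le_normalizer_centMod le_normalizer_of_normal (hc.trans (cent_le_norm' B)))
  have q2 : ∀ q ∈ D ⊓ centMod A B, q * q ∈ 𝐂(A) := fun q hq a ha => by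
    have e1 := conj_eq q a
    have m := inv_mem (hq.2.2 a ha)
    generalize ⁅a, q⁆⁻¹ = b at *
    have e2 := Gs.conj_eq_of_cent (hc hq.1) m
    refine (mul_inv_eq_iff_eq_mul.1 ?_).symm
    calc q * q * a * (q * q)⁻¹ = q * (q * a * q⁻¹) * q⁻¹ := by group
      _ = q * (b * a) * q⁻¹ := by rw [e1]
      _ = q * b * q⁻¹ * (q * a * q⁻¹) := by group
      _ = a := by rw [e2, e1, ← mul_assoc, h.sq b (hB m), one_mul]
  obtain ⟨n, -, hn⟩ := (h.syl.map π).exists_cj_le (Q := (D ⊓ centMod A B).map π) (isPGroup_iff_mem.2 (by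
    rintro _ ⟨q, hq, rfl⟩
    exact ⟨1, by rw [pow_one, pow_two, ← map_mul, one_iff]; exact q2 q hq⟩)) (map_mono le_top)
  obtain ⟨n, rfl⟩ := QuotientGroup.mk'_surjective _ n
  have hs : ∀ q ∈ D ⊓ centMod A B, ∃ s ∈ S, π s = π (n * q * n⁻¹) ∧ s * s ∈ A ∧ ∀ a ∈ A, ⁅a, s⁆ = ⁅a, n * q * n⁻¹⁆ :=
    fun q hq => by
      obtain ⟨s, hs, e⟩ := mem_map.1 (cj_le_iff'.1 hn _ (mem_map_of_mem _ hq))
      rw [← map_inv, ← map_mul, ← map_mul] at e
      refine ⟨s, hs, e, h.cent (mul_mem hs hs) (one_iff.1 ?_), fun a ha => ?_⟩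
      · rw [map_mul, e, ← map_mul, one_iff, conj_mul]
        exact Normal.conj_mem inferInstance _ (q2 q hq) n
      · rw [← comm_C ha (c := s⁻¹ * (n * q * n⁻¹)) (one_iff.1 (by rw [map_mul, map_inv, e, inv_mul_cancel])),
          mul_inv_cancel_left]
  have tr : ∀ x ∈ D, ∀ q ∈ D ⊓ centMod A B, ∀ a ∈ A, ∃ b ∈ A, ⁅a, n * q * n⁻¹⁆ = ⁅b, n * (x * q * x⁻¹) * n⁻¹⁆ :=
    fun x hx q hq a ha => by
      have m : n⁻¹ * a * n ∈ A := by simpa using nA n⁻¹ a ha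
      refine ⟨n * (x * (n⁻¹ * a * n) * x⁻¹) * n⁻¹, nA _ _ (nA _ _ m), ?_⟩
      rw [← conjugate_commutatorElement, ← conjugate_commutatorElement, Gs.conj_eq_of_cent (hc hx) (hq.2.2 _ m),
        conjugate_commutatorElement]
      congr 1
      group
  have cm : ∀ x ∈ D, ∀ q ∈ D ⊓ centMod A B, π x * π q = π q * π x := fun x hx q hq => by
    have hq' := conj_mem_of_mem_normalizer (nQ hx) hq
    obtain ⟨s, s1, s2, s3, s4⟩ := hs q hq
    obtain ⟨t, t1, t2, t3, t4⟩ := hs _ hq'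
    have e := one_iff.2 (h.ab0 (h.inj' s1 t1 s3 t3 (fun a ha => by
      obtain ⟨b, hb, e⟩ := tr x hx q hq a ha
      exact ⟨b, hb, by rw [s4 a ha, t4 b hb, e]⟩) fun a ha => by
      obtain ⟨b, hb, e⟩ := tr x⁻¹ (inv_mem hx) _ hq' a ha
      exact ⟨b, hb, by rw [t4 a ha, s4 b hb, e]; congr 1; group⟩))
    rw [map_mul, map_inv, mul_inv_eq_one, s2, t2] at e
    simp only [map_mul, map_inv, mul_left_inj, mul_right_inj] at e
    exact (eq_mul_inv_iff_mul_eq.1 e).symm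
  have n1 : D.map π ≤ 𝐍(X.map π) := le_normalizer_of_cj_le (by
    rintro _ ⟨g, hg, rfl⟩
    obtain ⟨x, hx, e⟩ := act g hg
    have hq : x⁻¹ * g ∈ D ⊓ centMod A B := ⟨D.mul_mem (D.inv_mem (hX hx)) hg, mem_centMod_of hB fun a ha => by
      have := inv_mem (inv_conj_mem_of_mem_normalizer (cent_le_norm' B (hc (hX hx))) (e a ha))
      convert this using 1
      simp only [commutatorElement_def]
      group⟩
    refine cj_le_iff'.2 ?_
    rintro _ ⟨y, hy, rfl⟩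
    have e1 := cm y (hX hy) _ hq
    refine ⟨x * y * x⁻¹, mul_mem (mul_mem hx hy) (inv_mem hx), ?_⟩
    simp only [map_mul, map_inv] at e1 ⊢
    calc _ = π x * (π y * ((π x)⁻¹ * π g)) * (π g)⁻¹ := by group
      _ = _ := by rw [e1]; group)
  have sn : (X.map π).IsSubnormal := H2.SN.top_iff.1 ((H2.SN.top_iff.2 (hD.map (QuotientGroup.mk'_surjective _))).trans
    (H2.SN.of_normal (map_mono hX) n1))
  have := Core.le_pPrimeCore_of_isSubnormal (p := 2) sn (Nat.coprime_two_right.2 (ho.of_dvd_nat (card_map_dvd X _)))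
  rw [show pPrimeCore 2 (G ⧸ 𝐂(A)) = ⊥ from h.core_bot] at this
  exact fun x hx => one_iff.1 (this (mem_map_of_mem _ hx))

end

universe u

theorem normal {G : Type u} [Group G] [Finite G] {S A : Subgroup G} {j : M9 →* G} (h : TZ S A j) :
    (A ⊔ oddCore G).Normal := by
  refine normal_of h.sc fun D B X c => c.not_cent fun x hx y hy => ?_
  have h' : TZ (S.subgroupOf 𝐍(A)) (A.subgroupOf 𝐍(A)) (j.codRestrict _ fun m => h.nA (h.mS m)) :=
    ⟨subgroupOf_self 𝐍(A) ▸ (h.syl.mono h.nA le_top).subgroupOf le_rfl,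
      fun _ _ e => h.inj (congrArg Subtype.val e), by
        ext g
        refine ⟨by rintro ⟨m, rfl⟩; exact h.mS m, fun hg => ?_⟩
        obtain ⟨m, e⟩ := h.exS hg
        exact ⟨m, Subtype.ext e⟩, by
        ext g
        refine ⟨by rintro ⟨m, hm, rfl⟩; exact h.mem.2 hm, fun hg => ?_⟩
        obtain ⟨m, hm, e⟩ := h.exA hg
        exact ⟨m, hm, Subtype.ext e⟩⟩
  have hXN : X ≤ 𝐍(A) := c.Xle.trans c.sn.le
  have := h'.nocfg (B := B.subgroupOf 𝐍(A)) (X := X.subgroupOf 𝐍(A)) c.sn.isSubnormal_subgroupOf (subgroupOf_mono _ c.le)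
    (fun x hx y hy => Subtype.ext (c.cent hx y hy)) (subgroupOf_mono _ c.Xle) (by rw [card_subgroupOf hXN]; exact c.odd)
    fun g hg => by
      obtain ⟨x, hx, e⟩ := c.act g hg
      exact ⟨⟨x, hXN hx⟩, hx, fun a ha => e a ha⟩
  exact congrArg Subtype.val (this (x := ⟨x, hXN hx⟩) hx ⟨y, le_normalizer hy⟩ hy)

end TZ

theorem tz_of {G : Type*} [Group G] {S : Subgroup G} (hS : IsSylowIn 2 S ⊤) (e : S ≃* M9) :
    ∃ A j, TZ S A j :=
  ⟨_, S.subtype.comp e.symm.toMonoidHom, hS, S.subtype_injective.comp e.symm.injective, by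
    ext g
    exact ⟨by rintro ⟨m, rfl⟩; exact (e.symm m).2, fun hg => ⟨e ⟨g, hg⟩, by simp⟩⟩, rfl⟩

end Cfsg.Agent.GC
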