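import Mathlib
import Cfsg.Agent.GC.M9
import Cfsg.Agent.GC.U4
import Cfsg.Agent.Golay.AGL

/-! A model of the Sylow 2-subgroup of the Mathieu group of degree 24. -/

set_option autoImplicit false

namespace Cfsg.Agent.GC

open Subgroup

/-- Unitriangular matrices of degree five over the field with two elements. -/
@[ext] structure U5 where
  m : M9
  z : ZMod 2
  deriving DecidableEq

namespace U5

instance instFintypeU5 : Fintype U5 := Fintype.ofEquiv (M9 × ZMod 2)
  ⟨fun x => ⟨x.1, x.2⟩, fun x => (x.m, x.z), fun _ => rfl, fun _ => rfl⟩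

instance instMulU5 : Mul U5 := ⟨fun x y => ⟨x.m * y.m, x.z + y.z + x.m.p * y.m.u + x.m.q * y.m.v + x.m.r * y.m.w⟩⟩
instance instOneU5 : One U5 := ⟨⟨1, 0⟩⟩
instance instInvU5 : Inv U5 := ⟨fun x => ⟨x.m⁻¹, -x.z - x.m⁻¹.p * x.m.u - x.m⁻¹.q * x.m.v - x.m⁻¹.r * x.m.w⟩⟩

theorem mul_def (x y : U5) :
    x * y = ⟨x.m * y.m, x.z + y.z + x.m.p * y.m.u + x.m.q * y.m.v + x.m.r * y.m.w⟩ := rfl
theorem one_def : (1 : U5) = ⟨1, 0⟩ := rfl
theorem inv_def (x : U5) :
    x⁻¹ = ⟨x.m⁻¹, -x.z - x.m⁻¹.p * x.m.u - x.m⁻¹.q * x.m.v - x.m⁻¹.r * x.m.w⟩ := rfl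

instance instGroupU5 : Group U5 := Group.ofLeftAxioms
  (fun x y z => U5.ext (mul_assoc _ _ _) (by simp only [mul_def, M9.mul_def]; ring))
  (fun x => U5.ext (one_mul _) (by simp only [mul_def, one_def, M9.one_def]; ring))
  (fun x => U5.ext (inv_mul_cancel _) (by simp only [mul_def, one_def, inv_def]; ring))

theorem card_U5 : Nat.card U5 = 1024 := by rw [Nat.card_eq_fintype_card]; decide +kernel

/-- The matrix. -/
def mat : U5 →* Matrix (Fin 5) (Fin 5) (ZMod 2) where
  toFun x := !![1, x.m.p, x.m.q, x.m.r, x.z; 0, 1, x.m.a, x.m.c, x.m.u; 0, 0, 1, x.m.b, x.m.v; 0, 0, 0, 1, x.m.w;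
    0, 0, 0, 0, 1]
  map_one' := by decide
  map_mul' x y := by
    ext i j
    fin_cases i <;> fin_cases j <;> simp [mul_def, M9.mul_def, Matrix.mul_apply, Fin.sum_univ_five] <;> ring

theorem mat_inj : Function.Injective mat := fun _ _ h =>
  U5.ext (M9.ext (congrFun (congrFun h 0) 1) (congrFun (congrFun h 0) 2) (congrFun (congrFun h 0) 3)
    (congrFun (congrFun h 1) 4) (congrFun (congrFun h 2) 4) (congrFun (congrFun h 3) 4) (congrFun (congrFun h 1) 2)
    (congrFun (congrFun h 2) 3) (congrFun (congrFun h 1) 3)) (congrFun (congrFun h 0) 4)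

theorem equiv_M24 (P : Sylow 2 M24) : Nonempty (P ≃* U5) := by
  obtain ⟨ψ, h1, h2, -⟩ := Golay.oct_hom
  let φ := Golay.toSL2.comp mat.toHomUnits
  have h3 : ∀ x, φ x ∈ ψ.range := fun x => by
    rw [h2, MulAction.mem_stabilizer_iff]
    change (mat x).mulVec _ = _
    ext i
    fin_cases i <;> simp [mat]
  refine sylow_equiv (((inclusion inf_le_left).comp (ψ.ofInjective h1).symm.toMonoidHom).comp (φ.codRestrict _ h3))
    (((inclusion_injective inf_le_left).comp (ψ.ofInjective h1).symm.injective).comp fun x y h =>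
      mat_inj (congrArg (fun t => t.1.1) h)) ?_ P
  rw [card_U5, Golay.card_M24]
  decide +kernel

/-- The projection. -/
def pr : U5 →* M9 where
  toFun := U5.m
  map_one' := rfl
  map_mul' _ _ := rfl

theorem pr_surj : Function.Surjective pr := fun m => ⟨⟨m, 0⟩, rfl⟩

theorem ker_pr : pr.ker = center U5 := by
  ext x
  rw [MonoidHom.mem_ker, mem_center_iff]
  refine ⟨fun h g => ?_, fun h => ?_⟩
  · replace h : x.m = 1 := h
    refine U5.ext (by simp [mul_def, h]) ?_
    simp [mul_def, h, M9.one_def, add_comm]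
  · have key : ∀ x : U5, (∀ g ∈ [M9.gP, M9.gW, M9.ga, M9.gb], (⟨g, 0⟩ : U5) * x = x * ⟨g, 0⟩) → x.m = 1 := by
      decide +kernel
    exact key x fun g _ => h _

theorem card_center : Nat.card (center U5) = 2 := by
  have := card_eq_card_quotient_mul_card_subgroup pr.ker
  rw [Nat.card_congr (QuotientGroup.quotientKerEquivOfSurjective pr pr_surj).toEquiv, card_U5, M9.card_M9,
    ker_pr] at this
  omega

end U5

theorem quot_equiv {P : Type*} [Group P] (e : P ≃* U5) : Nonempty ((P ⧸ center P) ≃* M9) := by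
  have h : (U5.pr.comp e.toMonoidHom).ker = center P := by
    ext x
    rw [MonoidHom.mem_ker, MonoidHom.comp_apply, ← MonoidHom.mem_ker, U5.ker_pr, mem_center_iff, mem_center_iff]
    refine ⟨fun h g => e.injective (by rw [map_mul, map_mul]; exact h _), fun h g => ?_⟩
    obtain ⟨g, rfl⟩ := e.surjective g
    change e g * e x = e x * e g
    rw [← map_mul, ← map_mul, h]
  exact ⟨(QuotientGroup.quotientMulEquivOfEq h.symm).trans
    (QuotientGroup.quotientKerEquivOfSurjective _ (U5.pr_surj.comp e.surjective))⟩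

end Cfsg.Agent.GC
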